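import Cfsg.Agent.Linear.Elusive.Forms.Basic

/-!
Adjoints of polynomials in an isometry of finite order.
-/

set_option autoImplicit false
set_option linter.unusedSectionVars false

namespace Cfsg.Agent.Linear.Elusive.Forms

open Polynomial Module

universe u v

variable {F : Type u} [Field F] {V : Type v} [AddCommGroup V] [Module F V] {φ : RForm F V}
  [FiniteDimensional F V]

section power

variable {p : ℕ} [Fact p.Prime] [CharP F p]

/-- If `σ c = c ^ s`, `s` a power of `p`, and `T ^ (s + 1) = 1`, the adjoint of `P(T)` is `(P ^ s)(T)`. -/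
theorem adjoint_aeval {T : End F V} (hT : φ.Iso T) {s : ℕ} (hs : ∃ e, s = p ^ e)
    (hc : ∀ c, φ.σ c = c ^ s) (hTs : T ^ (s + 1) = 1) (P : F[X]) (x y : V) :
    φ.B (aeval T P x) y = φ.B x (aeval T (P ^ s) y) := by
  induction P using Polynomial.induction_on' generalizing x y with
  | add f g hf hg =>
    obtain ⟨e, rfl⟩ := hs
    rw [add_pow_char_pow, map_add, map_add, LinearMap.add_apply, LinearMap.add_apply, map_add,
      LinearMap.add_apply, map_add, hf, hg]
  | monomial k a =>
    have key : φ.B x ((T ^ (k * s)) y) = φ.B ((T ^ k) x) y := by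
      rw [← hT.pow k x, ← Module.End.mul_apply, ← pow_add,
        show k + k * s = (s + 1) * k by ring, pow_mul, hTs, one_pow, Module.End.one_apply]
    rw [monomial_pow, aeval_monomial, aeval_monomial, Module.End.mul_apply, Module.End.mul_apply,
      Module.algebraMap_end_apply, Module.algebraMap_end_apply, map_smul, LinearMap.smul_apply,
      LinearMap.map_smulₛₗ, key, ← hc, φ.invol]

/-- Kernels of coprime polynomials are orthogonal. -/
theorem ker_le_perp {T : End F V} (hT : φ.Iso T) {s : ℕ} (hs : ∃ e, s = p ^ e)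
    (hc : ∀ c, φ.σ c = c ^ s) (hTs : T ^ (s + 1) = 1) {g h : F[X]} (hgh : IsCoprime g h) :
    LinearMap.ker (aeval T h) ≤ φ.perp (LinearMap.ker (aeval T g)) := by
  intro w hw v hv
  rw [LinearMap.mem_ker] at hv hw
  obtain ⟨a, b, hab⟩ := hgh
  have h1 : v = aeval T (b * h) v := by
    conv_lhs => rw [← Module.End.one_apply (R := F) v, ← map_one (aeval T (R := F)), ← hab]
    rw [map_add, LinearMap.add_apply, map_mul, Module.End.mul_apply, hv, map_zero, zero_add]
  rw [h1, adjoint_aeval hT hs hc hTs]
  have h0 : s ≠ 0 := by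
    obtain ⟨e, rfl⟩ := hs
    exact pow_ne_zero _ (Fact.out : p.Prime).ne_zero
  obtain ⟨c, hcs⟩ : h ∣ (b * h) ^ s := (dvd_mul_left h b).trans (dvd_pow_self _ h0)
  rw [hcs, mul_comm, map_mul, Module.End.mul_apply, hw, map_zero, map_zero]

end power

/-- The fixed space is orthogonal to the moved space. -/
theorem move_le_perp_fix {p r : ℕ} [Fact p.Prime] [CharP F p] [Fintype F] [Fact r.Prime] (hrp : r ≠ p)
    {T : End F V} (hT : φ.Iso T) : moveSpace r T ≤ φ.perp (fixSpace T) := by
  intro w hw v hv
  rw [moveSpace, LinearMap.mem_ker, cyclotomic_prime, map_sum, LinearMap.sum_apply] at hw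
  have hfix : ∀ k, (T ^ k) v = v := fun k => by
    induction k with
    | zero => simp
    | succ k ih => rw [pow_succ, Module.End.mul_apply, mem_fixSpace.1 hv, ih]
  have h1 : (r : F) * φ.B v w = 0 := by
    have h2 := congrArg (φ.B v) hw
    rw [map_sum, map_zero] at h2
    rw [← h2]
    have h3 : ∀ k ∈ Finset.range r, φ.B v (aeval T ((X : F[X]) ^ k) w) = φ.B v w := fun k _ => by
      rw [map_pow, aeval_X]
      conv_lhs => rw [← hfix k]
      exact hT.pow k v w
    rw [Finset.sum_congr rfl h3, Finset.sum_const, Finset.card_range, nsmul_eq_mul]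
  exact (mul_eq_zero.1 h1).resolve_left (cast_ne_zero hrp)

/-- The kernel of a factor coprime to its twisted reciprocal is totally isotropic. -/
theorem ti_ker_of_coprime {T : End F V} (hT : φ.Iso T) {r : ℕ} (hr : 0 < r) (hTr : T ^ r = 1)
    {g : F[X]} (hg : IsCoprime g ((g.map φ.σ).comp (X ^ (r - 1)))) :
    φ.TI (LinearMap.ker (aeval T g)) := by
  have hadj : ∀ (P : F[X]) (x y : V),
      φ.B (aeval T P x) y = φ.B x (aeval T ((P.map φ.σ).comp (X ^ (r - 1))) y) := by
    intro P
    induction P using Polynomial.induction_on' with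
    | add f g hf hg =>
      intro x y
      rw [map_add, LinearMap.add_apply, map_add, LinearMap.add_apply, Polynomial.map_add, add_comp,
        map_add, LinearMap.add_apply, map_add, hf, hg]
    | monomial k a =>
      intro x y
      have key : φ.B x ((T ^ ((r - 1) * k)) y) = φ.B ((T ^ k) x) y := by
        rw [← hT.pow k x, ← Module.End.mul_apply, ← pow_add,
          show k + (r - 1) * k = r * k by
            obtain ⟨r', rfl⟩ := Nat.exists_eq_add_of_lt hr
            simp only [zero_add, Nat.add_sub_cancel]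
            ring,
          pow_mul, hTr, one_pow, Module.End.one_apply]
      rw [aeval_comp, map_monomial, aeval_monomial, aeval_monomial, map_pow, aeval_X, ← pow_mul,
        Module.End.mul_apply, Module.End.mul_apply, Module.algebraMap_end_apply,
        Module.algebraMap_end_apply, map_smul, LinearMap.smul_apply,
        LinearMap.map_smulₛₗ, key, φ.invol]
  obtain ⟨a, b, hab⟩ := hg
  intro w hw v hv
  rw [LinearMap.mem_ker] at hv hw
  have h1 : w = aeval T (b * (g.map φ.σ).comp (X ^ (r - 1))) w := by
    conv_lhs => rw [← Module.End.one_apply (R := F) w, ← map_one (aeval T (R := F)), ← hab]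
    rw [map_add, LinearMap.add_apply, map_mul, Module.End.mul_apply, hw, map_zero, zero_add]
  rw [h1, mul_comm, map_mul, Module.End.mul_apply, ← hadj, hv, map_zero, LinearMap.zero_apply]

/-- An irreducible factor of the cyclotomic polynomial is coprime to its twisted reciprocal when
`-1` is not an exponent. -/
theorem coprime_twist {p r q₀ : ℕ} [Fact p.Prime] [CharP F p] [Fintype F] [Fact r.Prime]
    (hrp : r ≠ p) (σ : F →+* F) (hq₀ : ∃ e, q₀ = p ^ e) (hσ : ∀ c, σ c = c ^ q₀)
    (ht : ∀ t : ℕ, ¬ r ∣ q₀ * Fintype.card F ^ t + 1) {g : F[X]} (hg : Irreducible g)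
    (hgd : g ∣ cyclotomic r F) : IsCoprime g ((g.map σ).comp (X ^ (r - 1))) := by
  refine hg.coprime_iff_not_dvd.2 fun hdvd => ?_
  haveI : Fact (Irreducible g) := ⟨hg⟩
  haveI : Finite (AdjoinRoot g) := by
    have := (AdjoinRoot.powerBasis hg.ne_zero).finite
    exact Module.finite_of_finite F
  haveI : CharP (AdjoinRoot g) p := charP_of_injective_algebraMap (algebraMap F _).injective p
  set a := AdjoinRoot.root g
  have hga : aeval a g = 0 := by rw [AdjoinRoot.aeval_eq, AdjoinRoot.mk_self]
  have hcyc : aeval a (cyclotomic r F) = 0 := by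
    obtain ⟨c, hc⟩ := hgd
    rw [hc, map_mul, hga, zero_mul]
  have hroot : IsPrimitiveRoot a r := by
    haveI : NeZero (r : AdjoinRoot g) := ⟨by
      rw [← map_natCast (algebraMap F (AdjoinRoot g))]
      exact fun h => cast_ne_zero (F := F) (p := p) hrp
        ((algebraMap F _).injective (h.trans (map_zero _).symm))⟩
    rw [← Polynomial.isRoot_cyclotomic_iff, ← map_cyclotomic r (algebraMap F (AdjoinRoot g))]
    rw [IsRoot.def, eval_map, ← aeval_def]
    exact hcyc
  have har : aeval (a ^ (r - 1)) (g.map σ) = 0 := by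
    obtain ⟨c, hc⟩ := hdvd
    have := congrArg (aeval a) hc
    rwa [aeval_comp, map_pow, aeval_X, map_mul, hga, zero_mul] at this
  obtain ⟨e, he⟩ := hq₀
  have hfrob : ∀ x : AdjoinRoot g, aeval (x ^ q₀) (g.map σ) = (aeval x g) ^ q₀ := by
    intro x
    rw [he, ← iterateFrobenius_def (R := AdjoinRoot g) p e (aeval x g), aeval_def, aeval_def,
      eval₂_map, ← iterateFrobenius_def (R := AdjoinRoot g) p e x,
      hom_eval₂ g (algebraMap F (AdjoinRoot g)) (iterateFrobenius (AdjoinRoot g) p e) x]
    congr 1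
    refine RingHom.ext fun c => ?_
    rw [RingHom.comp_apply, RingHom.comp_apply, hσ, iterateFrobenius_def, map_pow, he]
  obtain ⟨b, hb⟩ := (Finite.injective_iff_surjective.1
    (iterateFrobenius (AdjoinRoot g) p e).injective) (a ^ (r - 1))
  rw [iterateFrobenius_def, ← he] at hb
  rw [← hb, hfrob] at har
  have hgb : aeval b g = 0 := eq_zero_of_pow_eq_zero har
  let ψ : AdjoinRoot g →ₐ[F] AdjoinRoot g :=
    AdjoinRoot.liftAlgHom g (Algebra.ofId F _) b (by rw [← hgb, aeval_def]; rfl)
  let ψ' : Gal(AdjoinRoot g/F) := AlgEquiv.ofBijective ψ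
    ⟨ψ.injective, Finite.injective_iff_surjective.1 ψ.injective⟩
  obtain ⟨t, ht'⟩ := (FiniteField.bijective_frobeniusAlgEquivOfAlgebraic_pow F (AdjoinRoot g)).2 ψ'
  have hab : b = a ^ (Fintype.card F ^ (t : ℕ)) := by
    have := congrArg (fun f : Gal(AdjoinRoot g/F) => f a) ht'
    simp only [AlgEquiv.coe_pow, FiniteField.coe_frobeniusAlgEquivOfAlgebraic_iterate] at this
    rw [this]
    show b = ψ a
    simp [ψ, a]
  apply ht t
  rw [← hroot.pow_eq_one_iff_dvd, pow_succ, mul_comm q₀, pow_mul, ← hab, hb, ← pow_succ,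
    Nat.sub_add_cancel (Fact.out : r.Prime).one_le, hroot.pow_eq_one]

end Cfsg.Agent.Linear.Elusive.Forms
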