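import Cfsg.Agent.Linear.Elusive.Forms.UnipNd

/-!
Unipotent isometries of alternating forms.
-/

set_option autoImplicit false
set_option linter.unusedSectionVars false

namespace Cfsg.Agent.Linear.Elusive.Forms

open Module Cfsg.Agent.H99

universe u v

variable {F : Type u} [Field F] {V : Type v} [AddCommGroup V] [Module F V] {φ : RForm F V}

theorem RForm.alt_swap (halt : ∀ x, φ.B x x = 0) (u v : V) : φ.B v u = - φ.B u v := by
  have h := halt (u + v)
  simp only [map_add, LinearMap.add_apply, halt, zero_add, add_zero] at h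
  linear_combination h

/-- A vector with a non-zero diagonal value gives a Gram family of size one. -/
theorem gram_one {β : V → V → F} {v : V} (hv : β v v ≠ 0) :
    ∀ c : Fin 1 → F, (∀ l, ∑ k, c k * β ((fun _ : Fin 1 => v) k) ((fun _ : Fin 1 => v) l) = 0) → c = 0 := by
  intro c h
  have h0 := h 0
  rw [Fin.sum_univ_one] at h0
  funext k
  rw [Subsingleton.elim k 0]
  exact (mul_eq_zero.1 h0).resolve_right hv

/-- A hyperbolic pair gives a Gram family of size two. -/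
theorem gram_two {β : V → V → F} {v w : V} (h1 : β v v = 0) (h2 : β w w = 0) (h3 : β v w ≠ 0)
    (h4 : β w v ≠ 0) : ∀ c : Fin 2 → F, (∀ l, ∑ k, c k * β (![v, w] k) (![v, w] l) = 0) → c = 0 := by
  intro c h
  have a := h 0
  have b := h 1
  simp [Fin.sum_univ_two, h1, h2, h3, h4] at a b
  funext k
  fin_cases k
  · exact b
  · exact a

variable [FiniteDimensional F V]

/-- A plane through two vectors that are not orthogonal. -/
theorem exists_plane {v w : V} (hv : φ.B v v = 0) (hw : φ.B w w = 0) (h : φ.B v w ≠ 0) :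
    φ.Nd (Submodule.span F {v, w}) ∧ finrank F ↥(Submodule.span F {v, w}) = 2 := by
  classical
  have hset : ({v, w} : Set V) = Set.range ![v, w] := (Matrix.range_cons_cons_empty v w _).symm
  have hi : (Submodule.span F {v, w}).map (0 : End F V) ≤ Submodule.span F {v, w} := by simp
  obtain ⟨P, hP, hPn, -, hPd⟩ := chain_piece (N := (0 : End F V)) (φ := φ) (A := Submodule.span F {v, w})
    (by rw [add_zero]; exact fun _ _ => rfl) hi (e := 1) le_rfl (fun x _ => by simp) ![v, w]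
    (fun k => Submodule.subset_span (by fin_cases k <;> simp))
    (gram_two (β := fun a b => φ.B (((0 : End F V) ^ (1 - 1)) a) b) (by simpa using hv) (by simpa using hw)
      (by simpa using h) (by simpa using fun h0 => h (φ.symm_zero h0)))
  have h2 : finrank F P = 2 := by rw [← imDim_zero (0 : End F V) P, hPd]
  have h3 : finrank F ↥(Submodule.span F {v, w}) ≤ 2 := by
    rw [hset]
    exact (finrank_range_le_card ![v, w]).trans (Fintype.card_fin 2).le
  have heq : P = Submodule.span F {v, w} := Submodule.eq_of_le_of_finrank_le hP (by omega)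
  rw [← heq]
  exact ⟨hPn, h2⟩

/-- The alternating case. -/
theorem exists_plane_alt (halt : ∀ x, φ.B x x = 0) {v w : V} (h : φ.B v w ≠ 0) :
    φ.Nd (Submodule.span F {v, w}) ∧ finrank F ↥(Submodule.span F {v, w}) = 2 :=
  exists_plane (halt v) (halt w) h

/-- The subspaces fixed pointwise up to a scalar contain planes. -/
theorem exists_scalar_plane (halt : ∀ x, φ.B x x = 0) {T : End F V} {c : F} {A : Submodule F V}
    (hA : φ.Nd A) (hne : A ≠ ⊥) (hTc : ∀ v ∈ A, T v = c • v) :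
    ∃ P ≤ A, φ.Nd P ∧ Inv T P ∧ finrank F P = 2 := by
  obtain ⟨v, hv, hv0⟩ := A.exists_mem_ne_zero_of_ne_bot hne
  obtain ⟨w, hw, hvw⟩ := RForm.nd_iff.1 hA v hv hv0
  obtain ⟨h1, h2⟩ := exists_plane_alt halt hvw
  have hle : Submodule.span F {v, w} ≤ A := Submodule.span_le.2 (Set.pair_subset hv hw)
  exact ⟨_, hle, h1, inv_of_forall fun x hx => by rw [hTc x (hle hx)]; exact Submodule.smul_mem _ c hx, h2⟩

/-- Selection of pieces in odd characteristic. -/
theorem alt_select (halt : ∀ x, φ.B x x = 0) (hσ : φ.σ = RingHom.id F) (h2 : (2 : F) ≠ 0) {N : End F V}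
    (hN : φ.Iso (1 + N)) (A : Submodule F V) (hAi : A.map N ≤ A) (e : ℕ) (he : 1 ≤ e)
    (hAe : ∀ x ∈ A, (N ^ e) x = 0) (hβ : ∃ x ∈ A, ∃ y ∈ A, φ.B ((N ^ (e - 1)) x) y ≠ 0) :
    ∃ v : Fin (if Odd e then 2 else 1) → V, (∀ k, v k ∈ A) ∧
      ∀ c : Fin (if Odd e then 2 else 1) → F,
        (∀ l, ∑ k, c k * φ.B ((N ^ (e - 1)) (v k)) (v l) = 0) → c = 0 := by
  obtain ⟨x, hx, y, hy, hxy⟩ := hβ
  have hflip : ∀ a ∈ A, ∀ b ∈ A,
      φ.B ((N ^ (e - 1)) b) a = (-1) ^ e * φ.B ((N ^ (e - 1)) a) b := fun a ha b hb => by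
    have h := chain_top hN hAi hAe (e - 1) 0 (by omega) a ha b hb
    rw [pow_zero, Module.End.one_apply] at h
    rw [RForm.alt_swap halt a, h]
    conv_rhs => rw [show e = e - 1 + 1 by omega, pow_succ]
    simp
  by_cases ho : Odd e
  · rw [if_pos ho]
    have hdiag : ∀ a ∈ A, φ.B ((N ^ (e - 1)) a) a = 0 := fun a ha => by
      have h := hflip a ha a ha
      rw [ho.neg_one_pow] at h
      exact (mul_eq_zero.1 (show (2 : F) * φ.B ((N ^ (e - 1)) a) a = 0 by linear_combination h)).resolve_left h2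
    refine ⟨![x, y], fun k => by fin_cases k <;> assumption,
      gram_two (β := fun a b => φ.B ((N ^ (e - 1)) a) b) (hdiag x hx) (hdiag y hy) hxy ?_⟩
    show φ.B ((N ^ (e - 1)) y) x ≠ 0
    rw [hflip x hx y hy, ho.neg_one_pow]
    simpa using hxy
  · rw [if_neg ho]
    obtain ⟨v, hv, hvv⟩ : ∃ v ∈ A, φ.B ((N ^ (e - 1)) v) v ≠ 0 := by
      by_contra hno
      push Not at hno
      have h := hno (x + y) (add_mem hx hy)
      simp only [map_add, LinearMap.add_apply, hno x hx, hno y hy, hflip x hx y hy,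
        (Nat.not_odd_iff_even.1 ho).neg_one_pow, zero_add, add_zero, one_mul, ← two_mul] at h
      exact hxy ((mul_eq_zero.1 h).resolve_left h2)
    exact ⟨fun _ => v, fun _ => hv, gram_one (β := fun a b => φ.B ((N ^ (e - 1)) a) b) hvv⟩

/-- A piece for an involution in characteristic two. -/
theorem two_piece (halt : ∀ x, φ.B x x = 0) [CharP F 2] {N : End F V}
    (hN : φ.Iso (1 + N)) (hN2 : N ^ 2 = 0) {A : Submodule F V} (hA : φ.Nd A) (hAi : A.map N ≤ A)
    (hne : A ≠ ⊥) :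
    ∃ P ≤ A, φ.Nd P ∧ P.map N ≤ P ∧ (finrank F P = 4 ∨ finrank F P = 2 ∧
      ((∃ v ∈ A, φ.B (N v) v ≠ 0) ∨ ∀ v ∈ A, N v = 0)) := by
  obtain ⟨e, he, he2, hAe, x, hx, y, hy, hxy⟩ := exists_top hN2 hA hAi hne
  have hmk : ∀ {g : ℕ} (v : Fin g → V), (∀ k, v k ∈ A) →
      (∀ c : Fin g → F, (∀ l, ∑ k, c k * φ.B ((N ^ (e - 1)) (v k)) (v l) = 0) → c = 0) →
      ∃ P ≤ A, φ.Nd P ∧ P.map N ≤ P ∧ finrank F P = g * e := fun v hv hgram => by
    obtain ⟨P, h1, h2, h3, h4⟩ := chain_piece hN hAi he hAe v hv hgram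
    exact ⟨P, h1, h2, h3, by rw [← imDim_zero N P, h4, Nat.sub_zero]⟩
  have hflip : ∀ a ∈ A, ∀ b ∈ A,
      φ.B ((N ^ (e - 1)) b) a = φ.B ((N ^ (e - 1)) a) b := fun a ha b hb => by
    have h := chain_top hN hAi hAe (e - 1) 0 (by omega) a ha b hb
    rw [pow_zero, Module.End.one_apply] at h
    rw [RForm.alt_swap halt a, h, CharTwo.neg_eq, CharTwo.neg_eq, one_pow, one_mul]
  by_cases hd : ∃ v ∈ A, φ.B ((N ^ (e - 1)) v) v ≠ 0
  · obtain ⟨v, hv, hvv⟩ := hd
    have he' : e = 2 := by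
      by_contra hne'
      rw [show e - 1 = 0 by omega, pow_zero, Module.End.one_apply, halt] at hvv
      exact hvv rfl
    obtain ⟨P, h1, h2, h3, h4⟩ := hmk (fun _ : Fin 1 => v) (fun _ => hv)
      (gram_one (β := fun a b => φ.B ((N ^ (e - 1)) a) b) hvv)
    refine ⟨P, h1, h2, h3, Or.inr ⟨by omega, Or.inl ⟨v, hv, ?_⟩⟩⟩
    simpa [he'] using hvv
  · push Not at hd
    obtain ⟨P, h1, h2, h3, h4⟩ := hmk ![x, y] (fun k => by fin_cases k <;> assumption)
      (gram_two (β := fun a b => φ.B ((N ^ (e - 1)) a) b) (hd x hx) (hd y hy) hxy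
        (by show φ.B ((N ^ (e - 1)) y) x ≠ 0; rwa [hflip x hx y hy]))
    refine ⟨P, h1, h2, h3, ?_⟩
    rcases (by omega : e = 1 ∨ e = 2) with rfl | rfl
    · exact Or.inr ⟨by omega, Or.inr fun v hv => by simpa using hAe v hv⟩
    · exact Or.inl (by omega)

/-- Invariant non-degenerate subspaces of an involution in characteristic two. -/
theorem two_attain (halt : ∀ x, φ.B x x = 0) [CharP F 2] {N : End F V}
    (hN : φ.Iso (1 + N)) (hN2 : N ^ 2 = 0) :
    ∀ (A : Submodule F V), φ.Nd A → A.map N ≤ A → ∀ m, Even m → m ≤ finrank F A →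
      (4 ∣ m ∨ ¬ 4 ∣ finrank F A) → ∃ W ≤ A, φ.Nd W ∧ W.map N ≤ W ∧ finrank F W = m := by
  suffices ∀ (D : ℕ) (A : Submodule F V), finrank F A = D → φ.Nd A → A.map N ≤ A → ∀ m, Even m →
      m ≤ D → (4 ∣ m ∨ ¬ 4 ∣ D) → ∃ W ≤ A, φ.Nd W ∧ W.map N ≤ W ∧ finrank F W = m from
    fun A => this _ A rfl
  intro D
  induction D using Nat.strong_induction_on with
  | _ D ih =>
    intro A hD hA hAi m hm hmD hok
    obtain ⟨k, rfl⟩ := hm
    rcases Nat.eq_zero_or_pos k with rfl | hk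
    · exact ⟨⊥, bot_le, RForm.nd_bot, by simp, by simp⟩
    rcases eq_or_lt_of_le hmD with h | hlt
    · exact ⟨A, le_rfl, hA, hAi, by omega⟩
    have hne : A ≠ ⊥ := fun h => by rw [h, finrank_bot] at hD; omega
    obtain ⟨P, hPA, hPn, hPi, hP⟩ := two_piece halt hN hN2 hA hAi hne
    obtain ⟨-, hRn, hRd⟩ := hPn.inner_compl hA hPA
    have hRi : (A ⊓ φ.perp P).map N ≤ A ⊓ φ.perp P := Inv.one_add_iff.1
      ((Inv.one_add_iff.2 hAi : Inv (1 + N) A).inf (hN.inv_perp (Inv.one_add_iff.2 hPi)))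
    have hfin : ∀ m', Even m' → m' ≤ finrank F ↥(A ⊓ φ.perp P) →
        (4 ∣ m' ∨ ¬ 4 ∣ finrank F ↥(A ⊓ φ.perp P)) → finrank F P + m' = k + k →
        ∃ W ≤ A, φ.Nd W ∧ W.map N ≤ W ∧ finrank F W = k + k := by
      intro m' h1 h2 h3 h4
      obtain ⟨W, hW, hWn, hWi, hWd⟩ := ih _ (by omega) _ rfl hRn hRi m' h1 h2 h3
      have hperp : W ≤ φ.perp P := hW.trans inf_le_right
      refine ⟨P ⊔ W, sup_le hPA (hW.trans inf_le_left), hPn.sup hWn hperp, ?_,
        by rw [hPn.finrank_sup hperp, hWd, h4]⟩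
      rw [Submodule.map_sup]
      exact sup_le_sup hPi hWi
    have hrec : k + k ≤ finrank F ↥(A ⊓ φ.perp P) →
        (4 ∣ k + k ∨ ¬ 4 ∣ finrank F ↥(A ⊓ φ.perp P)) →
        ∃ W ≤ A, φ.Nd W ∧ W.map N ≤ W ∧ finrank F W = k + k := fun h1 h2 => by
      obtain ⟨W, hW, hW'⟩ := ih _ (by omega) _ rfl hRn hRi (k + k) ⟨k, rfl⟩ h1 h2
      exact ⟨W, hW.trans inf_le_left, hW'⟩
    have hR1 : finrank F ↥(A ⊓ φ.perp P) ≠ 1 := fun h1 => by
      obtain ⟨Q, hQ, -, -, hQd⟩ := two_piece halt hN hN2 hRn hRi fun h => by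
        rw [h, finrank_bot] at h1; omega
      have := Submodule.finrank_mono hQ
      rcases hQd with h | ⟨h, -⟩ <;> omega
    rcases hP with hP | ⟨hP, -⟩
    · by_cases hle : k + k ≤ finrank F ↥(A ⊓ φ.perp P)
      · exact hrec hle (by omega)
      · by_cases h4 : 4 ≤ k + k
        · exact hfin (k + k - 4) (Nat.even_iff.2 (by omega)) (by omega) (by omega) (by omega)
        · omega
    · by_cases hb : (4 ∣ k + k ∨ ¬ 4 ∣ finrank F ↥(A ⊓ φ.perp P)) ∧ k + k ≤ finrank F ↥(A ⊓ φ.perp P)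
      · exact hrec hb.2 hb.1
      · exact hfin (k + k - 2) (Nat.even_iff.2 (by omega)) (by omega) (by omega) (by omega)

/-- The dimensions are divisible by four when the pairing with the image is alternating. -/
theorem two_dvd_four (halt : ∀ x, φ.B x x = 0) [CharP F 2] {N : End F V}
    (hN : φ.Iso (1 + N)) (hN2 : N ^ 2 = 0) (hq : ∀ v, φ.B (N v) v = 0)
    (hker : LinearMap.ker N ≤ LinearMap.range N) :
    ∀ (A : Submodule F V), φ.Nd A → A.map N ≤ A → 4 ∣ finrank F A := by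
  suffices ∀ (D : ℕ) (A : Submodule F V), finrank F A = D → φ.Nd A → A.map N ≤ A → 4 ∣ D from
    fun A => this _ A rfl
  intro D
  induction D using Nat.strong_induction_on with
  | _ D ih =>
    intro A hD hA hAi
    by_cases hne : A = ⊥
    · rw [← hD, hne, finrank_bot]
      exact dvd_zero 4
    obtain ⟨P, hPA, hPn, hPi, hP⟩ := two_piece halt hN hN2 hA hAi hne
    rcases hP with hP | ⟨-, ⟨v, -, hv⟩ | hz⟩
    · obtain ⟨-, hRn, hRd⟩ := hPn.inner_compl hA hPA
      have hRi : (A ⊓ φ.perp P).map N ≤ A ⊓ φ.perp P := Inv.one_add_iff.1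
        ((Inv.one_add_iff.2 hAi : Inv (1 + N) A).inf (hN.inv_perp (Inv.one_add_iff.2 hPi)))
      have := ih _ (by omega) _ rfl hRn hRi
      omega
    · exact absurd (hq v) hv
    · refine absurd ((Submodule.eq_bot_iff A).2 fun x hx => hA.eq_zero hx fun u hu => ?_) hne
      obtain ⟨a, ha⟩ := hker (LinearMap.mem_ker.2 (hz x hx))
      obtain ⟨b, hb⟩ := hker (LinearMap.mem_ker.2 (hz u hu))
      have h := chain_zero hN (A := ⊤) le_top (e := 2) (fun y _ => by rw [hN2]; rfl) 1 1 le_rfl b trivial a trivial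
      rw [pow_one] at h
      rwa [← ha, ← hb]

end Cfsg.Agent.Linear.Elusive.Forms
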