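import Cfsg.Agent.Linear.Elusive.Cases

/-!
Reflexive sesquilinear forms, orthogonal complements, isometries.
-/

set_option autoImplicit false
set_option linter.unusedSectionVars false

namespace Cfsg.Agent.Linear.Elusive.Forms

open Polynomial Module

universe u v

/-- A non-degenerate reflexive sesquilinear form. -/
structure RForm (F : Type u) (V : Type v) [Field F] [AddCommGroup V] [Module F V] where
  σ : F →+* F
  ε : F
  B : V →ₗ[F] V →ₛₗ[σ] F
  invol : ∀ a, σ (σ a) = a
  flip : ∀ u v, B v u = ε * σ (B u v)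
  nondeg : ∀ v, (∀ w, B v w = 0) → v = 0

variable {F : Type u} [Field F] {V : Type v} [AddCommGroup V] [Module F V] (φ : RForm F V)

theorem RForm.symm_zero {u v : V} (h : φ.B u v = 0) : φ.B v u = 0 := by
  rw [φ.flip, h, map_zero, mul_zero]

theorem RForm.nondeg' {v : V} (h : ∀ w, φ.B w v = 0) : v = 0 :=
  φ.nondeg v fun w => φ.symm_zero (h w)

/-- The orthogonal subspace. -/
def RForm.perp (U : Submodule F V) : Submodule F V where
  carrier := {v | ∀ u ∈ U, φ.B u v = 0}
  add_mem' := fun ha hb u hu => by rw [map_add, ha u hu, hb u hu, add_zero]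
  zero_mem' := fun u _ => map_zero _
  smul_mem' := fun c x hx u hu => by rw [LinearMap.map_smulₛₗ, hx u hu, smul_zero]

variable {φ}

theorem RForm.mem_perp {U : Submodule F V} {v : V} : v ∈ φ.perp U ↔ ∀ u ∈ U, φ.B u v = 0 := Iff.rfl

theorem RForm.perp_anti {U W : Submodule F V} (h : U ≤ W) : φ.perp W ≤ φ.perp U :=
  fun _ hv u hu => hv u (h hu)

theorem RForm.le_perp_iff {U W : Submodule F V} : U ≤ φ.perp W ↔ W ≤ φ.perp U :=
  ⟨fun h _ hw _ hu => φ.symm_zero (h hu _ hw), fun h _ hu _ hw => φ.symm_zero (h hw _ hu)⟩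

theorem RForm.le_perp_perp (U : Submodule F V) : U ≤ φ.perp (φ.perp U) :=
  RForm.le_perp_iff.1 le_rfl

theorem RForm.perp_sup (U W : Submodule F V) : φ.perp (U ⊔ W) = φ.perp U ⊓ φ.perp W := by
  refine le_antisymm (le_inf (RForm.perp_anti le_sup_left) (RForm.perp_anti le_sup_right)) ?_
  rintro v ⟨h1, h2⟩ x hx
  obtain ⟨u, hu, w, hw, rfl⟩ := Submodule.mem_sup.1 hx
  rw [map_add, LinearMap.add_apply, h1 u hu, h2 w hw, add_zero]

variable (φ)

/-- Totally isotropic. -/
def RForm.TI (U : Submodule F V) : Prop := U ≤ φ.perp U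

/-- Non-degenerate subspace. -/
def RForm.Nd (U : Submodule F V) : Prop := U ⊓ φ.perp U = ⊥

/-- Isometry. -/
def RForm.Iso (T : End F V) : Prop := ∀ u v, φ.B (T u) (T v) = φ.B u v

variable {φ}

theorem RForm.ti_bot : φ.TI ⊥ := bot_le

theorem RForm.TI.mono {U W : Submodule F V} (h : φ.TI W) (hU : U ≤ W) : φ.TI U :=
  hU.trans (h.trans (RForm.perp_anti hU))

theorem RForm.TI.sup {U W : Submodule F V} (hU : φ.TI U) (hW : φ.TI W) (h : U ≤ φ.perp W) :
    φ.TI (U ⊔ W) := by
  rw [RForm.TI, RForm.perp_sup]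
  exact sup_le (le_inf hU h) (le_inf (RForm.le_perp_iff.1 h) hW)

theorem RForm.nd_top : φ.Nd ⊤ := by
  rw [RForm.Nd, top_inf_eq, eq_bot_iff]
  intro v hv
  exact φ.nondeg' fun w => hv w trivial

theorem RForm.Nd.eq_zero {U : Submodule F V} (h : φ.Nd U) {x : V} (hx : x ∈ U)
    (hperp : ∀ u ∈ U, φ.B u x = 0) : x = 0 := by
  have hm : x ∈ U ⊓ φ.perp U := ⟨hx, hperp⟩
  rwa [h, Submodule.mem_bot] at hm

section finite

variable [FiniteDimensional F V]

theorem RForm.finrank_perp (U : Submodule F V) :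
    finrank F ↥(φ.perp U) + finrank F U = finrank F V := by
  let b := Module.finBasis F U
  let L : V →ₗ[F] (Fin (finrank F U) → F) :=
    { toFun := fun v i => φ.σ (φ.B (b i : V) v)
      map_add' := fun x y => funext fun i => by simp only [map_add, Pi.add_apply]
      map_smul' := fun c x => funext fun i => by
        simp only [LinearMap.map_smulₛₗ, smul_eq_mul, map_mul, φ.invol, RingHom.id_apply,
          Pi.smul_apply] }
  have hker : LinearMap.ker L = φ.perp U := by
    ext v
    constructor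
    · intro hv u hu
      have h0 : ∀ i, φ.B (b i : V) v = 0 := fun i => by
        have h1 : φ.σ (φ.B (b i : V) v) = 0 := congr_fun (LinearMap.mem_ker.1 hv) i
        rw [← φ.invol (φ.B (b i : V) v), h1, map_zero]
      have h2 : u = ∑ i, b.repr ⟨u, hu⟩ i • (b i : V) := by
        conv_lhs => rw [show u = ((⟨u, hu⟩ : U) : V) from rfl, ← b.sum_repr ⟨u, hu⟩]
        rw [Submodule.coe_sum]
        simp
      rw [h2, map_sum, LinearMap.sum_apply]
      exact Finset.sum_eq_zero fun i _ => by rw [map_smul, LinearMap.smul_apply, h0, smul_zero]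
    · intro hv
      refine LinearMap.mem_ker.2 (funext fun i => ?_)
      show φ.σ (φ.B (b i : V) v) = 0
      rw [hv _ (b i).2, map_zero]
  have hrange : LinearMap.range L = ⊤ := by
    by_contra hne
    obtain ⟨f, hf, hle⟩ := Submodule.exists_le_ker_of_lt_top _ (lt_top_iff_ne_top.2 hne)
    apply hf
    let c : Fin (finrank F U) → F := fun i => f (fun j => if i = j then 1 else 0)
    have hc : ∀ x, f x = ∑ i, x i * c i := fun x => by
      conv_lhs => rw [pi_eq_sum_univ x]
      rw [map_sum]
      exact Finset.sum_congr rfl fun i _ => by rw [map_smul, smul_eq_mul]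
    have hz : (∑ i, φ.σ (c i) • (b i : V)) = 0 := φ.nondeg _ fun v => by
      have h1 : f (L v) = 0 := hle ⟨v, rfl⟩
      rw [hc] at h1
      have h2 := congrArg φ.σ h1
      rw [map_sum, map_zero] at h2
      rw [map_sum, LinearMap.sum_apply, ← h2]
      refine Finset.sum_congr rfl fun i _ => ?_
      show _ = φ.σ (φ.σ (φ.B (b i : V) v) * c i)
      rw [map_smul, LinearMap.smul_apply, smul_eq_mul, map_mul, φ.invol]
      ring
    have hli := Fintype.linearIndependent_iff.1
      (b.linearIndependent.map' U.subtype (Submodule.ker_subtype U)) _ hz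
    refine LinearMap.ext fun x => ?_
    rw [hc, LinearMap.zero_apply]
    exact Finset.sum_eq_zero fun i _ => by
      rw [← φ.invol (c i), hli i, map_zero, mul_zero]
  have h := LinearMap.finrank_range_add_finrank_ker L
  rw [hrange, finrank_top, Module.finrank_fin_fun, hker] at h
  omega

theorem RForm.perp_perp (U : Submodule F V) : φ.perp (φ.perp U) = U := by
  refine (Submodule.eq_of_le_of_finrank_eq (RForm.le_perp_perp U) ?_).symm
  have h1 := RForm.finrank_perp (φ := φ) U
  have h2 := RForm.finrank_perp (φ := φ) (φ.perp U)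
  omega

theorem RForm.Nd.isCompl {U : Submodule F V} (h : φ.Nd U) : IsCompl U (φ.perp U) := by
  refine ⟨disjoint_iff.2 h, codisjoint_iff.2 (Submodule.eq_top_of_finrank_eq ?_)⟩
  have h1 := RForm.finrank_perp (φ := φ) U
  rw [finrank_sup_eq (disjoint_iff.2 h) le_rfl le_rfl]
  omega

theorem RForm.Nd.perp {U : Submodule F V} (h : φ.Nd U) : φ.Nd (φ.perp U) := by
  rw [RForm.Nd, RForm.perp_perp, inf_comm]
  exact h

theorem RForm.finrank_inf_perp {W A : Submodule F V} (hA : φ.Nd A) (hWA : W ≤ A) :
    finrank F ↥(A ⊓ φ.perp W) + finrank F W = finrank F A := by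
  have htop : A ⊔ φ.perp W = ⊤ :=
    eq_top_iff.2 (hA.isCompl.sup_eq_top.symm.le.trans (sup_le_sup_left (RForm.perp_anti hWA) A))
  have h1 := Submodule.finrank_sup_add_finrank_inf_eq A (φ.perp W)
  rw [htop, finrank_top] at h1
  have h2 := RForm.finrank_perp (φ := φ) W
  omega

theorem RForm.TI.two_mul_le {W A : Submodule F V} (hA : φ.Nd A) (hWA : W ≤ A) (hW : φ.TI W) :
    2 * finrank F W ≤ finrank F A := by
  have h1 := RForm.finrank_inf_perp hA hWA
  have h2 := Submodule.finrank_mono (le_inf hWA hW : W ≤ A ⊓ φ.perp W)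
  omega

theorem RForm.Iso.injective {T : End F V} (hT : φ.Iso T) : Function.Injective T := by
  refine (injective_iff_map_eq_zero T).2 fun v hv => φ.nondeg v fun w => ?_
  rw [← hT v w, hv, map_zero, LinearMap.zero_apply]

theorem RForm.Iso.map_eq {T : End F V} (hT : φ.Iso T) {U : Submodule F V} (hU : Inv T U) :
    U.map T = U :=
  Submodule.eq_of_le_of_finrank_eq hU
    ((Submodule.equivMapOfInjective T hT.injective U).finrank_eq).symm

theorem RForm.Iso.inv_perp {T : End F V} (hT : φ.Iso T) {U : Submodule F V} (hU : Inv T U) :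
    Inv T (φ.perp U) := by
  rintro _ ⟨v, hv, rfl⟩ u hu
  rw [← hT.map_eq hU] at hu
  obtain ⟨u', hu', rfl⟩ := hu
  rw [hT u' v]
  exact hv u' hu'

theorem RForm.Iso.pow {T : End F V} (hT : φ.Iso T) (k : ℕ) : φ.Iso (T ^ k) := by
  induction k with
  | zero => exact fun u v => by simp
  | succ k ih =>
    intro u v
    rw [pow_succ, Module.End.mul_apply, Module.End.mul_apply, ih, hT]

end finite

end Cfsg.Agent.Linear.Elusive.Forms
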