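import Cfsg.Agent.Linear.Elusive.Forms.Prime

/-!
Bounds on totally isotropic invariant subspaces, factors of the cyclotomic polynomial.
-/

set_option autoImplicit false
set_option linter.unusedSectionVars false

namespace Cfsg.Agent.Linear.Elusive.Forms

open Polynomial Module

universe u v

variable {F : Type u} [Field F] [Fintype F] {p q r : ℕ} [Fact p.Prime] [CharP F p] [Fact r.Prime]

section bound

variable {V : Type v} [AddCommGroup V] [Module F V] [FiniteDimensional F V] {φ : RForm F V}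

/-- A totally isotropic invariant subspace splits along the fixed and the moved space. -/
theorem ti_parts (hq : Fintype.card F = q) (hrp : r ≠ p) {T : End F V} (hT : φ.Iso T) (hTr : T ^ r = 1)
    {U : Submodule F V} (hUi : Inv T U) (hUt : φ.TI U) :
    ∃ a b, finrank F U = a + b * orderOf (q : ZMod r) ∧ 2 * a ≤ finrank F ↥(fixSpace T) ∧
      finrank F ↥(U ⊓ moveSpace r T) = b * orderOf (q : ZMod r) ∧
      2 * (b * orderOf (q : ZMod r)) ≤ finrank F ↥(moveSpace r T) := by
  obtain ⟨b, hb⟩ := moveSpace_dvd hq hrp U hUi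
  rw [mul_comm] at hb
  obtain ⟨h1, h2⟩ := nd_fixSpace hrp hT hTr
  refine ⟨finrank F ↥(U ⊓ fixSpace T), b, ?_, ?_, hb, ?_⟩
  · rw [← hb]
    exact split_finrank hrp hTr hUi
  · exact (hUt.mono inf_le_left).two_mul_le h1 inf_le_right
  · rw [← hb]
    exact (hUt.mono inf_le_left).two_mul_le h2 inf_le_right

variable {T : End F V} {s : ℕ}

/-- The kernel of a factor of a squarefree annihilator is non-degenerate. -/
theorem nd_ker (hT : φ.Iso T) (hs : ∃ e, s = p ^ e) (hc : ∀ c, φ.σ c = c ^ s)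
    (hTs : T ^ (s + 1) = 1) {g h : F[X]} (hsq : Squarefree (g * h)) (hkill : aeval T (g * h) = 0) :
    φ.Nd (LinearMap.ker (aeval T g)) := by
  have hcop : IsCoprime g h := isRelPrime_iff_isCoprime.1 (squarefree_mul_iff.1 hsq).1
  have hsup := split_local hcop (inv_top T) (kill_top hkill)
  rw [top_inf_eq, top_inf_eq] at hsup
  rw [RForm.Nd, eq_bot_iff]
  rintro x ⟨hxg, hxp⟩
  refine (Submodule.mem_bot F).2 (φ.nondeg' fun y => ?_)
  obtain ⟨y1, hy1, y2, hy2, rfl⟩ := Submodule.mem_sup.1 (hsup ▸ Submodule.mem_top (x := y))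
  rw [map_add, LinearMap.add_apply, hxp y1 hy1, ker_le_perp hT hs hc hTs hcop.symm hxg y2 hy2,
    add_zero]

/-- If all kernels but one are irreducible, only that one meets totally isotropic invariant subspaces. -/
theorem ti_move_le (hq : Fintype.card F = q) (hrp : r ≠ p) (hT : φ.Iso T) (hTr : T ^ r = 1)
    (hs : ∃ e, s = p ^ e) (hc : ∀ c, φ.σ c = c ^ s) (hrs : r ∣ s + 1)
    {gs P : F[X]} (hP : cyclotomic r F = gs * P)
    (hsmall : ∀ g : F[X], Irreducible g → g ∣ P →
      finrank F (LinearMap.ker (aeval T g)) ≤ orderOf (q : ZMod r))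
    {U : Submodule F V} (hUi : Inv T U) (hUt : φ.TI U) :
    2 * finrank F ↥(U ⊓ moveSpace r T) ≤ finrank F (LinearMap.ker (aeval T gs)) := by
  obtain ⟨k, hk⟩ := hrs
  have hTs : T ^ (s + 1) = 1 := by rw [hk, pow_mul, hTr, one_pow]
  have hsqr : Squarefree (X ^ r - 1 : F[X]) := (separable_pow_sub_one (F := F) hrp).squarefree
  have hkill : aeval T (X ^ r - 1 : F[X]) = 0 := by
    rw [map_sub, map_pow, aeval_X, map_one, hTr, sub_self]
  have hd : cyclotomic r F ∣ X ^ r - 1 := ⟨X - 1, (cyclotomic_prime_mul_X_sub_one F r).symm⟩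
  have hnd : ∀ g, g ∣ cyclotomic r F → φ.Nd (LinearMap.ker (aeval T g)) := fun g hg => by
    obtain ⟨h, hh⟩ := hg.trans hd
    exact nd_ker hT hs hc hTs (hh ▸ hsqr) (hh ▸ hkill)
  have hsq' : Squarefree (gs * P) := hP ▸ hsqr.squarefree_of_dvd hd
  have hcop : IsCoprime gs P := isRelPrime_iff_isCoprime.1 (squarefree_mul_iff.1 hsq').1
  have hM : Inv T (U ⊓ moveSpace r T) := hUi.inf (inv_ker_aeval T _)
  have hsup := split_local hcop hM fun v hv => hP ▸ LinearMap.mem_ker.1 hv.2
  have hzero : U ⊓ moveSpace r T ⊓ LinearMap.ker (aeval T P) = ⊥ := by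
    by_contra hne
    obtain ⟨v, hv, hv0⟩ := (U ⊓ moveSpace r T ⊓ LinearMap.ker (aeval T P)).exists_mem_ne_zero_of_ne_bot hne
    have hP0 : P ≠ 0 := fun h => cyclotomic_ne_zero r F (by rw [hP, h, mul_zero])
    obtain ⟨g, hg, hgP, w, hw, hw0, hgw⟩ :=
      exists_factor (inv_bot T) (hM.inf (inv_ker_aeval T P)) P hP0 v hv (by simpa using hv0)
        (by simpa using LinearMap.mem_ker.1 hv.2)
    rw [Submodule.mem_bot] at hgw hw0
    have hgd : g ∣ cyclotomic r F := hgP.trans ⟨gs, by rw [hP, mul_comm]⟩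
    have h1 : cyc T w ≤ U ⊓ LinearMap.ker (aeval T g) :=
      le_inf (cyc_le hUi hw.1.1) (cyc_le (inv_ker_aeval T g) hgw)
    have h2 := (hUt.mono (h1.trans inf_le_left)).two_mul_le (hnd g hgd) (h1.trans inf_le_right)
    have h3 := dvd_finrank (uniform_cyclotomic hq hrp) (inv_cyc w) (fun x hx =>
      LinearMap.mem_ker.1 (cyc_le (inv_ker_aeval T _) hw.1.2 hx))
    have h4 : 0 < finrank F (cyc T w) := Nat.pos_of_ne_zero fun h =>
      hw0 ((Submodule.mem_bot F).1 (Submodule.finrank_eq_zero.1 h ▸ self_mem_cyc w))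
    have := Nat.le_of_dvd h4 h3
    have := hsmall g hg hgP
    omega
  rw [hzero, sup_bot_eq] at hsup
  have hle : U ⊓ moveSpace r T ≤ LinearMap.ker (aeval T gs) := hsup.le.trans inf_le_right
  exact (hUt.mono inf_le_left).two_mul_le (hnd gs ⟨P, hP⟩) hle

end bound

/-- A field of the degree of the cyclotomic factors with one root of each factor. -/
theorem exists_roots (hq : Fintype.card F = q) (hrp : r ≠ p) :
    ∃ (E : Type u) (_ : Field E) (_ : Algebra F E) (_ : Finite E),
      finrank F E = orderOf (q : ZMod r) ∧ ∃ a : Fin ((r - 1) / orderOf (q : ZMod r)) → E,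
        (∀ k, a k ^ r = 1) ∧ (∀ k, a k ≠ 1) ∧ Function.Injective fun k => minpoly F (a k) := by
  classical
  obtain ⟨e, -, hk⟩ := FiniteField.card F p
  have hn : p.Coprime r := (Nat.coprime_primes Fact.out Fact.out).2 (Ne.symm hrp)
  have hcard : ((UniqueFactorizationMonoid.normalizedFactors (cyclotomic r F)).toFinset).card =
      (r - 1) / orderOf (q : ZMod r) := by
    rw [Polynomial.normalizedFactors_cyclotomic_card hk hn, Nat.totient_prime Fact.out, ← orderOf_units,
      ZMod.coe_unitOfCoprime, ← hk, hq]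
  set S := (UniqueFactorizationMonoid.normalizedFactors (cyclotomic r F)).toFinset
  have hS : ∀ g ∈ S, Irreducible g ∧ g.Monic ∧ g ∣ cyclotomic r F := fun g hg => by
    rw [Multiset.mem_toFinset] at hg
    exact ⟨UniqueFactorizationMonoid.irreducible_of_normalized_factor g hg,
      (UniqueFactorizationMonoid.normalize_normalized_factor g hg) ▸
        Polynomial.monic_normalize (UniqueFactorizationMonoid.irreducible_of_normalized_factor g hg).ne_zero, UniqueFactorizationMonoid.dvd_of_mem_normalizedFactors hg⟩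
  obtain ⟨g₁, hg₁, hg₁d⟩ := exists_irreducible_of_degree_pos (f := cyclotomic r F)
    (degree_cyclotomic_pos r F (Fact.out : r.Prime).pos)
  haveI : Fact (Irreducible g₁) := ⟨hg₁⟩
  haveI := (AdjoinRoot.powerBasis hg₁.ne_zero).finite
  haveI : Finite (AdjoinRoot g₁) := Module.finite_of_finite F
  haveI : NeZero (r : AdjoinRoot g₁) := ⟨by
    rw [← map_natCast (algebraMap F (AdjoinRoot g₁))]
    exact fun h => cast_ne_zero (F := F) (p := p) hrp
      ((algebraMap F _).injective (h.trans (map_zero _).symm))⟩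
  have hz : IsPrimitiveRoot (AdjoinRoot.root g₁) r := by
    rw [← Polynomial.isRoot_cyclotomic_iff, ← map_cyclotomic r (algebraMap F (AdjoinRoot g₁)),
      IsRoot.def, eval_map, ← aeval_def]
    obtain ⟨c, hc⟩ := hg₁d
    rw [hc, map_mul, AdjoinRoot.aeval_eq, AdjoinRoot.mk_self, zero_mul]
  have hroot : ∀ g ∈ S, ∃ a : AdjoinRoot g₁, a ^ r = 1 ∧ a ≠ 1 ∧ minpoly F a = g := by
    intro g hg
    obtain ⟨hgi, hgm, hgd⟩ := hS g hg
    obtain ⟨h, hh, hhd⟩ := exists_irreducible_of_degree_pos (f := g.map (algebraMap F (AdjoinRoot g₁)))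
      (by rw [degree_map]; exact hgi.degree_pos)
    have hd := hhd.trans (Polynomial.map_dvd (algebraMap F (AdjoinRoot g₁)) hgd)
    rw [map_cyclotomic, cyclotomic_eq_prod_X_sub_primitiveRoots hz,
      hh.prime.dvd_finsetProd_iff] at hd
    obtain ⟨a, ha, had⟩ := hd
    rw [mem_primitiveRoots (Fact.out : r.Prime).pos] at ha
    have hga : aeval a g = 0 := by
      rw [← eval_map_algebraMap]
      exact eval_eq_zero_of_dvd_of_eval_eq_zero
        (((hh.associated_of_dvd (irreducible_X_sub_C a) had).symm.dvd).trans hhd) (by simp)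
    exact ⟨a, ha.pow_eq_one, ha.ne_one (Fact.out : r.Prime).one_lt,
      (minpoly.eq_of_irreducible_of_monic hgi hga hgm).symm⟩
  choose a ha using hroot
  let eqv := (Finset.equivFinOfCardEq hcard).symm
  refine ⟨AdjoinRoot g₁, inferInstance, inferInstance, inferInstance, ?_, fun k => a _ (eqv k).2,
    fun k => (ha _ (eqv k).2).1, fun k => (ha _ (eqv k).2).2.1, fun k l h => ?_⟩
  · rw [(AdjoinRoot.powerBasis hg₁.ne_zero).finrank, AdjoinRoot.powerBasis_dim]
    exact (uniform_cyclotomic hq hrp).2 g₁ hg₁ hg₁d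
  · simp only [(ha _ (eqv k).2).2.2, (ha _ (eqv l).2).2.2] at h
    exact eqv.injective (Subtype.ext h)

end Cfsg.Agent.Linear.Elusive.Forms
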