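import Cfsg.Agent.Linear.Elusive.Forms.AltUnip

/-!
Pieces of non-degenerate invariant subspaces for forms with a non-trivial involution.
-/

set_option autoImplicit false
set_option linter.unusedSectionVars false

namespace Cfsg.Agent.Linear.Elusive.Forms

open Polynomial Module

universe u v

variable {F : Type u} [Field F] {V : Type v} [AddCommGroup V] [Module F V] {φ : RForm F V}

/-- A non-zero twisted symmetric pairing has an anisotropic vector. -/
theorem herm_select (hσ : φ.σ ≠ RingHom.id F) {N : End F V} (hN : φ.Iso (1 + N)) (A : Submodule F V)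
    (hAi : A.map N ≤ A) (e : ℕ) (he : 1 ≤ e) (hAe : ∀ x ∈ A, (N ^ e) x = 0)
    (hβ : ∃ x ∈ A, ∃ y ∈ A, φ.B ((N ^ (e - 1)) x) y ≠ 0) :
    ∃ v : Fin 1 → V, (∀ k, v k ∈ A) ∧
      ∀ c : Fin 1 → F, (∀ l, ∑ k, c k * φ.B ((N ^ (e - 1)) (v k)) (v l) = 0) → c = 0 := by
  suffices ∃ v ∈ A, φ.B ((N ^ (e - 1)) v) v ≠ 0 by
    obtain ⟨v, hv, hvv⟩ := this
    exact ⟨fun _ => v, fun _ => hv, gram_one (β := fun a b => φ.B ((N ^ (e - 1)) a) b) hvv⟩
  obtain ⟨x, hx, y, hy, hxy⟩ := hβ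
  by_contra hno
  push Not at hno
  set s : F := (-1) ^ (e - 1) * φ.ε
  have key : ∀ t : F, t + s * φ.σ t = 0 := fun t => by
    set β := φ.B ((N ^ (e - 1)) x) y with hβ
    have h := hno _ (add_mem (A.smul_mem (t / β) hx) hy)
    simp only [map_add, map_smul, LinearMap.add_apply, LinearMap.smul_apply, LinearMap.map_smulₛₗ,
      smul_eq_mul, hno x hx, hno y hy, mul_zero, add_zero, zero_add,
      top_flip hN hAi he hAe hx hy] at h
    rw [← hβ] at h
    have e1 : φ.σ (t / β) * φ.σ β = φ.σ t := by rw [← map_mul, div_mul_cancel₀ t hxy]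
    linear_combination h - div_mul_cancel₀ t hxy - s * e1
  have h1 := key 1
  rw [map_one, mul_one] at h1
  refine hσ (RingHom.ext fun t => ?_)
  rw [RingHom.id_apply]
  linear_combination φ.σ t * h1 - key t

variable [FiniteDimensional F V]

/-- An anisotropic vector. -/
theorem exists_aniso (hσ : φ.σ ≠ RingHom.id F) {A : Submodule F V} (hA : φ.Nd A) (hne : A ≠ ⊥) :
    ∃ v ∈ A, φ.B v v ≠ 0 := by
  obtain ⟨x, hx, hx0⟩ := A.exists_mem_ne_zero_of_ne_bot hne
  obtain ⟨y, hy, hxy⟩ := RForm.nd_iff.1 hA x hx hx0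
  obtain ⟨v, hv, hgram⟩ := herm_select (N := (0 : End F V)) hσ (by rw [add_zero]; exact fun _ _ => rfl) A
    (by simp) 1 le_rfl (fun z _ => by simp) ⟨x, hx, y, hy, by simpa using hxy⟩
  refine ⟨v 0, hv 0, fun h => one_ne_zero (α := F) ?_⟩
  exact congrFun (hgram (fun _ => 1) fun l => by
    rw [Subsingleton.elim l 0]; simpa using h) 0

/-- The span of an anisotropic vector of a scalar eigenspace. -/
theorem exists_scalar_line (hσ : φ.σ ≠ RingHom.id F) {T : End F V} {c : F} {A : Submodule F V}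
    (hA : φ.Nd A) (hne : A ≠ ⊥) (hTc : ∀ v ∈ A, T v = c • v) :
    ∃ P ≤ A, φ.Nd P ∧ Inv T P ∧ finrank F P = 1 := by
  obtain ⟨v, hv, hvv⟩ := exists_aniso hσ hA hne
  have hle : Submodule.span F {v} ≤ A := (Submodule.span_singleton_le_iff_mem _ _).2 hv
  refine ⟨_, hle, RForm.nd_iff.2 fun u hu hu0 => ?_,
    inv_of_forall fun x hx => by rw [hTc x (hle hx)]; exact Submodule.smul_mem _ c hx,
    finrank_span_singleton fun h => hvv (by rw [h, map_zero])⟩
  obtain ⟨a, rfl⟩ := Submodule.mem_span_singleton.1 hu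
  refine ⟨v, Submodule.mem_span_singleton_self v, ?_⟩
  rw [map_smul, LinearMap.smul_apply, smul_eq_mul]
  exact mul_ne_zero (fun h => hu0 (by rw [h, zero_smul])) hvv

variable [Fintype F]

theorem finrank_cyc_eq {T : End F V} {g : F[X]} (hg : Irreducible g) {v : V} (hv : aeval T g v = 0)
    (hv0 : v ≠ 0) : finrank F (cyc T v) = g.natDegree := by
  refine le_antisymm (finrank_cyc_le hg hv) (Nat.le_of_dvd (Nat.pos_of_ne_zero fun h => ?_)
    (dvd_finrank (uniform_of_irreducible hg) (inv_cyc v) fun x hx =>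
      LinearMap.mem_ker.1 (cyc_le (inv_ker_aeval T g) (LinearMap.mem_ker.2 hv) hx)))
  exact hv0 ((Submodule.mem_bot F).1 (Submodule.finrank_eq_zero.1 h ▸ self_mem_cyc v))

/-- An irreducible cyclic subspace is totally isotropic or non-degenerate. -/
theorem nd_cyc {T : End F V} (hT : φ.Iso T) {g : F[X]} (hg : Irreducible g) {v : V}
    (hv : aeval T g v = 0) (hvv : φ.B v v ≠ 0) : φ.Nd (cyc T v) := by
  rw [RForm.Nd, eq_bot_iff]
  rintro x ⟨hx, hxp⟩
  by_contra hx0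
  have hx0' : x ≠ 0 := fun h => hx0 (by rw [h]; exact zero_mem _)
  have hgx : aeval T g x = 0 :=
    LinearMap.mem_ker.1 (cyc_le (inv_ker_aeval T g) (LinearMap.mem_ker.2 hv) hx)
  have heq : cyc T x = cyc T v := Submodule.eq_of_le_of_finrank_eq (cyc_le (inv_cyc v) hx)
    (by rw [finrank_cyc_eq hg hgx hx0', finrank_cyc_eq hg hv fun h => hvv (by rw [h, map_zero])])
  exact hvv ((heq.symm.trans_le (cyc_le (hT.inv_perp (inv_cyc v)) hxp))
    (self_mem_cyc v) v (self_mem_cyc v))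

/-- Non-degenerate pieces of the degree of an irreducible annihilator. -/
theorem exists_cyc_piece (hσ : φ.σ ≠ RingHom.id F) {T : End F V} (hT : φ.Iso T) {g : F[X]}
    (hg : Irreducible g) {A : Submodule F V} (hA : φ.Nd A) (hAi : Inv T A) (hne : A ≠ ⊥)
    (hkill : ∀ v ∈ A, aeval T g v = 0) :
    ∃ P ≤ A, φ.Nd P ∧ Inv T P ∧ finrank F P = g.natDegree := by
  obtain ⟨v, hv, hvv⟩ := exists_aniso hσ hA hne
  exact ⟨_, cyc_le hAi hv, nd_cyc hT hg (hkill v hv) hvv, inv_cyc v,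
    finrank_cyc_eq hg (hkill v hv) fun h => hvv (by rw [h, map_zero])⟩

/-- The dimension of the sum of blocks. -/
theorem dvd_of_blocks {T : End F V} (hT : φ.Iso T) {A : Submodule F V} (hA : φ.Nd A) (hAi : Inv T A)
    {c : ℕ} (hc : 0 < c) (hblock : ∀ A' ≤ A, φ.Nd A' → Inv T A' → A' ≠ ⊥ →
      ∃ P ≤ A', φ.Nd P ∧ Inv T P ∧ finrank F P = c) : c ∣ finrank F A := by
  obtain ⟨U, hUA, hUn, hUi, hUd⟩ := attain hT hA hAi c hblock _ (Nat.div_mul_le_self _ c)
  obtain ⟨-, hRn, hRd⟩ := hUn.inner_compl hA hUA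
  by_contra hno
  have hne : A ⊓ φ.perp U ≠ ⊥ := fun h => hno ⟨finrank F A / c, by
    rw [h, finrank_bot, hUd] at hRd
    rw [mul_comm]; omega⟩
  obtain ⟨P, hP, -, -, hPd⟩ := hblock _ inf_le_left hRn (hAi.inf (hT.inv_perp hUi)) hne
  have h1 := Submodule.finrank_mono hP
  have h2 := Nat.div_add_mod' (finrank F A) c
  have h3 := Nat.mod_lt (finrank F A) hc
  omega

variable {p r : ℕ} [Fact p.Prime] [CharP F p] [Fact r.Prime]

/-- Pieces of the moved space when the factors are self-dual. -/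
theorem exists_move_self (hσ : φ.σ ≠ RingHom.id F) (hrp : r ≠ p) {T : End F V} (hT : φ.Iso T)
    {s : ℕ} (hs : ∃ e, s = p ^ e) (hc : ∀ c, φ.σ c = c ^ s) (hTs : T ^ (s + 1) = 1) {b : ℕ}
    (hU : Uniform (cyclotomic r F) b) {A : Submodule F V} (hA : φ.Nd A) (hAi : Inv T A)
    (hAm : A ≤ moveSpace r T) (hne : A ≠ ⊥) : ∃ P ≤ A, φ.Nd P ∧ Inv T P ∧ finrank F P = b := by
  obtain ⟨v, hv, hv0⟩ := A.exists_mem_ne_zero_of_ne_bot hne
  obtain ⟨g, hg, hgd, w, hw, hw0, hgw⟩ := exists_factor (inv_bot T) hAi (cyclotomic r F)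
    (cyclotomic_ne_zero r F) v hv (by simpa using hv0) (by simpa using LinearMap.mem_ker.1 (hAm hv))
  obtain ⟨h, hh⟩ := hgd
  have hsq : Squarefree (g * h) := hh ▸ (separable_pow_sub_one (F := F) hrp).squarefree.squarefree_of_dvd
    ⟨X - 1, (cyclotomic_prime_mul_X_sub_one F r).symm⟩
  have hcop : IsCoprime g h := isRelPrime_iff_isCoprime.1 (squarefree_mul_iff.1 hsq).1
  have hsup := split_local hcop hAi fun x hx => hh ▸ LinearMap.mem_ker.1 (hAm hx)
  have hAg : φ.Nd (A ⊓ LinearMap.ker (aeval T g)) := hA.of_split hsup fun x hx =>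
    RForm.perp_anti inf_le_right (ker_le_perp hT hs hc hTs hcop.symm hx.2)
  have hgne : A ⊓ LinearMap.ker (aeval T g) ≠ ⊥ := fun h0 => hw0
    (h0 ▸ (⟨hw, LinearMap.mem_ker.2 ((Submodule.mem_bot F).1 hgw)⟩ : w ∈ A ⊓ LinearMap.ker (aeval T g)))
  obtain ⟨P, hP, hP'⟩ := exists_cyc_piece hσ hT hg hAg (hAi.inf (inv_ker_aeval T g)) hgne
    fun x hx => LinearMap.mem_ker.1 hx.2
  rw [hU.2 g hg ⟨h, hh⟩] at hP'
  exact ⟨P, hP.trans inf_le_left, hP'⟩

/-- Pieces of the moved space when the factors are not self-dual. -/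
theorem exists_move_pair (hrp : r ≠ p) {T : End F V} (hT : φ.Iso T) (hTr : T ^ r = 1) {b : ℕ}
    (hU : Uniform (cyclotomic r F) b)
    (hcop : ∀ g : F[X], Irreducible g → g ∣ cyclotomic r F →
      IsCoprime g ((g.map φ.σ).comp (X ^ (r - 1))))
    {A : Submodule F V} (hA : φ.Nd A) (hAi : Inv T A) (hAm : A ≤ moveSpace r T) (hne : A ≠ ⊥) :
    ∃ P ≤ A, φ.Nd P ∧ Inv T P ∧ finrank F P = 2 * b := by
  obtain ⟨v, hv, hv0⟩ := A.exists_mem_ne_zero_of_ne_bot hne
  obtain ⟨g, hg, hgd, w, hw, hw0, hgw⟩ := exists_factor (inv_bot T) hAi (cyclotomic r F)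
    (cyclotomic_ne_zero r F) v hv (by simpa using hv0) (by simpa using LinearMap.mem_ker.1 (hAm hv))
  rw [Submodule.mem_bot] at hgw hw0
  set W := cyc T w
  have hWA : W ≤ A := cyc_le hAi hw
  have hWi : Inv T W := inv_cyc w
  have hWd : finrank F W = b := (finrank_cyc_eq hg hgw hw0).trans (hU.2 g hg hgd)
  have hWt : φ.TI W := (ti_ker_of_coprime hT (Fact.out : r.Prime).pos hTr (hcop g hg hgd)).mono
    (cyc_le (inv_ker_aeval T g) (LinearMap.mem_ker.2 hgw))
  set U := A ⊓ φ.perp W with hUdef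
  have hWU : W ≤ U := le_inf hWA hWt
  obtain ⟨C', hC'i, hC'⟩ := exists_compl (separable_pow_sub_one (F := F) hrp).squarefree
    (by rw [map_sub, map_pow, aeval_X, map_one, hTr, sub_self]) (hAi.inf (hT.inv_perp hWi))
  set C := A ⊓ C'
  have hUC : U ⊔ C = A := by
    show U ⊔ A ⊓ C' = A
    rw [inf_comm A, ← sup_inf_assoc_of_le C' (inf_le_left : U ≤ A), hC'.sup_eq_top, top_inf_eq]
  have hdisj : Disjoint U C := hC'.disjoint.mono_right inf_le_right
  have hCd : finrank F C = b := by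
    have h1 := finrank_sup_eq hdisj (le_refl U) (le_refl C)
    rw [hUC] at h1
    have h2 := RForm.finrank_inf_perp hA hWA
    rw [← hUdef, hWd] at h2
    omega
  refine ⟨W ⊔ C, sup_le hWA inf_le_left, ?_, hWi.sup (hAi.inf hC'i), ?_⟩
  · rw [RForm.Nd, eq_bot_iff]
    rintro x ⟨hx, hxp⟩
    obtain ⟨a, ha, c, hc, rfl⟩ := Submodule.mem_sup.1 hx
    have hc0 : c = 0 := Submodule.disjoint_def.1 hdisj c ⟨hc.1, fun y hy => by
      have h1 := hxp y (Submodule.mem_sup_left hy)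
      rwa [map_add, hWt ha y hy, zero_add] at h1⟩ hc
    subst hc0
    rw [add_zero] at hxp ⊢
    refine (Submodule.mem_bot F).2 (hA.eq_zero (hWA ha) fun y hy => ?_)
    rw [← hUC] at hy
    obtain ⟨y1, hy1, y2, hy2, rfl⟩ := Submodule.mem_sup.1 hy
    rw [map_add, LinearMap.add_apply, φ.symm_zero (hy1.2 a ha), hxp y2 (Submodule.mem_sup_right hy2), add_zero]
  · rw [finrank_sup_eq (hdisj.mono_left hWU) le_rfl le_rfl, hWd, hCd, two_mul]

end Cfsg.Agent.Linear.Elusive.Forms
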