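import Cfsg.Agent.Linear.Elusive.Forms.NdSub
import Cfsg.Agent.H99.Jordan

/-!
Orthogonal splittings of non-degenerate spaces under unipotent isometries.
-/

set_option autoImplicit false
set_option linter.unusedSectionVars false

namespace Cfsg.Agent.Linear.Elusive.Forms

open Module Cfsg.Agent.H99

universe u v

variable {F : Type u} [Field F] {V : Type v} [AddCommGroup V] [Module F V] {φ : RForm F V}

theorem pow_map_mem {N : End F V} {A : Submodule F V} (hAi : A.map N ≤ A) {x : V} (hx : x ∈ A) :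
    ∀ k : ℕ, (N ^ k) x ∈ A := by
  intro k
  induction k with
  | zero => simpa using hx
  | succ k ih => rw [pow_succ', Module.End.mul_apply]; exact hAi (Submodule.mem_map_of_mem ih)

theorem pow_kill_of_le {N : End F V} {A : Submodule F V} (hAi : A.map N ≤ A) {e k : ℕ}
    (hAe : ∀ x ∈ A, (N ^ e) x = 0) (hk : e ≤ k) {x : V} (hx : x ∈ A) : (N ^ k) x = 0 := by
  obtain ⟨l, rfl⟩ := Nat.exists_eq_add_of_le hk
  rw [pow_add, Module.End.mul_apply, hAe _ (pow_map_mem hAi hx l)]

/-- The pairings of two chains vanish above the top. -/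
theorem chain_zero {N : End F V} (hN : φ.Iso (1 + N)) {A : Submodule F V} (hAi : A.map N ≤ A) {e : ℕ}
    (hAe : ∀ x ∈ A, (N ^ e) x = 0) :
    ∀ b c : ℕ, e ≤ b + c → ∀ x ∈ A, ∀ y ∈ A, φ.B ((N ^ b) x) ((N ^ c) y) = 0 := by
  intro b
  induction b with
  | zero =>
    intro c hc x _ y hy
    rw [pow_kill_of_le hAi hAe (by omega) hy, map_zero]
  | succ b ih =>
    intro c hc x hx y hy
    have h := hN ((N ^ b) x) ((N ^ c) y)
    simp only [LinearMap.add_apply, Module.End.one_apply, map_add] at h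
    have e1 : N ((N ^ b) x) = (N ^ (b + 1)) x := by rw [pow_succ', Module.End.mul_apply]
    have e2 : N ((N ^ c) y) = (N ^ (c + 1)) y := by rw [pow_succ', Module.End.mul_apply]
    have e3 : (N ^ (b + 1)) x = (N ^ b) (N x) := by rw [pow_succ, Module.End.mul_apply]
    have h1 := ih (c + 1) (by omega) x hx y hy
    have h2 := ih (c + 1) (by omega) (N x) (hAi (Submodule.mem_map_of_mem hx)) y hy
    rw [← e3] at h2
    rw [e1, e2, h1, h2] at h
    linear_combination h

/-- The pairings of two chains at the top alternate. -/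
theorem chain_top {N : End F V} (hN : φ.Iso (1 + N)) {A : Submodule F V} (hAi : A.map N ≤ A) {e : ℕ}
    (hAe : ∀ x ∈ A, (N ^ e) x = 0) :
    ∀ c b : ℕ, b + c + 1 = e → ∀ x ∈ A, ∀ y ∈ A,
      φ.B ((N ^ b) x) ((N ^ c) y) = (-1) ^ c * φ.B ((N ^ (e - 1)) x) y := by
  intro c
  induction c with
  | zero =>
    intro b hb x _ y _
    rw [pow_zero, pow_zero, one_mul, Module.End.one_apply, show b = e - 1 by omega]
  | succ c ih =>
    intro b hb x hx y hy
    have h := hN ((N ^ b) x) ((N ^ c) y)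
    simp only [LinearMap.add_apply, Module.End.one_apply, map_add] at h
    have e1 : N ((N ^ b) x) = (N ^ (b + 1)) x := by rw [pow_succ', Module.End.mul_apply]
    have e2 : N ((N ^ c) y) = (N ^ (c + 1)) y := by rw [pow_succ', Module.End.mul_apply]
    have h1 := chain_zero hN hAi hAe (b + 1) (c + 1) (by omega) x hx y hy
    have h2 := ih (b + 1) (by omega) x hx y hy
    rw [e1, e2, h1, h2] at h
    rw [pow_succ ((-1 : F)) c]
    linear_combination h

/-- The top pairing is symmetric up to a sign and the involution. -/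
theorem top_flip {N : End F V} (hN : φ.Iso (1 + N)) {A : Submodule F V} (hAi : A.map N ≤ A) {e : ℕ}
    (he : 1 ≤ e) (hAe : ∀ x ∈ A, (N ^ e) x = 0) {x y : V} (hx : x ∈ A) (hy : y ∈ A) :
    φ.B ((N ^ (e - 1)) y) x = (-1) ^ (e - 1) * φ.ε * φ.σ (φ.B ((N ^ (e - 1)) x) y) := by
  have h := chain_top hN hAi hAe (e - 1) 0 (by omega) x hx y hy
  rw [pow_zero, Module.End.one_apply] at h
  rw [φ.flip x, h, map_mul, map_pow, map_neg, map_one]
  ring

variable [FiniteDimensional F V]

/-- Chains with non-degenerate top pairing span a non-degenerate invariant subspace. -/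
theorem chain_piece {N : End F V} (hN : φ.Iso (1 + N)) {A : Submodule F V} (hAi : A.map N ≤ A) {e : ℕ}
    (he : 1 ≤ e) (hAe : ∀ x ∈ A, (N ^ e) x = 0) {g : ℕ} (v : Fin g → V) (hv : ∀ k, v k ∈ A)
    (hgram : ∀ c : Fin g → F,
      (∀ l, ∑ k, c k * φ.B ((N ^ (e - 1)) (v k)) (v l) = 0) → c = 0) :
    ∃ P ≤ A, φ.Nd P ∧ P.map N ≤ P ∧ ∀ j, imDim N P j = g * (e - j) := by
  classical
  let f : Fin g × Fin e → V := fun x => (N ^ (x.2 : ℕ)) (v x.1)
  have key : ∀ c : Fin g × Fin e → F, (∀ y, φ.B (∑ x, c x • f x) (f y) = 0) → c = 0 := by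
    intro c hc
    suffices ∀ (i : ℕ) (hi : i < e) k, c (k, ⟨i, hi⟩) = 0 from funext fun x => this x.2 x.2.2 x.1
    intro i
    induction i using Nat.strong_induction_on with
    | _ i ih =>
      intro hi k
      refine congrFun (hgram (fun k => c (k, ⟨i, hi⟩)) fun l => ?_) k
      have h := hc (l, ⟨e - 1 - i, by omega⟩)
      rw [map_sum, LinearMap.sum_apply, Fintype.sum_prod_type] at h
      have h' : ∀ k, (∑ j : Fin e, φ.B (c (k, j) • f (k, j)) (f (l, ⟨e - 1 - i, by omega⟩))) =
          (-1) ^ (e - 1 - i) * (c (k, ⟨i, hi⟩) * φ.B ((N ^ (e - 1)) (v k)) (v l)) := fun k => by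
        rw [Finset.sum_eq_single (⟨i, hi⟩ : Fin e)]
        · rw [map_smul, LinearMap.smul_apply, smul_eq_mul,
            chain_top hN hAi hAe (e - 1 - i) i (by omega) _ (hv k) _ (hv l)]
          ring
        · intro j _ hj
          rcases lt_trichotomy (j : ℕ) i with h1 | h1 | h1
          · rw [show j = ⟨(j : ℕ), j.2⟩ from rfl, ih j h1 j.2 k, zero_smul, map_zero,
              LinearMap.zero_apply]
          · exact absurd (Fin.ext h1) hj
          · rw [map_smul, LinearMap.smul_apply,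
              chain_zero hN hAi hAe j (e - 1 - i) (by omega) _ (hv k) _ (hv l), smul_zero]
        · simp
      rw [Finset.sum_congr rfl fun k _ => h' k, ← Finset.mul_sum] at h
      exact (mul_eq_zero.1 h).resolve_left (pow_ne_zero _ (neg_ne_zero.2 one_ne_zero))
  have hli : LinearIndependent F f := Fintype.linearIndependent_iff.2 fun c hc x =>
    congrFun (key c fun y => by rw [hc, map_zero, LinearMap.zero_apply]) x
  set P := Submodule.span F (Set.range f) with hP
  have hfP : ∀ k i, (hi : i < e) → (N ^ i) (v k) ∈ P := fun k i hi =>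
    Submodule.subset_span ⟨(k, ⟨i, hi⟩), rfl⟩
  refine ⟨P, Submodule.span_le.2 (Set.range_subset_iff.2 fun x => pow_map_mem hAi (hv x.1) _),
    ?_, ?_, fun j => ?_⟩
  · rw [RForm.Nd, eq_bot_iff]
    rintro z ⟨hz, hzp⟩
    obtain ⟨c, rfl⟩ := (Submodule.mem_span_range_iff_exists_fun F).1 hz
    have h0 := key c fun y => φ.symm_zero (hzp _ (Submodule.subset_span ⟨y, rfl⟩))
    simp [h0]
  · rw [hP, Submodule.map_span, Submodule.span_le]
    rintro _ ⟨_, ⟨x, rfl⟩, rfl⟩
    show N ((N ^ (x.2 : ℕ)) (v x.1)) ∈ P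
    rw [← Module.End.mul_apply, ← pow_succ']
    by_cases hi : (x.2 : ℕ) + 1 < e
    · exact hfP _ _ hi
    · rw [pow_kill_of_le hAi hAe (by omega) (hv x.1)]
      exact zero_mem _
  · let ι : Fin g × Fin (e - j) → Fin g × Fin e := fun x =>
      (x.1, ⟨(x.2 : ℕ) + j, by have := x.2.2; omega⟩)
    have hι : Function.Injective ι := fun x y h => by
      simp only [ι, Prod.mk.injEq, Fin.mk.injEq] at h
      exact Prod.ext h.1 (Fin.ext (by omega))
    have hmap : P.map (N ^ j) = Submodule.span F (Set.range (f ∘ ι)) := by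
      rw [hP, Submodule.map_span]
      refine le_antisymm (Submodule.span_le.2 ?_) (Submodule.span_le.2 ?_)
      · rintro _ ⟨_, ⟨x, rfl⟩, rfl⟩
        show (N ^ j) ((N ^ (x.2 : ℕ)) (v x.1)) ∈ _
        rw [← Module.End.mul_apply, ← pow_add]
        by_cases hi : (x.2 : ℕ) + j < e
        · refine Submodule.subset_span ⟨(x.1, ⟨(x.2 : ℕ), by omega⟩), ?_⟩
          show (N ^ ((x.2 : ℕ) + j)) (v x.1) = _
          rw [add_comm]
        · rw [pow_kill_of_le hAi hAe (by omega) (hv x.1)]
          exact zero_mem _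
      · rintro _ ⟨x, rfl⟩
        refine Submodule.subset_span ⟨_, ⟨(x.1, ⟨(x.2 : ℕ), by have := x.2.2; omega⟩), rfl⟩, ?_⟩
        show (N ^ j) ((N ^ (x.2 : ℕ)) (v x.1)) = (N ^ ((x.2 : ℕ) + j)) (v x.1)
        rw [← Module.End.mul_apply, ← pow_add, add_comm]
    rw [imDim, hmap, finrank_span_eq_card (hli.comp ι hι), Fintype.card_prod, Fintype.card_fin,
      Fintype.card_fin]

theorem blockParts_sup (N : End F V) (U W : Submodule F V) (hU : U.map N ≤ U) (hW : W.map N ≤ W)
    (hd : Disjoint U W) (p : ℕ) : blockParts N (U ⊔ W) p = blockParts N U p + blockParts N W p := by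
  ext a
  rw [Multiset.count_add]
  by_cases ha : 0 < a ∧ a ≤ p
  · obtain ⟨j, rfl⟩ : ∃ j, a = j + 1 := ⟨a - 1, by omega⟩
    simp only [count_blockParts_succ _ _ (show j < p by omega), blockDelta_add N U W hU hW hd]
    have := blockDelta_anti N U hU j
    have := blockDelta_anti N W hW j
    omega
  · have h0 : ∀ X : Submodule F V, (blockParts N X p).count a = 0 := fun X =>
      Multiset.count_eq_zero.2 fun h => ha (mem_blockParts N X h)
    simp [h0]

theorem blockParts_bot (N : End F V) (p : ℕ) : blockParts N (⊥ : Submodule F V) p = 0 := by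
  have h : ∀ j, blockDelta N (⊥ : Submodule F V) j = 0 := fun j => by
    rw [blockDelta, Submodule.map_bot, bot_inf_eq, finrank_bot]
  simp [blockParts, h]

theorem blockParts_piece (N : End F V) (P : Submodule F V) {g e p : ℕ} (he : 1 ≤ e) (hep : e ≤ p)
    (h : ∀ j, imDim N P j = g * (e - j)) : blockParts N P p = Multiset.replicate g e := by
  have hδ : ∀ j, blockDelta N P j = if j < e then g else 0 := fun j => by
    have h1 := imDim_succ N P j
    rw [h, h] at h1
    split
    · rw [show e - j = e - (j + 1) + 1 by omega, Nat.mul_add, mul_one] at h1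
      omega
    · rw [show e - j = 0 by omega, show e - (j + 1) = 0 by omega] at h1
      omega
  ext a
  rw [Multiset.count_replicate]
  by_cases ha : 0 < a ∧ a ≤ p
  · obtain ⟨j, rfl⟩ : ∃ j, a = j + 1 := ⟨a - 1, by omega⟩
    rw [count_blockParts_succ _ _ (show j < p by omega), hδ, hδ]
    split_ifs <;> omega
  · rw [Multiset.count_eq_zero.2 fun h' => ha (mem_blockParts N P h'), if_neg (by omega)]

/-- A non-zero subspace has a top power with a non-zero pairing. -/
theorem exists_top {N : End F V} {p : ℕ} (hp : N ^ p = 0) {A : Submodule F V} (hA : φ.Nd A)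
    (hAi : A.map N ≤ A) (hne : A ≠ ⊥) :
    ∃ e, 1 ≤ e ∧ e ≤ p ∧ (∀ x ∈ A, (N ^ e) x = 0) ∧
      ∃ x ∈ A, ∃ y ∈ A, φ.B ((N ^ (e - 1)) x) y ≠ 0 := by
  classical
  have hex : ∃ e, ∀ x ∈ A, (N ^ e) x = 0 := ⟨p, fun x _ => by rw [hp]; rfl⟩
  set e := Nat.find hex with he
  have he1 : 1 ≤ e := by
    by_contra h
    refine hne ((Submodule.eq_bot_iff A).2 fun x hx => ?_)
    have h' := Nat.find_spec hex x hx
    rwa [show Nat.find hex = 0 by omega, pow_zero, Module.End.one_apply] at h'
  refine ⟨e, he1, Nat.find_min' hex fun x _ => by rw [hp]; rfl, Nat.find_spec hex, ?_⟩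
  have hmin := Nat.find_min hex (show e - 1 < Nat.find hex by omega)
  push Not at hmin
  obtain ⟨x, hx, hx0⟩ := hmin
  obtain ⟨y, hy, hxy⟩ := RForm.nd_iff.1 hA _ (pow_map_mem hAi hx (e - 1)) hx0
  exact ⟨x, hx, y, hy, hxy⟩

/-- The admissible partial types of a non-degenerate invariant subspace are attained. -/
theorem exists_unip_sub {N : End F V} (hN : φ.Iso (1 + N)) {p : ℕ} (hp : N ^ p = 0) (g : ℕ → ℕ)
    (hg : ∀ e, 1 ≤ g e)
    (hsel : ∀ A : Submodule F V, A.map N ≤ A → ∀ e, 1 ≤ e → e ≤ p → (∀ x ∈ A, (N ^ e) x = 0) →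
      (∃ x ∈ A, ∃ y ∈ A, φ.B ((N ^ (e - 1)) x) y ≠ 0) →
      ∃ v : Fin (g e) → V, (∀ k, v k ∈ A) ∧
        ∀ c : Fin (g e) → F, (∀ l, ∑ k, c k * φ.B ((N ^ (e - 1)) (v k)) (v l) = 0) → c = 0) :
    ∀ A : Submodule F V, φ.Nd A → A.map N ≤ A →
      (∀ a, g a ∣ (blockParts N A p).count a) ∧
      ∀ ν : Multiset ℕ, ν ≤ blockParts N A p → (∀ a, g a ∣ ν.count a) →
        ∃ W ≤ A, φ.Nd W ∧ W.map N ≤ W ∧ finrank F W = ν.sum := by
  suffices ∀ (D : ℕ) (A : Submodule F V), finrank F A = D → φ.Nd A → A.map N ≤ A →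
      (∀ a, g a ∣ (blockParts N A p).count a) ∧
      ∀ ν : Multiset ℕ, ν ≤ blockParts N A p → (∀ a, g a ∣ ν.count a) →
        ∃ W ≤ A, φ.Nd W ∧ W.map N ≤ W ∧ finrank F W = ν.sum from fun A => this _ A rfl
  intro D
  induction D using Nat.strong_induction_on with
  | _ D ih =>
    intro A hD hA hAi
    by_cases hne : A = ⊥
    · subst hne
      rw [blockParts_bot]
      refine ⟨fun a => by simp, fun ν hν _ => ⟨⊥, le_rfl, RForm.nd_bot, by simp, ?_⟩⟩
      rw [Multiset.le_zero.1 hν]
      simp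
    obtain ⟨e, he1, hep, hAe, hβ⟩ := exists_top hp hA hAi hne
    obtain ⟨v, hv, hgram⟩ := hsel A hAi e he1 hep hAe hβ
    obtain ⟨P, hPA, hPn, hPi, hPd⟩ := chain_piece hN hAi he1 hAe v hv hgram
    obtain ⟨hsplit, hRn, hRd⟩ := hPn.inner_compl hA hPA
    set R := A ⊓ φ.perp P with hR
    have hPi' : Inv (1 + N) P := Inv.one_add_iff.2 hPi
    have hRi : R.map N ≤ R :=
      Inv.one_add_iff.1 ((Inv.one_add_iff.2 hAi : Inv (1 + N) A).inf (hN.inv_perp hPi'))
    have hpos : 1 ≤ finrank F P := by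
      rw [← imDim_zero N P, hPd, Nat.sub_zero]
      exact Nat.one_le_iff_ne_zero.2 (Nat.mul_ne_zero (by have := hg e; omega) (by omega))
    obtain ⟨hdvd, hsub⟩ := ih (finrank F R) (by omega) R rfl hRn hRi
    have hparts : blockParts N A p = Multiset.replicate (g e) e + blockParts N R p := by
      conv_lhs => rw [← hsplit]
      rw [blockParts_sup N P R hPi hRi ((disjoint_iff.2 hPn).mono_right inf_le_right),
        blockParts_piece N P he1 hep hPd]
    refine ⟨fun a => ?_, fun ν hν hνg => ?_⟩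
    · rw [hparts, Multiset.count_add, Multiset.count_replicate]
      refine Nat.dvd_add ?_ (hdvd a)
      split_ifs with h
      · rw [h]
      · exact dvd_zero _
    rw [hparts] at hν
    by_cases hle : ν ≤ blockParts N R p
    · obtain ⟨W, hW, hW'⟩ := hsub ν hle hνg
      exact ⟨W, hW.trans inf_le_left, hW'⟩
    have hcount : ∀ a, ν.count a ≤ (if e = a then g e else 0) + (blockParts N R p).count a := fun a => by
      have h := Multiset.le_iff_count.1 hν a
      rwa [Multiset.count_add, Multiset.count_replicate] at h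
    have hbig : g e ≤ ν.count e := by
      by_contra hlt
      apply hle
      refine Multiset.le_iff_count.2 fun a => ?_
      by_cases ha : e = a
      · subst ha
        rcases Nat.eq_zero_or_pos (ν.count e) with h0 | h0
        · omega
        · exact absurd (Nat.le_of_dvd h0 (hνg e)) hlt
      · have := hcount a
        rwa [if_neg ha, zero_add] at this
    obtain ⟨ν', rfl⟩ := Multiset.le_iff_exists_add.1 (Multiset.le_count_iff_replicate_le.1 hbig)
    obtain ⟨W, hW, hWn, hWi, hWd⟩ := hsub ν' (le_of_add_le_add_left hν) fun a => by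
      have h := hνg a
      rw [Multiset.count_add, Multiset.count_replicate] at h
      refine (Nat.dvd_add_right ?_).1 h
      split_ifs with h1
      · rw [h1]
      · exact dvd_zero _
    have hperp : W ≤ φ.perp P := hW.trans inf_le_right
    refine ⟨P ⊔ W, sup_le hPA (hW.trans inf_le_left), hPn.sup hWn hperp, ?_, ?_⟩
    · rw [Submodule.map_sup]
      exact sup_le_sup hPi hWi
    · rw [hPn.finrank_sup hperp, hWd, Multiset.sum_add, Multiset.sum_replicate, smul_eq_mul,
        ← imDim_zero N P, hPd, Nat.sub_zero]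

/-- The type of a non-degenerate invariant subspace is part of the whole type. -/
theorem blockParts_le_top {N : End F V} (hN : φ.Iso (1 + N)) {W : Submodule F V} (hW : φ.Nd W)
    (hWi : W.map N ≤ W) (p : ℕ) : blockParts N W p ≤ blockParts N ⊤ p :=
  blockParts_le N W _ hWi (Inv.one_add_iff.1 (hN.inv_perp (Inv.one_add_iff.2 hWi))) hW.isCompl p

end Cfsg.Agent.Linear.Elusive.Forms
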