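import Cfsg.Agent.Linear.Elusive.Forms.UnitaryTools
import Cfsg.Agent.Linear.Elusive.Forms.UnipNd
import Cfsg.Agent.H72.OrthTypeFix

/-!
Hermitian forms invariant under unipotent endomorphisms of prescribed Jordan type.
-/

set_option autoImplicit false
set_option linter.unusedSectionVars false

namespace Cfsg.Agent.Linear.Elusive.Forms

open Module Matrix Cfsg.Agent.H72.UnipotentForm Cfsg.Agent.Arith.JordanCent
open scoped Matrix

universe u

variable {F : Type u} [Field F]

theorem pairK_top {n a b : ℕ} (h : a + b + 1 = n) : pairK (F := F) n a b = (-1) ^ a := by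
  rw [pairK, if_pos h.le]
  by_cases ha : a = 0
  · subst ha; rw [if_pos rfl, if_pos (by omega), pow_zero]
  · rw [if_neg ha, show n - 1 - b = a by omega, Nat.choose_self, Nat.cast_one, mul_one]

theorem map_altF (σ : F →+* F) : ∀ p r, σ (altF p r) = altF p r
  | 0, r => by rw [altF]; split_ifs <;> simp
  | p + 1, 0 => by rw [altF, map_zero]
  | p + 1, 1 => by rw [altF, map_neg, map_altF σ p 0]
  | p + 1, r + 2 => by rw [altF, map_neg, map_add, map_altF σ p r, map_altF σ p (r + 1)]

theorem map_altS (σ : F →+* F) (i a b : ℕ) : σ (altS i a b) = altS i a b := by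
  unfold altS altU
  rw [map_sub]
  congr 1 <;> split_ifs <;> simp [map_altF]

theorem map_pairK (σ : F →+* F) (n a b : ℕ) : σ (pairK n a b) = pairK n a b := by
  unfold pairK
  split_ifs <;> simp

/-- The coefficients on a block of size `e`. -/
def hS (δ : F) (e a b : ℕ) : F :=
  if Even e then δ * altS (e / 2) a b else pairK e a b + pairK e b a

theorem hS_rec (δ : F) (e a b : ℕ) : hS δ e (a + 1) b + hS δ e a (b + 1) + hS δ e (a + 1) (b + 1) = 0 := by
  unfold hS
  split_ifs
  · linear_combination δ * altS_rec (F := F) (e / 2) a b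
  · linear_combination pairK_rec (F := F) e a b + pairK_rec (F := F) e b a

theorem hS_out (δ : F) {e a b : ℕ} (h : e < a + b + 1) : hS δ e a b = 0 := by
  unfold hS
  split_ifs
  · rw [altS_out (by omega), mul_zero]
  · rw [pairK_out h, pairK_out (by omega), add_zero]

theorem hS_anti {δ : F} (hδ : δ ≠ 0) {e a b : ℕ} (h2 : Odd e → (2 : F) ≠ 0) (h : a + b + 1 = e) :
    hS δ e a b ≠ 0 := by
  unfold hS
  split_ifs with he
  · obtain ⟨r, hr⟩ := he
    exact mul_ne_zero hδ (altS_anti (by omega))
  · rw [pairK_top h, pairK_top (show b + a + 1 = e by omega)]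
    have hab : Even (a + b) := by
      obtain ⟨r, hr⟩ := Nat.not_even_iff_odd.1 he
      exact ⟨r, by omega⟩
    have e1 : (-1 : F) ^ b = (-1) ^ a := by
      rcases Nat.even_or_odd a with ha | ha
      · rw [ha.neg_one_pow, ((Nat.even_add.1 hab).1 ha).neg_one_pow]
      · have hb : Odd b := Nat.not_even_iff_odd.1 fun hb =>
          Nat.not_even_iff_odd.2 ha ((Nat.even_add.1 hab).2 hb)
        rw [ha.neg_one_pow, hb.neg_one_pow]
    rw [e1, ← two_mul]
    exact mul_ne_zero (h2 (Nat.not_even_iff_odd.1 he)) (pow_ne_zero _ (neg_ne_zero.2 one_ne_zero))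

theorem hS_swap (σ : F →+* F) {δ : F} (hδ : σ δ = -δ) (e a b : ℕ) : hS δ e b a = σ (hS δ e a b) := by
  unfold hS
  split_ifs
  · rw [map_mul, hδ, map_altS]
    unfold altS
    ring
  · rw [map_add, map_pairK, map_pairK, add_comm]

variable [Fintype F] {p q : ℕ} [Fact p.Prime] [CharP F p]

/-- A unipotent isometry of a Hermitian form with prescribed Jordan type. -/
theorem exists_herm_type (hF : Fintype.card F = q ^ 2) (μ : Multiset ℕ) (hμ : ∀ a ∈ μ, 0 < a ∧ a ≤ p)
    (h2 : ∀ a ∈ μ, Odd a → (2 : F) ≠ 0) :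
    ∃ (t : ℕ) (d : Fin t → ℕ) (φ : RForm F (Idx d → F)) (T : End F (Idx d → F)),
      φ.σ = conj hF ∧ φ.ε = 1 ∧ φ.Iso T ∧ T ^ p = 1 ∧ finrank F (Idx d → F) = μ.sum ∧
      H99.blockParts (T - 1) ⊤ p = μ ∧ ((∃ f ∈ μ, 1 < f) → T ≠ 1) := by
  classical
  set d : Fin μ.toList.length → ℕ := μ.toList.get with hdd
  have hmap : Finset.univ.val.map d = μ := by
    rw [Fin.univ_val_map, hdd, List.ofFn_get, Multiset.coe_toList]
  have hdμ : ∀ k, d k ∈ μ := fun k => by
    rw [← hmap]; exact Multiset.mem_map_of_mem _ (Finset.mem_univ k)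
  have hdp : ∀ k, 0 < d k ∧ d k ≤ p := fun k => hμ _ (hdμ k)
  set σ := conj hF
  obtain ⟨δ, hδ0, hδ⟩ : ∃ δ : F, δ ≠ 0 ∧ σ δ = -δ := by
    obtain ⟨c, hc⟩ : ∃ c, σ c ≠ c := by
      by_contra h
      push Not at h
      exact conj_ne_id hF (RingHom.ext h)
    exact ⟨c - σ c, sub_ne_zero.2 (Ne.symm hc), by rw [map_sub, conj_conj, neg_sub]⟩
  let C : ∀ k, Matrix (Fin (d k)) (Fin (d k)) F := fun k => Matrix.of fun a b => hS δ (d k) a b
  let G : Matrix (Idx d) (Idx d) F := Matrix.blockDiagonal' C
  have hC : ∀ k v, C k *ᵥ v = 0 → v = 0 := by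
    intro k v hv
    suffices ∀ (b : ℕ) (hb : b < d k), v ⟨b, hb⟩ = 0 from funext fun x => this x x.2
    intro b
    induction b using Nat.strong_induction_on with
    | _ b ih =>
      intro hb
      have h0 := congrFun hv ⟨d k - 1 - b, by omega⟩
      rw [Matrix.mulVec, dotProduct, Finset.sum_eq_single (⟨b, hb⟩ : Fin (d k))] at h0
      · simp only [C, Matrix.of_apply, Pi.zero_apply, mul_eq_zero] at h0
        exact h0.resolve_left (hS_anti hδ0 (h2 _ (hdμ k)) (by omega))
      · intro c _ hne
        simp only [C, Matrix.of_apply]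
        rcases lt_trichotomy (c : ℕ) b with h | h | h
        · rw [show c = ⟨(c : ℕ), c.2⟩ from rfl, ih c h c.2, mul_zero]
        · exact absurd (Fin.ext h) hne
        · rw [hS_out δ (by omega), zero_mul]
      · simp
  have hG : G.det ≠ 0 := by
    rw [Ne, ← Matrix.exists_mulVec_eq_zero_iff]
    rintro ⟨v, hv, hGv⟩
    refine hv (funext fun x => ?_)
    obtain ⟨k, a⟩ := x
    have : C k *ᵥ (fun b => v ⟨k, b⟩) = 0 := funext fun a' => by
      have h0 := congrFun hGv ⟨k, a'⟩
      rw [Matrix.mulVec, dotProduct, Fintype.sum_sigma, Finset.sum_eq_single k] at h0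
      · simpa [G, Matrix.mulVec, dotProduct] using h0
      · intro l _ hl
        exact Finset.sum_eq_zero fun x _ => by
          simp only [G, Matrix.blockDiagonal'_apply_ne _ _ _ (Ne.symm hl), zero_mul]
      · simp
    exact congrFun (hC k _ this) a
  have hGs : Gᵀ = G.map σ := by
    rw [Matrix.blockDiagonal'_transpose, Matrix.blockDiagonal'_map _ _ (map_zero σ)]
    congr 1
    funext k
    exact Matrix.ext fun a b => hS_swap σ hδ (d k) a b
  have hinv : (Cfsg.jordanTypeMatrix d F)ᵀ * G * Cfsg.jordanTypeMatrix d F = G := by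
    rw [Cfsg.jordanTypeMatrix, Matrix.blockDiagonal'_transpose, ← Matrix.blockDiagonal'_mul,
      ← Matrix.blockDiagonal'_mul]
    refine congrArg Matrix.blockDiagonal' (funext fun k => Matrix.ext fun a b => ?_)
    have hX : ∀ x : Fin (d k), (C k * Cfsg.jordanBlock (d k) F) x b =
        hS δ (d k) x b + hS δ (d k) x ((b : ℕ) + 1) := fun x => by
      rw [Matrix.mul_apply, jordanBlock_sum_right (fun c => C k x c) b]
      congr 1
      split_ifs with h
      · rfl
      · exact (hS_out δ (by omega)).symm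
    rw [Matrix.mul_assoc, Matrix.mul_apply]
    simp only [Matrix.transpose_apply]
    rw [Finset.sum_congr rfl fun m _ => mul_comm (Cfsg.jordanBlock (d k) F m a) _,
      jordanBlock_sum_right (fun m => (C k * Cfsg.jordanBlock (d k) F) m b) a, hX]
    show _ = hS δ (d k) a b
    split_ifs with h
    · rw [hX]
      linear_combination hS_rec δ (d k) a b
    · have h1 := hS_rec δ (d k) a b
      rw [hS_out δ (a := (a : ℕ) + 1) (b := b) (by omega),
        hS_out δ (a := (a : ℕ) + 1) (b := (b : ℕ) + 1) (by omega)] at h1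
      linear_combination h1
  have hσJ : ∀ y : Idx d → F, (fun i => σ (jEnd d y i)) = jEnd d fun i => σ (y i) := fun y => by
    funext i
    obtain ⟨k, a⟩ := i
    rw [jEnd, Matrix.toLinAlgEquiv'_apply, Matrix.toLinAlgEquiv'_apply, jordan_mulVec, jordan_mulVec,
      map_add, apply_ite σ, map_zero]
  let B : (Idx d → F) →ₗ[F] (Idx d → F) →ₛₗ[σ] F := LinearMap.mk₂'ₛₗ (RingHom.id F) σ
    (fun x y => Matrix.toBilin' G x fun i => σ (y i))
    (fun a b c => by rw [map_add, LinearMap.add_apply])
    (fun a b c => by rw [map_smul, LinearMap.smul_apply]; rfl)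
    (fun a b c => by
      rw [← map_add]; congr 1; funext i; exact map_add σ _ _)
    (fun a b c => by
      rw [← map_smul]; congr 1; funext i; exact map_mul σ _ _)
  have hB : ∀ x y, B x y = x ⬝ᵥ G *ᵥ fun i => σ (y i) := fun x y => Matrix.toBilin'_apply' _ _ _
  let φ : RForm F (Idx d → F) :=
    { σ := σ
      ε := 1
      B := B
      invol := conj_conj hF
      flip := fun u v => by
        rw [one_mul, hB, hB, RingHom.map_dotProduct]
        have e1 : (fun i => σ ((G *ᵥ fun i => σ (v i)) i)) = Gᵀ *ᵥ v := by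
          funext i
          rw [RingHom.map_mulVec, hGs]
          simp only [Function.comp_def, σ, conj_conj]
        show _ = (fun i => σ (u i)) ⬝ᵥ fun i => σ ((G *ᵥ fun i => σ (v i)) i)
        rw [e1, Matrix.mulVec_transpose, dotProduct_comm (fun i => σ (u i)) (v ᵥ* G), ← Matrix.dotProduct_mulVec]
      nondeg := fun v hv => (LinearMap.BilinForm.nondegenerate_toBilin'_of_det_ne_zero' G hG).1 v fun w => by
        have h := hv fun i => σ (w i)
        show Matrix.toBilin' G v w = 0
        rw [show (w : Idx d → F) = fun i => σ (σ (w i)) from funext fun i => (conj_conj hF _).symm]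
        exact h }
  set T : End F (Idx d → F) := jEnd d
  have hT : φ.Iso T := fun x y => by
    show Matrix.toBilin' G (T x) (fun i => σ (T y i)) = _
    rw [hσJ y]
    exact inv_of_eq hinv x _
  have hshift : T - 1 = H99.shiftEnd (Pi.basisFun F (Idx d)) := H72.OrthTypeFix.jEnd_eq_shiftEnd d
  refine ⟨_, d, φ, T, rfl, rfl, hT, ?_, ?_, ?_, ?_⟩
  · rcases subsingleton_or_nontrivial (Idx d → F) with hV | hV
    · exact LinearMap.ext fun v => Subsingleton.elim _ _
    haveI : CharP (End F (Idx d → F)) p := charP_of_injective_algebraMap (algebraMap F _).injective p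
    have h0 : (T - 1) ^ p = 0 := by
      rw [hshift]; exact H99.shiftEnd_pow_eq_zero _ fun k => (hdp k).2
    rw [sub_pow_char_of_commute p (Commute.one_right T), one_pow, sub_eq_zero] at h0
    exact h0
  · rw [Module.finrank_fintype_fun_eq_card, Fintype.card_sigma]
    conv_rhs => rw [← hmap]
    simp only [Fintype.card_fin]
    rfl
  · rw [hshift, H99.blockParts_shiftEnd _ hdp, hmap]
  · rintro ⟨f, hf, hf1⟩ h1
    obtain ⟨k, hk⟩ : ∃ k, d k = f := by
      rw [← hmap, Multiset.mem_map] at hf
      exact hf.imp fun k hk => hk.2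
    have hb := H99.shiftEnd_pow_apply (Pi.basisFun F (Idx d)) ⟨k, ⟨0, (hdp k).1⟩⟩ 1
    rw [← hshift, h1, sub_self, pow_one, LinearMap.zero_apply,
      dif_pos (by show 0 + 1 < d k; omega)] at hb
    exact Module.Basis.ne_zero _ _ hb.symm

end Cfsg.Agent.Linear.Elusive.Forms
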