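import Cfsg.Agent.Linear.Elusive.Forms.Adjoint

/-!
Totally isotropic invariant subspaces of a semisimple isometry.
-/

set_option autoImplicit false
set_option linter.unusedSectionVars false

namespace Cfsg.Agent.Linear.Elusive.Forms

open Polynomial Module

universe u v

variable {F : Type u} [Field F] {V : Type v} [AddCommGroup V] [Module F V] {φ : RForm F V}
  [FiniteDimensional F V]

/-- Invariant subspace killed by a product of coprime factors. -/
theorem split_local {T : End F V} {f g : F[X]} (hfg : IsCoprime f g) {U : Submodule F V}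
    (hU : Inv T U) (h : ∀ v ∈ U, aeval T (f * g) v = 0) :
    U = U ⊓ LinearMap.ker (aeval T f) ⊔ U ⊓ LinearMap.ker (aeval T g) := by
  obtain ⟨a, b, hab⟩ := hfg
  refine le_antisymm (fun v hv => ?_) (sup_le inf_le_left inf_le_left)
  have key : ∀ (c f' g' : F[X]), f' * g' = f * g → aeval T (c * g') v ∈ LinearMap.ker (aeval T f') := by
    intro c f' g' e
    rw [LinearMap.mem_ker, ← Module.End.mul_apply, ← map_mul,
      show f' * (c * g') = c * (f' * g') by ring, e, map_mul, Module.End.mul_apply, h v hv, map_zero]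
  have e : aeval T (b * g) v + aeval T (a * f) v = v := by
    rw [← LinearMap.add_apply, ← map_add, add_comm, hab, map_one, Module.End.one_apply]
  rw [← e]
  exact Submodule.add_mem_sup ⟨hU.aeval_mem _ hv, key b f g rfl⟩
    ⟨hU.aeval_mem _ hv, key a g f (mul_comm _ _)⟩

/-- A maximal totally isotropic invariant subspace with an invariant anisotropic complement. -/
theorem exists_maxTI {T : End F V} (hT : φ.Iso T) {P : F[X]} (hsq : Squarefree P)
    (hP : aeval T P = 0) {A : Submodule F V} (hAi : Inv T A) (hA : φ.Nd A) :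
    ∃ W C : Submodule F V, W ≤ A ∧ Inv T W ∧ φ.TI W ∧ C ≤ A ∧ Inv T C ∧ φ.Nd C ∧
      C ≤ φ.perp W ∧ 2 * finrank F W + finrank F C = finrank F A ∧
      ∀ U ≤ C, Inv T U → φ.TI U → U = ⊥ := by
  classical
  let Q : ℕ → Prop := fun k => ∃ W : Submodule F V, W ≤ A ∧ Inv T W ∧ φ.TI W ∧ finrank F W = k
  have h0 : Q 0 := ⟨⊥, bot_le, inv_bot T, RForm.ti_bot, finrank_bot F V⟩
  have hspec := Nat.findGreatest_spec (P := Q) (Nat.zero_le (finrank F V)) h0
  obtain ⟨W, hWA, hWi, hWt, hWk⟩ := hspec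
  obtain ⟨W', hW'i, hW'c⟩ := exists_compl hsq hP hWi
  have hsplit : W ⊔ A ⊓ φ.perp W ⊓ W' = A ⊓ φ.perp W := by
    refine le_antisymm (sup_le (le_inf hWA hWt) inf_le_left) fun x hx => ?_
    obtain ⟨w, hw, y, hy, rfl⟩ := Submodule.mem_sup.1
      (hW'c.sup_eq_top.symm ▸ Submodule.mem_top (x := x))
    refine Submodule.add_mem_sup hw ⟨?_, hy⟩
    simpa using sub_mem hx (le_inf hWA hWt hw)
  set C := A ⊓ φ.perp W ⊓ W'
  have hCA : C ≤ A := inf_le_left.trans inf_le_left
  have hCW : C ≤ φ.perp W := inf_le_left.trans inf_le_right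
  have hdisj : W ⊓ C = ⊥ :=
    eq_bot_iff.2 (le_trans (inf_le_inf_left _ inf_le_right) hW'c.inf_eq_bot.le)
  have hCi : Inv T C := (hAi.inf (hT.inv_perp hWi)).inf hW'i
  have hdim := RForm.finrank_inf_perp hA hWA
  rw [← hsplit, finrank_sup_eq (disjoint_iff.2 hdisj) le_rfl le_rfl] at hdim
  have hCnd : φ.Nd C := by
    rw [RForm.Nd, eq_bot_iff]
    rintro x ⟨hx, hxp⟩
    have h1 : x ∈ φ.perp (A ⊓ φ.perp W) := by
      rw [← hsplit, RForm.perp_sup]
      exact ⟨hCW hx, hxp⟩
    have h2 : φ.perp A ⊔ W = φ.perp (A ⊓ φ.perp W) := by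
      conv_rhs => rw [show A ⊓ φ.perp W = φ.perp (φ.perp A ⊔ W) by
        rw [RForm.perp_sup, RForm.perp_perp]]
      rw [RForm.perp_perp]
    rw [← h2] at h1
    obtain ⟨z, hz, w, hw, rfl⟩ := Submodule.mem_sup.1 h1
    have hzA : z ∈ A ⊓ φ.perp A := ⟨by simpa using sub_mem (hCA hx) (hWA hw), hz⟩
    rw [hA, Submodule.mem_bot] at hzA
    subst hzA
    rw [zero_add] at hx ⊢
    exact hdisj.le ⟨hw, hx⟩
  refine ⟨W, C, hWA, hWi, hWt, hCA, hCi, hCnd, hCW, by omega, fun U hU hUi hUt => ?_⟩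
  have hWU : finrank F ↥(W ⊔ U) = finrank F W + finrank F U :=
    finrank_sup_eq (disjoint_iff.2 hdisj) le_rfl hU
  have hQ : Q (finrank F W + finrank F U) :=
    ⟨W ⊔ U, sup_le hWA (hU.trans hCA), hWi.sup hUi,
      hWt.sup hUt (RForm.le_perp_iff.1 (hU.trans hCW)), hWU⟩
  have h3 := Nat.le_findGreatest (P := Q) (n := finrank F V)
    (by rw [← hWU]; exact Submodule.finrank_le _) hQ
  rw [← Submodule.finrank_eq_zero]
  omega

variable [Fintype F] {p : ℕ} [Fact p.Prime] [CharP F p]

/-- The norm map of a field with `s ^ 2` elements is onto the elements fixed by `x ↦ x ^ s`. -/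
theorem exists_pow_succ_eq {E : Type*} [Field E] [Finite E] {s : ℕ} (hE : Nat.card E = s * s) {x : E}
    (hx : x ≠ 0) (hxs : x ^ s = x) : ∃ b : E, b ^ (s + 1) = x := by
  have h2 : 1 < s * s := hE ▸ Finite.one_lt_card
  have hs2 : 2 ≤ s := by
    rcases s with _ | _ | s <;> simp_all
  obtain ⟨z, hz⟩ := IsCyclic.exists_generator (α := Eˣ)
  obtain ⟨k, hk⟩ := (mem_powers_iff_mem_zpowers.2 (hz (Units.mk0 x hx)))
  simp only at hk
  have hord : orderOf z = s * s - 1 := by
    rw [orderOf_eq_card_of_forall_mem_zpowers hz, Nat.card_units, hE]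
  have h1 : z ^ (k * (s - 1)) = 1 := by
    rw [pow_mul, hk]
    refine Units.ext ?_
    rw [Units.val_pow_eq_pow_val, Units.val_mk0, Units.val_one]
    apply mul_left_cancel₀ hx
    rw [← pow_succ', Nat.sub_add_cancel (by omega : 1 ≤ s), hxs, mul_one]
  have hdvd := orderOf_dvd_of_pow_eq_one h1
  rw [hord, show s * s - 1 = (s + 1) * (s - 1) by
    rw [← Nat.sq_sub_sq, one_pow, pow_two]] at hdvd
  obtain ⟨c, rfl⟩ := Nat.dvd_of_mul_dvd_mul_right (by omega) hdvd
  refine ⟨((z ^ c : Eˣ) : E), ?_⟩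
  rw [← Units.val_pow_eq_pow_val, ← pow_mul, mul_comm, hk, Units.val_mk0]

section cyclicvec

variable {T : End F V} {s : ℕ}

/-- The span of the images of a vector. -/
noncomputable def cyc (T : End F V) (v : V) : Submodule F V :=
  LinearMap.range ((LinearMap.applyₗ v).comp (aeval T).toLinearMap)

theorem mem_cyc {v x : V} : x ∈ cyc T v ↔ ∃ f : F[X], aeval T f v = x := Iff.rfl

theorem self_mem_cyc (v : V) : v ∈ cyc T v := ⟨1, by simp⟩

theorem inv_cyc (v : V) : Inv T (cyc T v) := by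
  rintro _ ⟨x, ⟨f, rfl⟩, rfl⟩
  exact ⟨X * f, by simp⟩

theorem cyc_le {v : V} {A : Submodule F V} (hA : Inv T A) (hv : v ∈ A) : cyc T v ≤ A := by
  rintro _ ⟨f, rfl⟩
  exact hA.aeval_mem f hv

theorem finrank_cyc_le {g : F[X]} (hg : Irreducible g) {v : V} (hv : aeval T g v = 0) :
    finrank F (cyc T v) ≤ g.natDegree := by
  have hle : (Ideal.span {g}).restrictScalars F ≤
      LinearMap.ker ((LinearMap.applyₗ v).comp (aeval T).toLinearMap) := by
    intro f hf
    rw [Submodule.restrictScalars_mem, Ideal.mem_span_singleton] at hf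
    obtain ⟨c, rfl⟩ := hf
    rw [LinearMap.mem_ker]
    show aeval T (g * c) v = 0
    rw [mul_comm, map_mul, Module.End.mul_apply, hv, map_zero]
  haveI : Fact (Irreducible g) := ⟨hg⟩
  haveI := (AdjoinRoot.powerBasis hg.ne_zero).finite
  have hfin : finrank F (F[X] ⧸ (Ideal.span {g}).restrictScalars F) = g.natDegree := by
    rw [(Submodule.Quotient.restrictScalarsEquiv F (Ideal.span {g})).finrank_eq]
    exact ((AdjoinRoot.powerBasis hg.ne_zero).finrank).trans (AdjoinRoot.powerBasis_dim hg.ne_zero)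
  haveI : Module.Finite F (F[X] ⧸ (Ideal.span {g}).restrictScalars F) :=
    Module.finite_of_finrank_pos (by rw [hfin]; exact hg.natDegree_pos)
  have := LinearMap.finrank_range_le (Submodule.liftQ _ _ hle)
  rw [Submodule.range_liftQ, hfin] at this
  exact this

/-- Modulo an irreducible polynomial every polynomial is an `s`-th power. -/
theorem exists_pow_mk {g : F[X]} (hg : Irreducible g) (hs : ∃ e, s = p ^ e) (f : F[X]) :
    ∃ k : F[X], g ∣ f - k ^ s := by
  haveI : Fact (Irreducible g) := ⟨hg⟩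
  haveI : Finite (AdjoinRoot g) := by
    have := (AdjoinRoot.powerBasis hg.ne_zero).finite
    exact Module.finite_of_finite F
  haveI : CharP (AdjoinRoot g) p := charP_of_injective_algebraMap (algebraMap F _).injective p
  obtain ⟨e, rfl⟩ := hs
  obtain ⟨b, hb⟩ := (Finite.injective_iff_surjective.1
    (iterateFrobenius (AdjoinRoot g) p e).injective) (AdjoinRoot.mk g f)
  obtain ⟨k, rfl⟩ := AdjoinRoot.mk_surjective b
  rw [iterateFrobenius_def, ← map_pow] at hb
  exact ⟨k, AdjoinRoot.mk_eq_mk.1 hb.symm⟩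

theorem aeval_congr {g : F[X]} {v : V} (hv : aeval T g v = 0) {f f' : F[X]} (h : g ∣ f - f') :
    aeval T f v = aeval T f' v := by
  obtain ⟨c, hc⟩ := h
  rw [← sub_eq_zero, ← LinearMap.sub_apply, ← map_sub, hc, mul_comm, map_mul, Module.End.mul_apply,
    hv, map_zero]

/-- The span is totally isotropic when the associated functional vanishes. -/
theorem ti_cyc (hT : φ.Iso T) (hs : ∃ e, s = p ^ e) (hc : ∀ c, φ.σ c = c ^ s)
    (hTs : T ^ (s + 1) = 1) {g : F[X]} (hg : Irreducible g) {v : V} (hv : aeval T g v = 0)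
    (h : ∀ f : F[X], φ.B (aeval T f v) v = 0) : φ.TI (cyc T v) := by
  rintro y ⟨f', rfl⟩ x ⟨f, rfl⟩
  show φ.B (aeval T f v) (aeval T f' v) = 0
  obtain ⟨k, hk⟩ := exists_pow_mk hg hs f'
  rw [aeval_congr hv hk, ← adjoint_aeval hT hs hc hTs, ← Module.End.mul_apply, ← map_mul, h]

/-- Two orthogonal vectors yield an isotropic one. -/
theorem exists_ti_two (hT : φ.Iso T) (hs : ∃ e, s = p ^ e) (hc : ∀ c, φ.σ c = c ^ s)
    (hTs : T ^ (s + 1) = 1) {g : F[X]} (hg : Irreducible g)
    (hcard : Fintype.card F ^ g.natDegree = s * s) {u w : V} (hu : aeval T g u = 0)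
    (hw : aeval T g w = 0) (hu0 : ∃ f : F[X], φ.B (aeval T f u) u ≠ 0)
    (hw0 : ∃ f : F[X], φ.B (aeval T f w) w ≠ 0)
    (horth : ∀ f : F[X], φ.B (aeval T f u) w = 0) :
    ∃ b : F[X], u + aeval T b w ≠ 0 ∧ aeval T g (u + aeval T b w) = 0 ∧
      φ.TI (cyc T (u + aeval T b w)) := by
  classical
  haveI : Fact (Irreducible g) := ⟨hg⟩
  haveI := (AdjoinRoot.powerBasis hg.ne_zero).finite
  haveI : Finite (AdjoinRoot g) := Module.finite_of_finite F
  haveI : CharP (AdjoinRoot g) p := charP_of_injective_algebraMap (algebraMap F _).injective p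
  have horth' : ∀ f : F[X], φ.B (aeval T f w) u = 0 := fun f => by
    obtain ⟨k, hk⟩ := exists_pow_mk hg hs f
    rw [φ.flip, aeval_congr hw hk, ← adjoint_aeval hT hs hc hTs, horth, map_zero, mul_zero]
  let rep : AdjoinRoot g → F[X] := Function.surjInv AdjoinRoot.mk_surjective
  have hrep : ∀ f : F[X], g ∣ rep (AdjoinRoot.mk g f) - f := fun f =>
    AdjoinRoot.mk_eq_mk.1 (Function.surjInv_eq _ _)
  let φv : ∀ x : V, aeval T g x = 0 → AdjoinRoot g →ₗ[F] F := fun x hx =>
    { toFun := fun e => φ.B (aeval T (rep e) x) x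
      map_add' := fun a b => by
        obtain ⟨a, rfl⟩ := AdjoinRoot.mk_surjective a
        obtain ⟨b, rfl⟩ := AdjoinRoot.mk_surjective b
        rw [← map_add, aeval_congr hx (hrep _), aeval_congr hx (hrep _), aeval_congr hx (hrep _),
          map_add, LinearMap.add_apply, map_add, LinearMap.add_apply]
      map_smul' := fun c a => by
        obtain ⟨a, rfl⟩ := AdjoinRoot.mk_surjective a
        rw [AdjoinRoot.smul_mk, aeval_congr hx (hrep _), aeval_congr hx (hrep _), map_smul,
          LinearMap.smul_apply, map_smul, LinearMap.smul_apply, RingHom.id_apply] }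
  have hφ : ∀ x hx (f : F[X]), φv x hx (AdjoinRoot.mk g f) = φ.B (aeval T f x) x := fun x hx f => by
    show φ.B (aeval T (rep _) x) x = _
    rw [aeval_congr hx (hrep _)]
  have hherm : ∀ x hx k, φv x hx (k ^ s) = φ.ε * φ.σ (φv x hx k) := fun x hx k => by
    obtain ⟨k, rfl⟩ := AdjoinRoot.mk_surjective k
    rw [← map_pow, hφ x hx, hφ x hx, φ.flip, ← adjoint_aeval hT hs hc hTs]
  have hne : ∀ x hx, (∃ f : F[X], φ.B (aeval T f x) x ≠ 0) → φv x hx ≠ 0 := fun x hx ⟨f, hf⟩ h => by
    apply hf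
    rw [← hφ x hx, h, LinearMap.zero_apply]
  set α := φv u hu
  set β := φv w hw
  have hα : α ≠ 0 := hne u hu hu0
  have hβ : β ≠ 0 := hne w hw hw0
  let M : AdjoinRoot g →ₗ[F] (AdjoinRoot g →ₗ[F] F) :=
    ((LinearMap.mul F (AdjoinRoot g)).compr₂ α)
  have hMinj : Function.Injective M := by
    refine (injective_iff_map_eq_zero M).2 fun a ha => ?_
    by_contra hne'
    refine hα (LinearMap.ext fun x => ?_)
    have := LinearMap.congr_fun ha (a⁻¹ * x)
    simpa [M, mul_inv_cancel_left₀ hne'] using this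
  obtain ⟨e, he⟩ := (LinearMap.injective_iff_surjective_of_finrank_eq_finrank
    (Subspace.dual_finrank_eq (K := F) (V := AdjoinRoot g)).symm).1 hMinj β
  have he' : ∀ x, β x = α (e * x) := fun x => by rw [← he]; rfl
  have he0 : e ≠ 0 := fun h => hβ (LinearMap.ext fun x => by rw [he', h, zero_mul, map_zero]; rfl)
  have hes : e ^ s = e := by
    rw [← sub_eq_zero]
    by_contra hne'
    apply hα
    refine LinearMap.ext fun x => ?_
    obtain ⟨k, hk⟩ : ∃ k, k ^ s = (e ^ s - e)⁻¹ * x := by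
      obtain ⟨ee, rfl⟩ := hs
      obtain ⟨k, hk⟩ := (Finite.injective_iff_surjective.1
        (iterateFrobenius (AdjoinRoot g) p ee).injective) ((e ^ p ^ ee - e)⁻¹ * x)
      exact ⟨k, by rwa [iterateFrobenius_def] at hk⟩
    have h1 : α ((e ^ s - e) * k ^ s) = 0 := by
      rw [sub_mul, map_sub, ← mul_pow, hherm u hu, ← he' (k ^ s), ← he' k, hherm w hw, sub_self]
    rwa [hk, mul_inv_cancel_left₀ hne'] at h1
  have hE : Nat.card (AdjoinRoot g) = s * s := by
    rw [Module.natCard_eq_pow_finrank (K := F), Nat.card_eq_fintype_card, ← hcard,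
      (AdjoinRoot.powerBasis hg.ne_zero).finrank, AdjoinRoot.powerBasis_dim]
  obtain ⟨γ, hγ⟩ := exists_pow_succ_eq hE (x := -e⁻¹) (by simpa using he0) (by
    obtain ⟨ee, rfl⟩ := hs
    rw [← iterateFrobenius_def (R := AdjoinRoot g) p ee, map_neg, map_inv₀, iterateFrobenius_def, hes])
  obtain ⟨h, rfl⟩ := AdjoinRoot.mk_surjective γ
  have hbw : ∀ f : F[X], aeval T g (aeval T f w) = 0 := fun f => by
    rw [← Module.End.mul_apply, ← map_mul, mul_comm, map_mul, Module.End.mul_apply, hw, map_zero]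
  refine ⟨h ^ s, ?_, ?_, ?_⟩
  · intro h0
    obtain ⟨f, hf⟩ := hu0
    apply hf
    have h' := congrArg (φ.B (aeval T f u)) h0
    rwa [map_add, map_zero, ← adjoint_aeval hT hs hc hTs, ← Module.End.mul_apply, ← map_mul, horth,
      add_zero] at h'
  · rw [map_add, hu, hbw, add_zero]
  · refine ti_cyc hT hs hc hTs hg (by rw [map_add, hu, hbw, add_zero]) fun f => ?_
    simp only [map_add, LinearMap.add_apply]
    rw [← Module.End.mul_apply (aeval T f), ← map_mul, horth']
    rw [← adjoint_aeval hT hs hc hTs h, ← adjoint_aeval hT hs hc hTs h, ← Module.End.mul_apply,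
      ← map_mul, horth, ← Module.End.mul_apply, ← map_mul]
    have key : φ.B (aeval T (h * (f * h ^ s)) w) w = - φ.B (aeval T f u) u := by
      rw [← hφ w hw, ← hφ u hu, show h * (f * h ^ s) = f * h ^ (s + 1) by ring, map_mul, map_pow,
        hγ]
      show β _ = - α _
      rw [he', mul_left_comm, mul_neg, mul_inv_cancel₀ he0, mul_neg_one, map_neg]
    rw [key]
    simp

/-- An anisotropic invariant subspace killed by an irreducible polynomial is irreducible. -/
theorem finrank_le_natDegree (hT : φ.Iso T) (hs : ∃ e, s = p ^ e) (hc : ∀ c, φ.σ c = c ^ s)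
    (hTs : T ^ (s + 1) = 1) {g : F[X]} (hg : Irreducible g)
    (hcard : Fintype.card F ^ g.natDegree = s * s) {C : Submodule F V} (hCi : Inv T C) (hC : φ.Nd C)
    (hkill : ∀ v ∈ C, aeval T g v = 0) (hno : ∀ U ≤ C, Inv T U → φ.TI U → U = ⊥) :
    finrank F C ≤ g.natDegree := by
  by_contra hlt
  push Not at hlt
  have hnz : ∀ x ∈ C, x ≠ 0 → ∃ f : F[X], φ.B (aeval T f x) x ≠ 0 := by
    intro x hx hx0
    by_contra hcon
    push Not at hcon
    have := hno _ (cyc_le hCi hx) (inv_cyc x) (ti_cyc hT hs hc hTs hg (hkill x hx) hcon)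
    exact hx0 ((Submodule.mem_bot F).1 (this ▸ self_mem_cyc x))
  obtain ⟨u, hu, hu0⟩ := C.exists_mem_ne_zero_of_ne_bot fun h => by
    rw [h, finrank_bot] at hlt
    omega
  have hcyc := finrank_cyc_le hg (hkill u hu)
  have hdim := RForm.finrank_inf_perp hC (cyc_le hCi hu)
  obtain ⟨w, hw, hw0⟩ := (C ⊓ φ.perp (cyc T u)).exists_mem_ne_zero_of_ne_bot fun h => by
    rw [h, finrank_bot] at hdim
    omega
  obtain ⟨b, hb0, hbg, hbt⟩ := exists_ti_two hT hs hc hTs hg hcard (hkill u hu) (hkill w hw.1)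
    (hnz u hu hu0) (hnz w hw.1 hw0) (fun f => hw.2 _ ⟨f, rfl⟩)
  have hv : u + aeval T b w ∈ C := add_mem hu (hCi.aeval_mem b hw.1)
  have := hno _ (cyc_le hCi hv) (inv_cyc _) hbt
  exact hb0 ((Submodule.mem_bot F).1 (this ▸ self_mem_cyc _))

/-- The dimension of an anisotropic invariant subspace is at most the degree of a polynomial killing it. -/
theorem finrank_le_of_squarefree (hT : φ.Iso T) (hs : ∃ e, s = p ^ e) (hc : ∀ c, φ.σ c = c ^ s)
    (hTs : T ^ (s + 1) = 1) (P : F[X]) (hP0 : P ≠ 0) : Squarefree P →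
    (∀ g : F[X], Irreducible g → g ∣ P → Fintype.card F ^ g.natDegree = s * s) →
    ∀ C : Submodule F V, Inv T C → φ.Nd C → (∀ v ∈ C, aeval T P v = 0) →
      (∀ U ≤ C, Inv T U → φ.TI U → U = ⊥) → finrank F C ≤ P.natDegree := by
  induction P using UniqueFactorizationMonoid.induction_on_prime with
  | h₁ => exact absurd rfl hP0
  | h₂ P hPu =>
    intro _ _ C _ _ hkill _
    obtain ⟨Q, hQ⟩ := hPu.exists_left_inv
    have : C = ⊥ := eq_bot_iff.2 fun v hv => by
      have h1 := congrArg (aeval T Q) (hkill v hv)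
      rw [map_zero, ← Module.End.mul_apply, ← map_mul, hQ, map_one, Module.End.one_apply] at h1
      exact (Submodule.mem_bot F).2 h1
    rw [this, finrank_bot]
    exact Nat.zero_le _
  | h₃ a g ha hg ih =>
    intro hsq hdeg C hCi hC hkill hno
    have hcop : IsCoprime g a := hg.irreducible.coprime_iff_not_dvd.2 fun hd =>
      hg.not_isUnit (hsq g (mul_dvd_mul_left g hd))
    have hsup := split_local hcop hCi hkill
    have h1 : Inv T (C ⊓ LinearMap.ker (aeval T g)) := hCi.inf (inv_ker_aeval T g)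
    have h2 : Inv T (C ⊓ LinearMap.ker (aeval T a)) := hCi.inf (inv_ker_aeval T a)
    have hnd : ∀ f f' : F[X], IsCoprime f' f →
        C = C ⊓ LinearMap.ker (aeval T f) ⊔ C ⊓ LinearMap.ker (aeval T f') →
        φ.Nd (C ⊓ LinearMap.ker (aeval T f)) := by
      intro f f' hcp hs'
      rw [RForm.Nd, eq_bot_iff]
      rintro x ⟨⟨hxC, hxf⟩, hxp⟩
      refine (Submodule.mem_bot F).2 (hC.eq_zero hxC fun y hy => ?_)
      rw [hs'] at hy
      obtain ⟨y1, hy1, y2, hy2, rfl⟩ := Submodule.mem_sup.1 hy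
      rw [map_add, LinearMap.add_apply, hxp y1 hy1, ker_le_perp hT hs hc hTs hcp hxf y2 hy2.2,
        add_zero]
    have hg1 := finrank_le_natDegree hT hs hc hTs hg.irreducible
      (hdeg g hg.irreducible (dvd_mul_right g a)) h1 (hnd g a hcop.symm hsup)
      (fun v hv => LinearMap.mem_ker.1 hv.2) (fun U hU => hno U (hU.trans inf_le_left))
    have ha1 := ih ha hsq.of_mul_right (fun g' h h' => hdeg g' h (dvd_mul_of_dvd_right h' g)) _ h2
      (hnd a g hcop (hsup.trans (sup_comm _ _))) (fun v hv => LinearMap.mem_ker.1 hv.2)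
      (fun U hU => hno U (hU.trans inf_le_left))
    have hle := Submodule.finrank_add_le_finrank_add_finrank (C ⊓ LinearMap.ker (aeval T g))
      (C ⊓ LinearMap.ker (aeval T a))
    rw [← hsup] at hle
    rw [natDegree_mul hg.ne_zero ha]
    omega

end cyclicvec

end Cfsg.Agent.Linear.Elusive.Forms
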