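import Cfsg.Agent.Linear.Elusive.Forms.Prime
import Mathlib.FieldTheory.Finite.Trace

/-!
Model spaces: trace forms on powers of an extension field with multiplication maps.
-/

set_option autoImplicit false
set_option linter.unusedSectionVars false

namespace Cfsg.Agent.Linear.Elusive.Forms

open Polynomial Module

universe u v w

variable {F : Type u} [Field F] [Finite F] {E : Type v} [Field E] [Algebra F E] [Finite E]

theorem eq_zero_of_trace_mul {z : E} (h : ∀ w, Algebra.trace F E (z * w) = 0) : z = 0 := by
  haveI : Module.Finite F E := Module.Finite.of_finite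
  exact (traceForm_nondegenerate F E).1 z h

/-- The trace commutes with powers by a power of the characteristic. -/
theorem trace_pow_char (p : ℕ) [Fact p.Prime] [CharP F p] (e : ℕ) (z : E) :
    Algebra.trace F E (z ^ p ^ e) = Algebra.trace F E z ^ p ^ e := by
  haveI : Module.Finite F E := Module.Finite.of_finite
  haveI : CharP E p := charP_of_injective_algebraMap (algebraMap F E).injective p
  apply (algebraMap F E).injective
  rw [FiniteField.algebraMap_trace_eq_sum_pow, map_pow, FiniteField.algebraMap_trace_eq_sum_pow,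
    sum_pow_char_pow]
  exact Finset.sum_congr rfl fun i _ => by rw [← pow_mul, ← pow_mul, mul_comm]

section forms

variable {ι : Type w} [Fintype ι] (σ : F →+* F) (ε : F) (τ : E →+* E)
  (hσ : ∀ a, σ (σ a) = a) (hτ : ∀ a, τ (algebraMap F E a) = algebraMap F E (σ a))

/-- The sum of the forms `Tr (c x τ y)`. -/
noncomputable def selfForm (htr : ∀ z, σ (Algebra.trace F E z) = Algebra.trace F E (τ z))
    (hττ : ∀ z, τ (τ z) = z) (c : E) (hc : c ≠ 0) (hcε : algebraMap F E ε * τ c = c) :
    RForm F (ι → E) where
  σ := σ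
  ε := ε
  B := LinearMap.mk₂'ₛₗ (RingHom.id F) σ (fun x y => ∑ k, Algebra.trace F E (c * x k * τ (y k)))
    (fun x x' y => by simp only [Pi.add_apply, mul_add, add_mul, map_add, Finset.sum_add_distrib])
    (fun a x y => by
      simp only [Pi.smul_apply, RingHom.id_apply, mul_smul_comm, smul_mul_assoc, map_smul,
        Finset.smul_sum])
    (fun x y y' => by simp only [Pi.add_apply, map_add, mul_add, map_add, Finset.sum_add_distrib])
    (fun a x y => by
      have h : ∀ z, τ (a • z) = σ a • τ z := fun z => by
        rw [Algebra.smul_def, map_mul, hτ, Algebra.smul_def]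
      simp only [Pi.smul_apply, h, mul_smul_comm, map_smul, Finset.smul_sum])
  invol := hσ
  flip u v := by
    simp only [LinearMap.mk₂'ₛₗ_apply]
    rw [map_sum, Finset.mul_sum]
    refine Finset.sum_congr rfl fun k _ => ?_
    rw [htr, map_mul τ, map_mul τ, hττ, ← smul_eq_mul ε, ← map_smul, Algebra.smul_def]
    congr 1
    linear_combination -(v k * τ (u k)) * hcε
  nondeg v hv := by
    classical
    funext k
    have h : c * v k = 0 := eq_zero_of_trace_mul (F := F) fun w => by
      have := hv (Pi.single k (τ w))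
      rw [LinearMap.mk₂'ₛₗ_apply, Finset.sum_eq_single k (fun l _ hl => by
        rw [Pi.single_eq_of_ne hl, map_zero, mul_zero, map_zero])
        (fun h => absurd (Finset.mem_univ k) h), Pi.single_eq_same, hττ] at this
      exact this
    exact (mul_eq_zero.1 h).resolve_left hc

/-- The hyperbolic form on pairs. -/
noncomputable def pairForm (hε : ε * σ ε = 1) : RForm F (ι ⊕ ι → E) where
  σ := σ
  ε := ε
  B := LinearMap.mk₂'ₛₗ (RingHom.id F) σ
    (fun x y => ∑ k, (Algebra.trace F E (x (.inl k) * τ (y (.inr k))) +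
      ε * σ (Algebra.trace F E (y (.inl k) * τ (x (.inr k))))))
    (fun x x' y => by
      simp only [Pi.add_apply, add_mul, mul_add, map_add, Finset.sum_add_distrib]
      abel)
    (fun a x y => by
      have h : ∀ z, τ (a • z) = σ a • τ z := fun z => by
        rw [Algebra.smul_def, map_mul, hτ, Algebra.smul_def]
      simp only [Pi.smul_apply, RingHom.id_apply, h, mul_smul_comm, smul_mul_assoc, map_smul,
        Finset.mul_sum, smul_eq_mul, map_mul, hσ]
      exact Finset.sum_congr rfl fun k _ => by ring)
    (fun x y y' => by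
      simp only [Pi.add_apply, map_add, mul_add, add_mul, map_add, Finset.sum_add_distrib]
      abel)
    (fun a x y => by
      have h : ∀ z, τ (a • z) = σ a • τ z := fun z => by
        rw [Algebra.smul_def, map_mul, hτ, Algebra.smul_def]
      simp only [Pi.smul_apply, h, mul_smul_comm, smul_mul_assoc, map_smul, Finset.mul_sum,
        smul_eq_mul, map_mul]
      exact Finset.sum_congr rfl fun k _ => by ring)
  invol := hσ
  flip u v := by
    simp only [LinearMap.mk₂'ₛₗ_apply]
    rw [map_sum, Finset.mul_sum]
    refine Finset.sum_congr rfl fun k _ => ?_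
    rw [map_add σ, map_mul σ, hσ]
    linear_combination -(Algebra.trace F E (v (.inl k) * τ (u (.inr k)))) * hε
  nondeg v hv := by
    classical
    have hε0 : ε ≠ 0 := fun h => by simp [h] at hε
    funext x
    have key1 : ∀ k, v (.inl k) = 0 := fun k => eq_zero_of_trace_mul (F := F) fun w => by
      obtain ⟨w', rfl⟩ := Finite.surjective_of_injective τ.injective w
      have := hv (Pi.single (.inr k) w')
      rw [LinearMap.mk₂'ₛₗ_apply, Finset.sum_eq_single k (fun l _ hl => by
        rw [Pi.single_eq_of_ne (by simpa using hl), Pi.single_eq_of_ne (by simp)]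
        simp) (fun h => absurd (Finset.mem_univ k) h)] at this
      simpa using this
    have key2 : ∀ k, v (.inr k) = 0 := fun k => by
      apply τ.injective
      rw [map_zero]
      refine eq_zero_of_trace_mul (F := F) fun w => ?_
      have := hv (Pi.single (.inl k) w)
      rw [LinearMap.mk₂'ₛₗ_apply, Finset.sum_eq_single k (fun l _ hl => by
        rw [Pi.single_eq_of_ne (by simp), Pi.single_eq_of_ne (by simpa using hl)]
        simp) (fun h => absurd (Finset.mem_univ k) h)] at this
      simpa [hε0, mul_comm] using this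
    rcases x with k | k
    · exact key1 k
    · exact key2 k

end forms

section mul

variable {ι : Type w}

/-- Coordinatewise multiplication. -/
noncomputable def mulEnd (a : ι → E) : End F (ι → E) := Algebra.lmul F (ι → E) a

theorem mulEnd_apply (a x : ι → E) (k : ι) : mulEnd (F := F) a x k = a k * x k := rfl

theorem aeval_mulEnd (a : ι → E) (P : F[X]) :
    aeval (mulEnd (F := F) a) P = mulEnd fun k => aeval (a k) P := by
  rw [mulEnd, aeval_algHom_apply, mulEnd]
  congr 1
  funext k
  exact (aeval_algHom_apply (Pi.evalAlgHom F (fun _ : ι => E) k) a P).symm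

theorem mulEnd_pow (a : ι → E) (r : ℕ) : mulEnd (F := F) a ^ r = mulEnd fun k => a k ^ r := by
  rw [mulEnd, ← map_pow]
  rfl

theorem finrank_ker_mulEnd [Fintype ι] (c : ι → E) :
    finrank F (LinearMap.ker (mulEnd (F := F) c)) = finrank F E * Nat.card {k // c k = 0} := by
  classical
  haveI : Module.Finite F E := Module.Finite.of_finite
  let e : LinearMap.ker (mulEnd (F := F) c) ≃ₗ[F] ({k // c k = 0} → E) :=
    { toFun := fun x k => x.1 k.1
      invFun := fun y => ⟨fun k => if h : c k = 0 then y ⟨k, h⟩ else 0, by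
        rw [LinearMap.mem_ker]
        funext k
        rw [mulEnd_apply]
        by_cases h : c k = 0
        · simp [h]
        · simp [h]⟩
      map_add' := fun x y => rfl
      map_smul' := fun a x => rfl
      left_inv := fun x => Subtype.ext (funext fun k => by
        by_cases h : c k = 0
        · simp [h]
        · have hx : c k * x.1 k = 0 := congr_fun (LinearMap.mem_ker.1 x.2) k
          simp [h, (mul_eq_zero.1 hx).resolve_left h])
      right_inv := fun y => funext fun k => by simp [k.2] }
  rw [e.finrank_eq, Module.finrank_pi_fintype, Finset.sum_const, Finset.card_univ, smul_eq_mul,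
    Nat.card_eq_fintype_card, mul_comm]

variable [Fintype ι] (σ : F →+* F) (ε : F) (τ : E →+* E) (hσ : ∀ a, σ (σ a) = a)
  (hτ : ∀ a, τ (algebraMap F E a) = algebraMap F E (σ a))

theorem iso_selfForm (htr : ∀ z, σ (Algebra.trace F E z) = Algebra.trace F E (τ z))
    (hττ : ∀ z, τ (τ z) = z) (c : E) (hc : c ≠ 0) (hcε : algebraMap F E ε * τ c = c) {a : ι → E}
    (ha : ∀ k, a k * τ (a k) = 1) :
    (selfForm (ι := ι) σ ε τ hσ hτ htr hττ c hc hcε).Iso (mulEnd a) := fun x y => by
  show ∑ k, Algebra.trace F E (c * (a k * x k) * τ (a k * y k)) = _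
  refine Finset.sum_congr rfl fun k _ => ?_
  congr 1
  rw [map_mul]
  linear_combination (c * x k * τ (y k)) * ha k

theorem iso_pairForm (hε : ε * σ ε = 1) {a : ι ⊕ ι → E}
    (ha : ∀ k, a (.inl k) * τ (a (.inr k)) = 1) :
    (pairForm (ι := ι) σ ε τ hσ hτ hε).Iso (mulEnd a) := fun x y => by
  show ∑ k, (Algebra.trace F E (a (.inl k) * x (.inl k) * τ (a (.inr k) * y (.inr k))) +
    ε * σ (Algebra.trace F E (a (.inl k) * y (.inl k) * τ (a (.inr k) * x (.inr k))))) = _
  refine Finset.sum_congr rfl fun k _ => ?_
  congr 2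
  · rw [map_mul]
    linear_combination (x (.inl k) * τ (y (.inr k))) * ha k
  · congr 2
    rw [map_mul]
    linear_combination (y (.inl k) * τ (x (.inr k))) * ha k

end mul

section prod

variable {V : Type v} [AddCommGroup V] [Module F V] {W : Type w} [AddCommGroup W] [Module F W]

/-- Orthogonal sum. -/
def prodForm (φ : RForm F V) (ψ : RForm F W) (hσ : φ.σ = ψ.σ) (hε : φ.ε = ψ.ε) : RForm F (V × W) where
  σ := φ.σ
  ε := φ.ε
  B := LinearMap.mk₂'ₛₗ (RingHom.id F) φ.σ (fun x y => φ.B x.1 y.1 + ψ.B x.2 y.2)
    (fun x x' y => by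
      simp only [Prod.fst_add, Prod.snd_add, map_add, LinearMap.add_apply]
      abel)
    (fun a x y => by simp [mul_add])
    (fun x y y' => by
      simp only [Prod.fst_add, Prod.snd_add, map_add]
      abel)
    (fun a x y => by
      simp only [Prod.smul_fst, Prod.smul_snd, LinearMap.map_smulₛₗ, smul_eq_mul, ← hσ]
      ring)
  invol := φ.invol
  flip u v := by
    simp only [LinearMap.mk₂'ₛₗ_apply]
    rw [φ.flip, ψ.flip, show ψ.σ (ψ.B u.2 v.2) = φ.σ (ψ.B u.2 v.2) by rw [hσ], ← hε, map_add, mul_add]
  nondeg v hv := by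
    refine Prod.ext (φ.nondeg _ fun w => ?_) (ψ.nondeg _ fun w => ?_)
    · simpa using hv (w, 0)
    · simpa using hv (0, w)

theorem iso_prodForm {φ : RForm F V} {ψ : RForm F W} {hσ : φ.σ = ψ.σ} {hε : φ.ε = ψ.ε} {S : End F V}
    {T : End F W} (hS : φ.Iso S) (hT : ψ.Iso T) : (prodForm φ ψ hσ hε).Iso (S.prodMap T) := fun x y => by
  show φ.B (S x.1) (S y.1) + ψ.B (T x.2) (T y.2) = _
  rw [hS, hT]
  rfl

theorem aeval_prodMap (S : End F V) (T : End F W) (P : F[X]) :
    aeval (S.prodMap T) P = (aeval S P).prodMap (aeval T P) := by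
  have h := aeval_algHom_apply (LinearMap.prodMapAlgHom F V W) (S, T) P
  rw [aeval_prod_apply] at h
  exact h

theorem prodMap_pow' (S : End F V) (T : End F W) (n : ℕ) :
    S.prodMap T ^ n = (S ^ n).prodMap (T ^ n) :=
  (map_pow (LinearMap.prodMapAlgHom F V W) (S, T) n).symm

theorem finrank_ker_prodMap [FiniteDimensional F V] [FiniteDimensional F W] (S : End F V)
    (T : End F W) : finrank F (LinearMap.ker (S.prodMap T)) =
      finrank F (LinearMap.ker S) + finrank F (LinearMap.ker T) := by
  let e : LinearMap.ker (S.prodMap T) ≃ₗ[F] LinearMap.ker S × LinearMap.ker T :=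
    { toFun := fun x => (⟨x.1.1, LinearMap.mem_ker.2 (congrArg Prod.fst (LinearMap.mem_ker.1 x.2))⟩,
        ⟨x.1.2, LinearMap.mem_ker.2 (congrArg Prod.snd (LinearMap.mem_ker.1 x.2))⟩)
      invFun := fun x => ⟨(x.1.1, x.2.1), LinearMap.mem_ker.2
        (Prod.ext (LinearMap.mem_ker.1 x.1.2) (LinearMap.mem_ker.1 x.2.2))⟩
      map_add' := fun x y => rfl
      map_smul' := fun a x => rfl
      left_inv := fun x => rfl
      right_inv := fun x => rfl }
  rw [e.finrank_eq, Module.finrank_prod]

end prod

end Cfsg.Agent.Linear.Elusive.Forms
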