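import Cfsg.Agent.Linear.Elusive.Forms.Prime

/-!
Non-degenerate invariant subspaces.
-/

set_option autoImplicit false
set_option linter.unusedSectionVars false

namespace Cfsg.Agent.Linear.Elusive.Forms

open Polynomial Module

universe u v

variable {F : Type u} [Field F] {V : Type v} [AddCommGroup V] [Module F V] {φ : RForm F V}

theorem RForm.nd_iff {U : Submodule F V} :
    φ.Nd U ↔ ∀ u ∈ U, u ≠ 0 → ∃ v ∈ U, φ.B u v ≠ 0 := by
  constructor
  · intro h u hu hu0
    by_contra hno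
    push Not at hno
    exact hu0 (h.eq_zero hu fun v hv => φ.symm_zero (hno v hv))
  · intro h
    rw [RForm.Nd, eq_bot_iff]
    rintro x ⟨hx, hxp⟩
    by_contra hx0
    obtain ⟨v, hv, hxv⟩ := h x hx (by simpa using hx0)
    exact hxv (φ.symm_zero (hxp v hv))

theorem RForm.nd_bot : φ.Nd (⊥ : Submodule F V) := bot_inf_eq _

theorem RForm.Nd.sup {U W : Submodule F V} (hU : φ.Nd U) (hW : φ.Nd W) (h : W ≤ φ.perp U) :
    φ.Nd (U ⊔ W) := by
  rw [RForm.Nd, eq_bot_iff]
  rintro x ⟨hx, hxp⟩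
  obtain ⟨u, hu, w, hw, rfl⟩ := Submodule.mem_sup.1 hx
  have hu0 : u = 0 := hU.eq_zero hu fun a ha => by
    have h1 := hxp a (Submodule.mem_sup_left ha)
    rwa [map_add, h hw a ha, add_zero] at h1
  subst hu0
  have hw0 : w = 0 := hW.eq_zero hw fun a ha => by
    have h1 := hxp a (Submodule.mem_sup_right ha)
    rwa [zero_add] at h1
  subst hw0
  simp

/-- One factor of an orthogonal splitting. -/
theorem RForm.Nd.of_split {U A C : Submodule F V} (hU : φ.Nd U) (h : U = A ⊔ C) (hAC : A ≤ φ.perp C) :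
    φ.Nd A := by
  rw [RForm.Nd, eq_bot_iff]
  rintro x ⟨hxA, hxp⟩
  refine (Submodule.mem_bot F).2 (hU.eq_zero (h ▸ Submodule.mem_sup_left hxA) fun y hy => ?_)
  rw [h] at hy
  obtain ⟨a, ha, c, hc, rfl⟩ := Submodule.mem_sup.1 hy
  rw [map_add, LinearMap.add_apply, hxp a ha, hAC hxA c hc, add_zero]

theorem inv_of_forall {T : End F V} {U : Submodule F V} (h : ∀ v ∈ U, T v ∈ U) : Inv T U := by
  rintro _ ⟨v, hv, rfl⟩
  exact h v hv

theorem inv_of_fix {T : End F V} {U : Submodule F V} (h : ∀ v ∈ U, T v = v) : Inv T U :=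
  inv_of_forall fun v hv => by rwa [h v hv]

section finite

variable [FiniteDimensional F V]

theorem RForm.Nd.finrank_sup {U W : Submodule F V} (hU : φ.Nd U) (h : W ≤ φ.perp U) :
    finrank F ↥(U ⊔ W) = finrank F U + finrank F W :=
  finrank_sup_eq (disjoint_iff.2 hU) le_rfl h

/-- The orthogonal complement inside a non-degenerate subspace. -/
theorem RForm.Nd.inner_compl {P A : Submodule F V} (hP : φ.Nd P) (hA : φ.Nd A) (h : P ≤ A) :
    P ⊔ A ⊓ φ.perp P = A ∧ φ.Nd (A ⊓ φ.perp P) ∧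
      finrank F A = finrank F P + finrank F ↥(A ⊓ φ.perp P) := by
  have hsplit : P ⊔ A ⊓ φ.perp P = A := by
    rw [inf_comm A, ← sup_inf_assoc_of_le (φ.perp P) h, hP.isCompl.sup_eq_top, top_inf_eq]
  refine ⟨hsplit, hA.of_split (hsplit.symm.trans (sup_comm _ _)) inf_le_right, ?_⟩
  conv_lhs => rw [← hsplit]
  exact hP.finrank_sup inf_le_right

/-- Multiples of the size of the blocks are attained. -/
theorem attain {T : End F V} (hT : φ.Iso T) {A : Submodule F V} (hA : φ.Nd A) (hAi : Inv T A) (c : ℕ)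
    (hblock : ∀ A' ≤ A, φ.Nd A' → Inv T A' → A' ≠ ⊥ →
      ∃ P ≤ A', φ.Nd P ∧ Inv T P ∧ finrank F P = c) :
    ∀ s, s * c ≤ finrank F A → ∃ U ≤ A, φ.Nd U ∧ Inv T U ∧ finrank F U = s * c := by
  intro s
  induction s with
  | zero => exact fun _ => ⟨⊥, bot_le, RForm.nd_bot, inv_bot T, by simp⟩
  | succ s ih =>
    intro hs
    rw [add_one_mul] at hs ⊢
    obtain ⟨U, hUA, hUn, hUi, hUd⟩ := ih (by omega)
    rcases Nat.eq_zero_or_pos c with rfl | hc
    · exact ⟨U, hUA, hUn, hUi, by omega⟩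
    obtain ⟨-, hWn, hWd⟩ := hUn.inner_compl hA hUA
    have hWne : A ⊓ φ.perp U ≠ ⊥ := fun h => by rw [h, finrank_bot] at hWd; omega
    obtain ⟨P, hPW, hPn, hPi, hPd⟩ := hblock _ inf_le_left hWn (hAi.inf (hT.inv_perp hUi)) hWne
    have hperp : P ≤ φ.perp U := hPW.trans inf_le_right
    exact ⟨U ⊔ P, sup_le hUA (hPW.trans inf_le_left), hUn.sup hPn hperp, hUi.sup hPi,
      by rw [hUn.finrank_sup hperp, hUd, hPd]⟩

variable [Fintype F] {p r : ℕ} [Fact p.Prime] [CharP F p] [Fact r.Prime]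

/-- The fixed and the moved part of a non-degenerate invariant subspace. -/
theorem nd_parts (hrp : r ≠ p) {T : End F V} (hT : φ.Iso T) (hTr : T ^ r = 1) {U : Submodule F V}
    (hU : φ.Nd U) (hUi : Inv T U) : φ.Nd (U ⊓ fixSpace T) ∧ φ.Nd (U ⊓ moveSpace r T) := by
  have hsplit : U = U ⊓ fixSpace T ⊔ U ⊓ moveSpace r T :=
    split_local (isCoprime_cyclotomic (F := F) (r := r) hrp) hUi
      fun v _ => by rw [aeval_split hTr, LinearMap.zero_apply]
  have h := (inf_le_right : U ⊓ moveSpace r T ≤ _).trans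
    ((move_le_perp_fix hrp hT).trans (RForm.perp_anti (inf_le_right : U ⊓ fixSpace T ≤ _)))
  exact ⟨hU.of_split hsplit (RForm.le_perp_iff.1 h), hU.of_split (hsplit.trans (sup_comm _ _)) h⟩

/-- Pieces from the fixed and the moved space. -/
theorem exists_nd_space (hrp : r ≠ p) {T : End F V} (hT : φ.Iso T) {Uf Um : Submodule F V}
    (hf : Uf ≤ fixSpace T) (hfn : φ.Nd Uf) (hm : Um ≤ moveSpace r T) (hmn : φ.Nd Um) (hmi : Inv T Um) :
    φ.Nd (Uf ⊔ Um) ∧ Inv T (Uf ⊔ Um) ∧ finrank F ↥(Uf ⊔ Um) = finrank F Uf + finrank F Um :=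
  ⟨hfn.sup hmn (hm.trans ((move_le_perp_fix hrp hT).trans (RForm.perp_anti hf))),
    (inv_of_fix fun _ hv => mem_fixSpace.1 (hf hv)).sup hmi,
    finrank_sup_eq (disjoint_spaces hrp T) hf hm⟩

end finite

end Cfsg.Agent.Linear.Elusive.Forms
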