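import Cfsg.Agent.Linear.Elusive.Forms.Quad
import Cfsg.Agent.Orthogonal.Spinor
import Cfsg.Agent.H53.OrthoTorus

/-!
Involutions in the commutator subgroup of an orthogonal group of odd characteristic.
-/

set_option autoImplicit false
set_option linter.unusedSectionVars false

namespace Cfsg.Agent.Linear.Elusive.Forms

open Polynomial Module QuadraticMap Orthogonal

universe u v

variable {F : Type u} [Field F] [Finite F] {V : Type v} [AddCommGroup V] [Module F V]
  [FiniteDimensional F V] {Q : QuadraticForm F V}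

/-- `g` is `-1` on `B` and fixes its orthogonal space. -/
def NegOn (hQ : Nondeg Q) (g : O Q) (B : Submodule F V) : Prop :=
  (∀ x ∈ B, (g : V ≃ₗ[F] V) x = -x) ∧ ∀ x ∈ (polarForm hQ).perp B, (g : V ≃ₗ[F] V) x = x

/-- Removing an orthogonal pair from the moved space. -/
theorem NegOn.peel {hQ : Nondeg Q} {g : O Q} {B : Submodule F V} (hg : NegOn hQ g B) {v w : V}
    (hv : v ∈ B) (hw : w ∈ B) (hv0 : Q v ≠ 0) (hw0 : Q w ≠ 0) (hvw : polar Q v w = 0)
    (hB : (polarForm hQ).Nd B) (P : Submodule F V) (hP : P = Submodule.span F {v, w})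
    (hPn : (polarForm hQ).Nd P) :
    NegOn hQ (g * rO Q v * rO Q w) (B ⊓ (polarForm hQ).perp P) ∧
      (polarForm hQ).Nd (B ⊓ (polarForm hQ).perp P) := by
  have hvP : v ∈ P := hP ▸ Submodule.subset_span (by simp)
  have hwP : w ∈ P := hP ▸ Submodule.subset_span (by simp)
  have hPB : P ≤ B := hP ▸ Submodule.span_le.2 (by rintro x (rfl | rfl) <;> assumption)
  have happ : ∀ x, ((g * rO Q v * rO Q w : O Q) : V ≃ₗ[F] V) x =
      (g : V ≃ₗ[F] V) ((rO Q v : V ≃ₗ[F] V) ((rO Q w : V ≃ₗ[F] V) x)) := fun x => rfl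
  have hperp : (polarForm hQ).perp (B ⊓ (polarForm hQ).perp P) = (polarForm hQ).perp B ⊔ P := by
    conv_rhs => rw [← RForm.perp_perp (φ := polarForm hQ) ((polarForm hQ).perp B ⊔ P),
      RForm.perp_sup, RForm.perp_perp]
  refine ⟨⟨fun x hx => ?_, fun x hx => ?_⟩, ?_⟩
  · have h1 : polar Q v x = 0 := hx.2 v hvP
    have h2 : polar Q w x = 0 := hx.2 w hwP
    rw [happ, rO_fix h2, rO_fix h1, hg.1 x hx.1]
  · rw [hperp] at hx
    obtain ⟨a, ha, b, hb, rfl⟩ := Submodule.mem_sup.1 hx
    have ha' : ((g * rO Q v * rO Q w : O Q) : V ≃ₗ[F] V) a = a := by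
      rw [happ, rO_fix (show polar Q w a = 0 from ha w hw), rO_fix (show polar Q v a = 0 from ha v hv),
        hg.2 a ha]
    rw [hP] at hb
    obtain ⟨s, t, rfl⟩ := Submodule.mem_span_pair.1 hb
    have hv' : ((g * rO Q v * rO Q w : O Q) : V ≃ₗ[F] V) v = v := by
      rw [happ, rO_fix (show polar Q w v = 0 by rw [polar_comm]; exact hvw), rO_self hv0, map_neg,
        hg.1 v hv, neg_neg]
    have hw' : ((g * rO Q v * rO Q w : O Q) : V ≃ₗ[F] V) w = w := by
      rw [happ, rO_self hw0, map_neg, rO_fix hvw, map_neg, hg.1 w hw, neg_neg]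
    rw [map_add, map_add, map_smul, map_smul, ha', hv', hw']
  · rw [RForm.Nd, eq_bot_iff]
    rintro x ⟨⟨hxB, hxP⟩, hx⟩
    rw [hperp] at hx
    obtain ⟨a, ha, b, hb, rfl⟩ := Submodule.mem_sup.1 hx
    have ha0 : a ∈ B ⊓ (polarForm hQ).perp B := ⟨by simpa using sub_mem hxB (hPB hb), ha⟩
    rw [hB, Submodule.mem_bot] at ha0
    subst ha0
    rw [zero_add] at hxP ⊢
    have : b ∈ P ⊓ (polarForm hQ).perp P := ⟨hb, hxP⟩
    rwa [hPn] at this

theorem nd_pair {hQ : Nondeg Q} (h2 : (2 : F) ≠ 0) {v w : V} (hv0 : Q v ≠ 0) (hw0 : Q w ≠ 0)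
    (hvw : polar Q v w = 0) :
    (polarForm hQ).Nd (Submodule.span F {v, w}) ∧ finrank F (Submodule.span F {v, w}) = 2 := by
  have hval : ∀ s t : F, polar Q v (s • v + t • w) = s * (2 * Q v) ∧
      polar Q w (s • v + t • w) = t * (2 * Q w) := fun s t => by
    constructor <;>
      simp only [polar_add_right, polar_smul_right', polar_self', polar_comm (⇑Q) w v, hvw] <;> ring
  have hli : LinearIndependent F ![v, w] := by
    rw [LinearIndependent.pair_iff]
    intro s t hst
    obtain ⟨h1, h1'⟩ := hval s t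
    rw [hst, polar_zero_right] at h1 h1'
    exact ⟨(mul_eq_zero.1 h1.symm).resolve_right (mul_ne_zero h2 hv0),
      (mul_eq_zero.1 h1'.symm).resolve_right (mul_ne_zero h2 hw0)⟩
  refine ⟨?_, ?_⟩
  · rw [RForm.Nd, eq_bot_iff]
    rintro x ⟨hx, hxp⟩
    obtain ⟨s, t, rfl⟩ := Submodule.mem_span_pair.1 hx
    have h1 : polar Q v (s • v + t • w) = 0 := hxp v (Submodule.subset_span (by simp))
    have h1' : polar Q w (s • v + t • w) = 0 := hxp w (Submodule.subset_span (by simp))
    rw [(hval s t).1] at h1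
    rw [(hval s t).2] at h1'
    simp [(mul_eq_zero.1 h1).resolve_right (mul_ne_zero h2 hv0),
      (mul_eq_zero.1 h1').resolve_right (mul_ne_zero h2 hw0)]
  · have h := finrank_span_eq_card hli
    have hr : Set.range ![v, w] = {v, w} := by
      simp [Matrix.range_cons, Matrix.range_empty, Set.pair_comm]
    rw [hr] at h
    simpa using h

/-- The spinor norm of `-1` on a hyperbolic space. -/
theorem spinor_negOn (hQ : Nondeg Q) (h2 : (2 : F) ≠ 0) : ∀ (k : ℕ) (g : O Q) (W B : Submodule F V),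
    W ≤ B → (polarForm hQ).TI W → (polarForm hQ).Nd B → finrank F W = k → finrank F B = 2 * k →
    NegOn hQ g B → spinor Q hQ h2 g = sqSign (-1 : F) ^ k := by
  intro k
  induction k with
  | zero =>
    intro g W B _ _ _ _ hB hg
    have : g = 1 := O.ext_app fun x => by
      refine hg.2 x fun u hu => ?_
      rw [Submodule.finrank_eq_zero.1 hB, Submodule.mem_bot] at hu
      rw [hu, map_zero, LinearMap.zero_apply]
    rw [this, map_one, pow_zero]
  | succ k ih =>
    intro g W B hWB hW hB hWd hBd hg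
    obtain ⟨u, hu, hu0⟩ := W.exists_mem_ne_zero_of_ne_bot fun h => by
      rw [h, finrank_bot] at hWd; omega
    have hQu : Q u = 0 := (ti_iff hQ h2 W).1 hW u hu
    obtain ⟨y, hy, huy⟩ : ∃ y ∈ B, polar Q u y ≠ 0 := by
      by_contra h
      push Not at h
      exact hu0 (hB.eq_zero (hWB hu) fun y hy => by
        show polar Q y u = 0
        rw [polar_comm]; exact h y hy)
    set y' := (polar Q u y)⁻¹ • y
    set f := y' - Q y' • u
    have hy' : y' ∈ B := B.smul_mem _ hy
    have hf : f ∈ B := B.sub_mem hy' (B.smul_mem _ (hWB hu))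
    have huy' : polar Q u y' = 1 := by rw [polar_smul_right', inv_mul_cancel₀ huy]
    have huf : polar Q u f = 1 := by
      rw [show f = y' + (-Q y') • u by rw [neg_smul, ← sub_eq_add_neg], polar_add_right, huy',
        polar_smul_right', polar_self', hQu]
      ring
    have hQf : Q f = 0 := by
      rw [show f = y' + (-Q y') • u by rw [neg_smul, ← sub_eq_add_neg], map_add_polar,
        qmap_smul Q (-Q y') u, hQu, polar_smul_right', polar_comm, huy']
      ring
    set v := u + f
    set w := u + (-1 : F) • f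
    have hv : Q v = 1 := by rw [map_add_polar, hQu, hQf, huf]; ring
    have hw : Q w = -1 := by rw [map_add_polar, qmap_smul, hQu, hQf, polar_smul_right', huf]; ring
    have hvw : polar Q v w = 0 := by
      simp only [v, w, polar_add_left, polar_add_right, polar_smul_right', polar_self', hQu, hQf, huf,
        polar_comm (⇑Q) f u]
      ring
    have hv0 : Q v ≠ 0 := by rw [hv]; exact one_ne_zero
    have hw0 : Q w ≠ 0 := by rw [hw]; exact neg_ne_zero.2 one_ne_zero
    obtain ⟨hPn, hPd⟩ := nd_pair (hQ := hQ) h2 hv0 hw0 hvw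
    set P := Submodule.span F {v, w}
    have hvB : v ∈ B := B.add_mem (hWB hu) hf
    have hwB : w ∈ B := B.add_mem (hWB hu) (B.smul_mem _ hf)
    obtain ⟨hg', hB'⟩ := hg.peel hvB hwB hv0 hw0 hvw hB P rfl hPn
    have hPB : P ≤ B := Submodule.span_le.2 (by rintro x (rfl | rfl) <;> assumption)
    set W' := W ⊓ (polarForm hQ).perp (Submodule.span F {f})
    have hd' := RForm.finrank_inf_perp hB hPB
    have hW'B : W' ≤ B ⊓ (polarForm hQ).perp P := by
      refine le_inf (inf_le_left.trans hWB) fun x hx p hp => ?_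
      have hxu : polar Q u x = 0 := hW hx.1 u hu
      have hxf : polar Q f x = 0 := hx.2 f (Submodule.mem_span_singleton_self f)
      obtain ⟨s, t, rfl⟩ := Submodule.mem_span_pair.1 hp
      show polar Q (s • v + t • w) x = 0
      simp only [v, w, polar_add_left, polar_smul_left', hxu, hxf]
      ring
    have hW'le : finrank F W' ≤ k := by
      have h := (hW.mono (inf_le_left : W' ≤ W)).two_mul_le hB' hW'B
      omega
    have hW'ge : k ≤ finrank F W' := by
      have h1 := RForm.finrank_perp (φ := polarForm hQ) (Submodule.span F {f})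
      have h3 := Submodule.finrank_sup_add_finrank_inf_eq W ((polarForm hQ).perp (Submodule.span F {f}))
      have h4 := Submodule.finrank_le (W ⊔ (polarForm hQ).perp (Submodule.span F {f}))
      rw [show W ⊓ (polarForm hQ).perp (Submodule.span F {f}) = W' from rfl] at h3
      have h5 := finrank_span_le_card (R := F) ({f} : Set V)
      simp at h5
      omega
    have hsp := ih (g * rO Q v * rO Q w) W' _ hW'B (hW.mono inf_le_left) hB' (by omega) (by omega) hg'
    rw [map_mul, map_mul, spinor_rO hQ h2 hv0, spinor_rO hQ h2 hw0, hv, hw,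
      sqSign_of_isSquare (by exact ⟨1, (one_mul 1).symm⟩), mul_one] at hsp
    rw [pow_succ, ← hsp, mul_assoc, Int.units_mul_self, mul_one]

/-- An involution with square spinor norm, `-1` a square: the moved space is hyperbolic. -/
theorem moved_split (hQ : Nondeg Q) (h2 : (2 : F) ≠ 0) (hsq : IsSquare (-1 : F)) {g : O Q}
    (hs : spinor Q hQ h2 g = 1) {B : Submodule F V} (hB : (polarForm hQ).Nd B) (hg : NegOn hQ g B)
    (hev : Even (finrank F B)) :
    ∃ W ≤ B, (polarForm hQ).TI W ∧ 2 * finrank F W = finrank F B := by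
  obtain ⟨W, C, hWB, hCB, hW, hCW, hC, han, hdim, hle⟩ := exists_ti_quad hQ h2 hB
  refine ⟨W, hWB, hW, ?_⟩
  by_contra hne
  have hC2 : finrank F C = 2 := by obtain ⟨l, hl⟩ := hev; omega
  obtain ⟨v, hv, hv0⟩ := C.exists_mem_ne_zero_of_ne_bot fun h => by rw [h, finrank_bot] at hC2; omega
  have hQv : Q v ≠ 0 := fun h => hv0 (han v hv h)
  have hspan : Submodule.span F {v} ≤ C := (Submodule.span_singleton_le_iff_mem _ _).2 hv
  have hd := RForm.finrank_inf_perp hC hspan
  rw [finrank_span_singleton hv0] at hd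
  obtain ⟨w, hw, hw0⟩ := (C ⊓ (polarForm hQ).perp (Submodule.span F {v})).exists_mem_ne_zero_of_ne_bot
    fun h => by rw [h, finrank_bot] at hd; omega
  have hQw : Q w ≠ 0 := fun h => hw0 (han w hw.1 h)
  have hvw : polar Q v w = 0 := hw.2 v (Submodule.mem_span_singleton_self v)
  obtain ⟨hPn, hPd⟩ := nd_pair (hQ := hQ) h2 hQv hQw hvw
  set P := Submodule.span F {v, w}
  obtain ⟨hg', hB'⟩ := hg.peel (hCB hv) (hCB hw.1) hQv hQw hvw hB P rfl hPn
  have hPC : P ≤ C := Submodule.span_le.2 (by rintro x (rfl | rfl); exacts [hv, hw.1])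
  have hd' := RForm.finrank_inf_perp hB (hPC.trans hCB)
  have hsp := spinor_negOn hQ h2 (finrank F W) (g * rO Q v * rO Q w) W _
    (le_inf hWB ((RForm.le_perp_iff.1 hCW).trans (RForm.perp_anti hPC))) hW hB' rfl (by omega) hg'
  rw [map_mul, map_mul, hs, one_mul, spinor_rO hQ h2 hQv, spinor_rO hQ h2 hQw,
    sqSign_of_isSquare hsq, one_pow, ← sqSign_mul h2 hQv hQw, sqSign_eq_one_iff] at hsp
  obtain ⟨a, ha⟩ := hsp
  obtain ⟨ι, hι⟩ := hsq
  have ha0 : a ≠ 0 := fun h => mul_ne_zero hQv hQw (by rw [ha, h, mul_zero])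
  obtain ⟨hval, hval'⟩ := And.intro hvw hv0
  -- an isotropic vector in the plane
  have hx : Q (a • v + (ι * Q v) • w) = 0 := by
    rw [map_add_polar, qmap_smul, qmap_smul, polar_smul_left', polar_smul_right', hvw]
    linear_combination (ι * ι * Q v) * ha + (-(a * a * Q v)) * hι
  have hxC : a • v + (ι * Q v) • w ∈ C := C.add_mem (C.smul_mem _ hv) (C.smul_mem _ hw.1)
  have h0 := han _ hxC hx
  have h1 : polar Q v (a • v + (ι * Q v) • w) = a * (2 * Q v) := by
    rw [polar_add_right, polar_smul_right', polar_smul_right', polar_self', hvw, mul_zero, add_zero]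
  rw [h0, polar_zero_right] at h1
  exact mul_ne_zero ha0 (mul_ne_zero h2 hQv) h1.symm

end Cfsg.Agent.Linear.Elusive.Forms
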