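import Cfsg.Agent.Linear.Elusive.Forms.SymModels
import Cfsg.Agent.Linear.Elusive.Forms.OrthInvol
import Cfsg.Agent.H58.Elusive.Bridge

/-!
Totally singular subspaces fixed by elements of prime order of the orthogonal groups of odd dimension.
-/

set_option autoImplicit false
set_option linter.unusedSectionVars false

namespace Cfsg.Agent.Linear.Elusive.Forms

open Polynomial Module QuadraticMap Orthogonal H53 H58.Elusive

universe u

variable {F : Type u} [Field F] [Fintype F] {p q r : ℕ} [Fact p.Prime] [CharP F p] [Fact r.Prime]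
  {d m : ℕ}

theorem two_ne_zero_char (hp2 : p ≠ 2) : (2 : F) ≠ 0 := fun h => by
  rw [show (2 : F) = ((2 : ℕ) : F) by norm_num, CharP.cast_eq_zero_iff F p] at h
  exact hp2 ((Nat.prime_dvd_prime_iff_eq Fact.out Nat.prime_two).1 h)

theorem succ_mod {n c : ℕ} (hc : 0 < c) (h2 : 2 ∣ c) : (2 * n + 1) % c = (2 * n) % c + 1 := by
  have h := Nat.mod_lt (2 * n) hc
  have h' : 2 ∣ (2 * n) % c := (Nat.dvd_mod_iff h2).2 (dvd_mul_right 2 n)
  rw [Nat.add_mod, Nat.one_mod_eq_one.2 (show c ≠ 1 by omega), Nat.mod_eq_of_lt (by omega)]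

theorem succ_div {n i : ℕ} (hi : 0 < i) (h2 : 2 ∣ i) : (2 * n + 1) / i = (2 * n) / i := by
  have h := Nat.div_add_mod (2 * n + 1) i
  rw [succ_mod hi h2] at h
  have h' := Nat.div_add_mod (2 * n) i
  exact Nat.eq_of_mul_eq_mul_left hi (by omega)

section
variable {ι : Type} [Fintype ι] [DecidableEq ι] {Q : QuadraticForm F (ι → F)}

theorem pow_order {g : O Q} {x : GL ι F} (hgs : ((toO Q).symm g : GL ι F) = x)
    (ho : orderOf x = r) : g ^ r = 1 := by
  refine (toO Q).symm.injective (Subtype.ext ?_)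
  rw [map_pow, Subgroup.coe_pow, hgs, ← ho, pow_orderOf_eq_one, map_one, Subgroup.coe_one]

theorem order_symm {g : O Q} (hg : g ^ r = 1) (hne : g ≠ 1) :
    orderOf ((toO Q).symm g : GL ι F) = r := by
  have hinj : Function.Injective fun g : O Q => (((toO Q).symm g : Cfsg.isometryGroup F ⇑Q) : GL ι F) :=
    Subtype.val_injective.comp (toO Q).symm.injective
  exact orderOf_eq_prime (by rw [← Subgroup.coe_pow, ← map_pow, hg, map_one, Subgroup.coe_one])
    fun h1 => hne (hinj (h1.trans (by simp)))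

theorem conclude (hQ : Nondeg Q) (h2 : (2 : F) ≠ 0) {g : O Q} {x : GL ι F}
    (hgx : ∀ v, (g : (ι → F) ≃ₗ[F] (ι → F)) v = (x : Matrix ι ι F).mulVec v) {W : Submodule F (ι → F)}
    {k : ℕ} (h1 : finrank F W = k) (ht : (polarForm hQ).TI W) (h3 : Inv (linHom Q g) W) :
    ∃ W : Submodule F (ι → F), finrank F ↥W = k ∧ (∀ w ∈ W, Q w = 0) ∧
      W.map (Matrix.toLin' (x : Matrix ι ι F)) ≤ W :=
  ⟨W, h1, (ti_iff hQ h2 W).1 ht, (map_le_iff g x hgx W).2 fun _ hv => h3.mem hv⟩

end

/-- A model without invariant subspace gives an element without fixed subspace. -/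
theorem not_all_of_model_quad (h2 : (2 : F) ≠ 0) (hr : Odd r) {V : Type u} [AddCommGroup V]
    [Module F V] [FiniteDimensional F V] (φ : RForm F V) (hσ : φ.σ = RingHom.id F) (hε : φ.ε = 1)
    (hdim : finrank F V = 2 * d + 1) {T : End F V} (hT : φ.Iso T) (hTr : T ^ r = 1) (hT1 : T ≠ 1)
    (hno : ∀ U : Submodule F V, Inv T U → φ.TI U → finrank F U ≠ m)
    (hall : ∀ x : GL (Unit ⊕ (Fin d ⊕ Fin d)) F, x ∈ Cfsg.Geo.omegaGL (Cfsg.quadFormOdd d F) → orderOf x = r →
      ∃ W : Submodule F (Unit ⊕ (Fin d ⊕ Fin d) → F), finrank F ↥W = m ∧ (∀ w ∈ W, Cfsg.quadFormOdd d F w = 0) ∧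
        W.map (Matrix.toLin' (x : Matrix (Unit ⊕ (Fin d ⊕ Fin d)) (Unit ⊕ (Fin d ⊕ Fin d)) F)) ≤ W) :
    False := by
  obtain ⟨σ, ε, B, invol, flip, nondeg⟩ := φ
  change σ = RingHom.id F at hσ
  change ε = 1 at hε
  subst hσ hε
  let Q : QuadraticForm F V := LinearMap.BilinMap.toQuadraticMap B
  have hQa : ∀ v, Q v = B v v := fun v => rfl
  have hsym : ∀ u v, B v u = B u v := fun u v => by rw [flip, one_mul]; rfl
  have hpol : ∀ u v, polar Q u v = 2 * B u v := fun u v => by
    rw [polar, hQa, hQa, hQa, map_add, map_add, LinearMap.add_apply, LinearMap.add_apply, hsym u v]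
    ring
  have hQn : Nondeg Q := fun v hv => nondeg v fun w => by
    have := hv w
    rw [hpol] at this
    exact (mul_eq_zero.1 this).resolve_left h2
  obtain ⟨-, α, E, hα, hE⟩ := hQn.classify_odd hdim
  have hQ := formOdd_nondeg F d h2
  let T' : End F (Unit ⊕ (Fin d ⊕ Fin d) → F) := E.symm.conjAlgEquiv F T
  have hT'app : ∀ v, T' v = E.symm (T (E v)) := fun v => rfl
  have hT' : ∀ v, formOdd F d (T' v) = formOdd F d v := fun v => by
    refine mul_left_cancel₀ hα ?_
    rw [← hE, ← hE, hT'app, LinearEquiv.apply_symm_apply, hQa, hQa]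
    exact hT (E v) (E v)
  let g : O (formOdd F d) := hQ.ofLinear T' hT'
  have hlin : linHom (formOdd F d) g = T' := LinearMap.ext fun v => rfl
  have hgr : g ^ r = 1 := linHom_injective (by
    rw [map_pow, map_one, hlin, ← map_pow, hTr, map_one])
  have hg1 : g ≠ 1 := fun h => hT1 ((E.symm.conjAlgEquiv F).injective (by
    rw [map_one, ← map_one (linHom (formOdd F d)), ← h, hlin]))
  obtain ⟨W, hWm, hW0, hWi⟩ := hall _
    (mem_omegaGL_of_commutator (Q := formOdd F d) g
      (mem_commutator_of_odd hQ (by rw [finrank_formOdd]; omega) hr g hgr))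
    (order_symm hgr hg1)
  have hinv := (map_le_iff g _ (fun v => (toO_symm_apply (formOdd F d) g v).symm) W).1 hWi
  refine hno (W.map (E : (Unit ⊕ (Fin d ⊕ Fin d) → F) →ₗ[F] V)) ?_ ?_ (by rw [LinearEquiv.finrank_map_eq, hWm])
  · rintro _ ⟨_, ⟨v, hv, rfl⟩, rfl⟩
    refine ⟨T' v, hinv v hv, ?_⟩
    show E (T' v) = T (E v)
    rw [hT'app, LinearEquiv.apply_symm_apply]
  · rintro _ ⟨v, hv, rfl⟩ _ ⟨u, hu, rfl⟩
    have hz : ∀ w ∈ W, Q (E w) = 0 := fun w hw => by
      rw [hE]; exact mul_eq_zero_of_right α (hW0 w hw)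
    have h1 : 2 * B (E u) (E v) = 0 := by
      rw [← hpol, polar, ← map_add, hz _ (W.add_mem hu hv), hz u hu, hz v hv]
      ring
    exact (mul_eq_zero.1 h1).resolve_left h2

/-- Involutions. -/
theorem orth_two (hq : Fintype.card F = q) (hp2 : p ≠ 2) (hd : 3 ≤ d) (hmd : m ≤ d) :
    (∀ x : GL (Unit ⊕ (Fin d ⊕ Fin d)) F, x ∈ Cfsg.Geo.omegaGL (Cfsg.quadFormOdd d F) → orderOf x = 2 →
      ∃ W : Submodule F (Unit ⊕ (Fin d ⊕ Fin d) → F), finrank F ↥W = m ∧ (∀ w ∈ W, Cfsg.quadFormOdd d F w = 0) ∧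
        W.map (Matrix.toLin' (x : Matrix (Unit ⊕ (Fin d ⊕ Fin d)) (Unit ⊕ (Fin d ⊕ Fin d)) F)) ≤ W) ↔
      (m < d ∨ q % 4 = 1) := by
  have h2 : (2 : F) ≠ 0 := two_ne_zero_char (p := p) hp2
  have hQ := formOdd_nondeg F d h2
  have hodd : q % 2 = 1 := by
    obtain ⟨k, hp', hk⟩ := FiniteField.card F p
    rw [← hq, hk]
    exact Nat.odd_iff.1 ((hp'.odd_of_ne_two hp2).pow)
  constructor
  · intro hall
    by_contra hno
    push Not at hno
    have hns : ¬ IsSquare (-1 : F) := fun h => by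
      have h3 : q % 4 ≠ 3 := hq ▸ FiniteField.isSquare_neg_one_iff.1 h
      omega
    let v : Unit ⊕ (Fin d ⊕ Fin d) → F := Pi.single (Sum.inl ()) 1
    let i0 : Fin d := ⟨0, by omega⟩
    let w : Unit ⊕ (Fin d ⊕ Fin d) → F :=
      Pi.single (Sum.inr (Sum.inl i0)) 1 + Pi.single (Sum.inr (Sum.inr i0)) 1
    have hv : formOdd F d v = 1 := by
      simp [formOdd_coe, Cfsg.quadFormOdd, v]
    have hw : formOdd F d w = 1 := by
      simp [formOdd_coe, Cfsg.quadFormOdd, w, Pi.single_apply]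
    have hvw' : formOdd F d (v + w) = 2 := by
      simp [formOdd_coe, Cfsg.quadFormOdd, v, w, Pi.single_apply]
      norm_num
    have hvw : polar (formOdd F d) v w = 0 := by rw [polar, hvw', hv, hw]; ring
    have hv0 : formOdd F d v ≠ 0 := by rw [hv]; exact one_ne_zero
    have hw0 : formOdd F d w ≠ 0 := by rw [hw]; exact one_ne_zero
    obtain ⟨hPn, hPd⟩ := nd_pair (hQ := hQ) h2 hv0 hw0 hvw
    let g := rO (formOdd F d) v * rO (formOdd F d) w
    have hcomm : rO (formOdd F d) w * rO (formOdd F d) v = g := O.ext_app fun x => by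
      show (rO (formOdd F d) w : (Unit ⊕ (Fin d ⊕ Fin d) → F) ≃ₗ[F] (Unit ⊕ (Fin d ⊕ Fin d) → F)) ((rO (formOdd F d) v : (Unit ⊕ (Fin d ⊕ Fin d) → F) ≃ₗ[F] (Unit ⊕ (Fin d ⊕ Fin d) → F)) x) =
        (rO (formOdd F d) v : (Unit ⊕ (Fin d ⊕ Fin d) → F) ≃ₗ[F] (Unit ⊕ (Fin d ⊕ Fin d) → F)) ((rO (formOdd F d) w : (Unit ⊕ (Fin d ⊕ Fin d) → F) ≃ₗ[F] (Unit ⊕ (Fin d ⊕ Fin d) → F)) x)
      simp only [rO_app, polar_sub_right, polar_smul_right', hvw, polar_comm (⇑(formOdd F d)) w v]
      simp only [mul_zero, sub_zero]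
      abel
    have hg2 : g ^ 2 = 1 := by
      rw [pow_two]
      nth_rewrite 2 [← hcomm]
      show rO (formOdd F d) v * rO (formOdd F d) w * (rO (formOdd F d) w * rO (formOdd F d) v) = 1
      rw [mul_assoc, ← mul_assoc (rO (formOdd F d) w), rO_mul_self, one_mul, rO_mul_self]
    have hgv : (g : (Unit ⊕ (Fin d ⊕ Fin d) → F) ≃ₗ[F] (Unit ⊕ (Fin d ⊕ Fin d) → F)) v = -v := by
      show (rO (formOdd F d) v : (Unit ⊕ (Fin d ⊕ Fin d) → F) ≃ₗ[F] (Unit ⊕ (Fin d ⊕ Fin d) → F)) ((rO (formOdd F d) w : (Unit ⊕ (Fin d ⊕ Fin d) → F) ≃ₗ[F] (Unit ⊕ (Fin d ⊕ Fin d) → F)) v) = -v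
      rw [rO_fix (show polar (formOdd F d) w v = 0 by rw [polar_comm]; exact hvw), rO_self hv0]
    have hg1 : g ≠ 1 := fun h => by
      rw [h] at hgv
      have h3 : (2 : F) • v = 0 := by
        rw [two_smul]
        nth_rewrite 2 [show v = -v from hgv]
        exact add_neg_cancel v
      exact hv0 (by rw [(smul_eq_zero.1 h3).resolve_left h2, QuadraticMap.map_zero])
    have hcom : g ∈ commutator (O (formOdd F d)) := by
      rw [mem_commutator_iff hQ h2, map_mul, map_mul, detSign_rO hQ h2 hv0, detSign_rO hQ h2 hw0,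
        spinor_rO hQ h2 hv0, spinor_rO hQ h2 hw0, hv, hw]
      exact ⟨by decide, Int.units_mul_self _⟩
    obtain ⟨W, hWm, hW0, hWi⟩ := hall _ (mem_omegaGL_of_commutator (Q := formOdd F d) g hcom)
      (order_symm hg2 hg1)
    have hinv := (map_le_iff g _ (fun v => (toO_symm_apply (formOdd F d) g v).symm) W).1 hWi
    set P := Submodule.span F {v, w}
    have hWP : W ≤ (polarForm hQ).perp P := fun x hx => by
      obtain ⟨a, ha, b, hb, rfl⟩ := Submodule.mem_sup.1
        (hPn.isCompl.sup_eq_top.symm ▸ Submodule.mem_top (x := x))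
      obtain ⟨s, t, rfl⟩ := Submodule.mem_span_pair.1 ha
      have hbv : polar (formOdd F d) v b = 0 := hb v (Submodule.subset_span (by simp))
      have hbw : polar (formOdd F d) w b = 0 := hb w (Submodule.subset_span (by simp))
      have hgb : (g : (Unit ⊕ (Fin d ⊕ Fin d) → F) ≃ₗ[F] (Unit ⊕ (Fin d ⊕ Fin d) → F)) b = b := by
        show (rO (formOdd F d) v : (Unit ⊕ (Fin d ⊕ Fin d) → F) ≃ₗ[F] (Unit ⊕ (Fin d ⊕ Fin d) → F)) ((rO (formOdd F d) w : (Unit ⊕ (Fin d ⊕ Fin d) → F) ≃ₗ[F] (Unit ⊕ (Fin d ⊕ Fin d) → F)) b) = b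
        rw [rO_fix hbw, rO_fix hbv]
      have hgw : (g : (Unit ⊕ (Fin d ⊕ Fin d) → F) ≃ₗ[F] (Unit ⊕ (Fin d ⊕ Fin d) → F)) w = -w := by
        show (rO (formOdd F d) v : (Unit ⊕ (Fin d ⊕ Fin d) → F) ≃ₗ[F] (Unit ⊕ (Fin d ⊕ Fin d) → F)) ((rO (formOdd F d) w : (Unit ⊕ (Fin d ⊕ Fin d) → F) ≃ₗ[F] (Unit ⊕ (Fin d ⊕ Fin d) → F)) w) = -w
        rw [rO_self hw0, map_neg, rO_fix hvw]
      have hz : (2 : F) • (s • v + t • w) ∈ W := by
        have h3 := W.sub_mem hx (hinv _ hx)
        rwa [map_add, map_add, map_smul, map_smul, hgv, hgw, hgb, smul_neg, smul_neg,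
          add_sub_add_right_eq_sub, ← neg_add, sub_neg_eq_add, ← two_smul F] at h3
      have hz' := hW0 _ ((W.smul_mem_iff h2).1 hz)
      rw [← formOdd_coe, map_add_polar, qmap_smul, qmap_smul, polar_smul_left', polar_smul_right',
        hv, hw, hvw] at hz'
      have hs : s = 0 := by
        by_contra hs
        have ht : t ≠ 0 := fun ht => hs (pow_eq_zero_iff two_ne_zero |>.1 (by
          rw [ht] at hz'; linear_combination hz'))
        exact hns ⟨s / t, by field_simp; linear_combination -hz'⟩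
      have ht : t = 0 := pow_eq_zero_iff two_ne_zero |>.1 (by rw [hs] at hz'; linear_combination hz')
      rw [hs, ht, zero_smul, zero_smul, zero_add, zero_add]
      exact hb
    have h4 := ((ti_iff hQ h2 W).2 hW0).two_mul_le hPn.perp hWP
    have h5 := RForm.finrank_perp (φ := polarForm hQ) P
    rw [finrank_formOdd] at h5
    omega
  · intro hok x hx ho
    obtain ⟨g, hgc, hgx, hgs⟩ := exists_iso_of_mem (Q := formOdd F d) hx
    obtain ⟨hdet, hsp⟩ := (mem_commutator_iff hQ h2 g).1 hgc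
    set T := linHom (formOdd F d) g with hTdef
    have hTT : ∀ v, T (T v) = v := fun v => by
      have h3 : T ^ 2 = 1 := by rw [hTdef, ← map_pow, pow_order hgs ho, map_one]
      rw [← Module.End.mul_apply, ← pow_two, h3, Module.End.one_apply]
    have hiso : ∀ u v, polar (formOdd F d) (T u) (T v) = polar (formOdd F d) u v := polar_linHom g
    set B := LinearMap.ker (T + 1) with hBdef
    have hmemB : ∀ {v}, v ∈ B ↔ T v = -v := fun {v} => by
      rw [hBdef, LinearMap.mem_ker, LinearMap.add_apply, Module.End.one_apply, add_eq_zero_iff_eq_neg]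
    have hminus : ∀ v, v - T v ∈ B := fun v => hmemB.2 (by rw [map_sub, hTT, neg_sub])
    have hBn : (polarForm hQ).Nd B := by
      rw [RForm.Nd, eq_bot_iff]
      rintro b ⟨hb, hbp⟩
      refine (Submodule.mem_bot F).2 (hQ b fun y => ?_)
      have h3 : polar (formOdd F d) (y - T y) b = 0 := hbp _ (hminus y)
      have h4 : polar (formOdd F d) b (y + T y) = -polar (formOdd F d) b (y + T y) := by
        nth_rewrite 1 [← hiso b (y + T y)]
        rw [hmemB.1 hb, map_add T, hTT, add_comm (T y), polar_neg_left]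
      have h5 : polar (formOdd F d) b (y + T y) = 0 :=
        (mul_eq_zero.1 (show (2 : F) * _ = 0 by linear_combination h4)).resolve_left h2
      rw [polar_comm, polar_sub_right] at h3
      rw [polar_add_right] at h5
      exact (mul_eq_zero.1 (show (2 : F) * polar (formOdd F d) b y = 0 by
        linear_combination h3 + h5)).resolve_left h2
    set A := (polarForm hQ).perp B
    have hfix : ∀ v ∈ A, T v = v := fun v hv => by
      have h3 : T v ∈ A := fun b hb => by
        show polar (formOdd F d) b (T v) = 0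
        have h4 : polar (formOdd F d) b v = 0 := hv b hb
        rw [← neg_neg b, ← hmemB.1 hb, polar_neg_left, hiso, h4, neg_zero]
      exact (sub_eq_zero.1 (hBn.eq_zero (hminus v) fun b hb => (A.sub_mem hv h3) b hb)).symm
    have hdetT : LinearMap.det T = (-1 : F) ^ finrank F B := by
      set e := Submodule.prodEquivOfIsCompl _ _ hBn.isCompl
      have h3 : T = e.toLinearMap ∘ₗ
          (LinearMap.prodMap ((-1 : F) • LinearMap.id) LinearMap.id) ∘ₗ e.symm.toLinearMap := by
        refine LinearMap.ext fun y => ?_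
        obtain ⟨⟨b, a⟩, rfl⟩ := e.surjective y
        rw [LinearMap.comp_apply, LinearMap.comp_apply, LinearEquiv.coe_coe, LinearEquiv.coe_coe,
          LinearEquiv.symm_apply_apply]
        simp only [LinearMap.prodMap_apply, LinearMap.smul_apply, LinearMap.id_apply, e,
          Submodule.coe_prodEquivOfIsCompl', Submodule.coe_smul, Submodule.coe_neg, map_add, neg_one_smul,
          hmemB.1 b.2, hfix a a.2]
      rw [h3, LinearMap.det_conj, LinearMap.det_prodMap, LinearMap.det_smul, LinearMap.det_id,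
        LinearMap.det_id, mul_one, mul_one]
    have hev : Even (finrank F B) := by
      have h3 := (detSign_eq_one_iff hQ h2 g).1 hdet
      rw [show LinearMap.det ((g : (Unit ⊕ (Fin d ⊕ Fin d) → F) ≃ₗ[F] (Unit ⊕ (Fin d ⊕ Fin d) → F)) : (Unit ⊕ (Fin d ⊕ Fin d) → F) →ₗ[F] (Unit ⊕ (Fin d ⊕ Fin d) → F)) = LinearMap.det T from rfl, hdetT] at h3
      refine (neg_one_pow_eq_one_iff_even ?_).1 h3
      intro h4
      exact h2 (by linear_combination -h4)
    obtain ⟨Wa, Ca, hWa, -, hat, -, -, -, had, hac⟩ := exists_ti_quad hQ h2 hBn.perp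
    obtain ⟨Wb, hWb, hbt, hbd⟩ : ∃ Wb ≤ B, (polarForm hQ).TI Wb ∧
        (finrank F B ≤ 2 * finrank F Wb + 2 ∧ (q % 4 = 1 → finrank F B ≤ 2 * finrank F Wb)) := by
      by_cases hsq : IsSquare (-1 : F)
      · obtain ⟨W, h3, h4, h5⟩ := moved_split hQ h2 hsq hsp hBn
          ⟨fun v hv => hmemB.1 hv, hfix⟩ hev
        exact ⟨W, h3, h4, by omega, fun _ => by omega⟩
      · obtain ⟨W, C, h3, -, h4, -, -, -, h5, h6⟩ := exists_ti_quad hQ h2 hBn
        refine ⟨W, h3, h4, by omega, fun h7 => absurd ?_ hsq⟩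
        rw [FiniteField.isSquare_neg_one_iff, hq]
        omega
    have hdim := RForm.finrank_perp (φ := polarForm hQ) B
    rw [finrank_formOdd] at hdim
    obtain ⟨hbd1, hbd2⟩ := hbd
    obtain ⟨b', hb'⟩ := hev
    have htot : m ≤ finrank F Wa + finrank F Wb := by
      rcases hok with h3 | h3
      · omega
      · have := hbd2 h3; omega
    obtain ⟨Ub, hUb, hUbd⟩ := exists_sub Wb (a := min m (finrank F Wb)) (min_le_right _ _)
    obtain ⟨Ua, hUa, hUad⟩ := exists_sub Wa (a := m - min m (finrank F Wb)) (by omega)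
    refine conclude hQ h2 hgx (W := Ua ⊔ Ub) ?_ ?_ ?_
    · rw [finrank_sup_eq hBn.isCompl.disjoint.symm (hUa.trans hWa) (hUb.trans hWb), hUad, hUbd]
      omega
    · exact (hat.mono hUa).sup (hbt.mono hUb) ((hUa.trans hWa).trans (RForm.perp_anti (hUb.trans hWb)))
    · rintro _ ⟨y, hy, rfl⟩
      obtain ⟨a, ha, b, hb, rfl⟩ := Submodule.mem_sup.1 hy
      show T (a + b) ∈ Ua ⊔ Ub
      rw [map_add, hfix a (hWa (hUa ha)), hmemB.1 (hWb (hUb hb))]
      exact Submodule.add_mem_sup ha (Ub.neg_mem hb)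

/-- Elements of odd prime order. -/
theorem crit_space (hq : Fintype.card F = q) (hrp : r ≠ p) (hr2 : 2 < r) (hmd : m ≤ d) (c : ℕ)
    (hc : c = if Even (orderOf (q : ZMod r)) then orderOf (q : ZMod r) else 2 * orderOf (q : ZMod r))
    (hl : 2 * (m % orderOf (q : ZMod r)) ≤ (2 * d) % c)
    (hcond : Odd (orderOf (q : ZMod r)) ∨
      (r - 1) / orderOf (q : ZMod r) + 2 * (m / orderOf (q : ZMod r)) ≤ (2 * d) / orderOf (q : ZMod r))
    {V : Type u} [AddCommGroup V] [Module F V] [FiniteDimensional F V] (φ : RForm F V)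
    (hσ : φ.σ = RingHom.id F) (hV : finrank F V = 2 * d + 1) {T : End F V} (hT : φ.Iso T)
    (hTr : T ^ r = 1) {Wf : Submodule F V} (hWf : Wf ≤ fixSpace T) (hft : φ.TI Wf)
    (hfd : finrank F ↥(fixSpace T) ≤ 2 * finrank F Wf + 2)
    (hfl : 2 * finrank F Wf ≤ finrank F ↥(fixSpace T)) :
    ∃ W : Submodule F V, finrank F W = m ∧ φ.TI W ∧ Inv T W := by
  have hi0 := orderOf_pos_of_ne (r := r) hq hrp
  have hne : (q : ZMod r) ≠ 0 := fun h =>
    not_dvd_q (F := F) hq hrp ((ZMod.natCast_eq_zero_iff q r).1 h)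
  obtain ⟨t, ht⟩ := ZMod.orderOf_dvd_card_sub_one hne
  have hU := uniform_cyclotomic (r := r) hq hrp
  obtain ⟨K, hK1, hK2⟩ := dims_total (r := r) hq hrp hTr
  rw [hV] at hK1
  obtain ⟨i, hi⟩ : ∃ i, i = orderOf (q : ZMod r) := ⟨_, rfl⟩
  rw [← hi] at hi0 hc hl hcond hU hK1 hK2 ht
  rw [ht, Nat.mul_div_cancel_left _ hi0] at hcond
  have hdm := Nat.div_add_mod (2 * d) i
  have hdm' := Nat.div_add_mod m i
  rcases Nat.even_or_odd i with hev | hodd
  · rw [if_pos hev] at hc
    subst c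
    have hhalf := exists_half (r := r) hq hrp (hi ▸ hev)
    have hpar : Even (K * i) := hev.mul_left K
    obtain ⟨h, hh⟩ := hev
    obtain ⟨k, -, hk⟩ := FiniteField.card F p
    obtain ⟨Wm, hWm, hmi, hmt, hmd'⟩ := exists_ti_move_self hrp hT hTr (s := q ^ (i / 2))
      ⟨(k : ℕ) * (i / 2), by rw [← hq, hk, pow_mul]⟩
      (fun c => by rw [hσ, RingHom.id_apply, ← hq, FiniteField.pow_card_pow]) (hi ▸ hhalf) (fun g hg hgd => by
        rw [hU.2 g hg hgd, hq, ← pow_add]
        congr 1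
        omega)
    rw [hK2, ht] at hmd'
    obtain ⟨w, hw⟩ : i ∣ finrank F Wm :=
      dvd_finrank hU hmi (fun v hv => LinearMap.mem_ker.1 (hWm hv))
    rw [hw] at hmd'
    have hKt : K ≤ 2 * w + t := by
      by_contra hlt
      push Not at hlt
      have h1 := Nat.mul_le_mul_left i hlt
      have e1 : i * (2 * w + t).succ = 2 * (i * w) + i * t + i := by
        rw [Nat.succ_eq_add_one]; ring
      rw [mul_comm K i] at hmd'
      omega
    have hcond' : t + 2 * (m / i) ≤ 2 * d / i :=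
      hcond.resolve_left fun ho => by obtain ⟨l, hl'⟩ := ho; omega
    obtain ⟨hpar, hpar'⟩ := And.intro (Nat.even_iff.1 hpar) hK1
    replace hK1 : 2 * d = 2 * finrank F Wf + K * i := by omega
    have hfk : (2 * d) % i ≤ 2 * finrank F Wf := by
      rw [hK1, mul_comm K i, Nat.add_mul_mod_self_left]
      exact Nat.mod_le _ _
    have hwm : finrank F Wm = w * i := by rw [hw, mul_comm]
    rcases Nat.lt_or_ge w (m / i) with hlt | hge
    · have h1 : i * K ≤ i * (2 * w + t) := Nat.mul_le_mul_left i hKt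
      have h2 : i * (t + 2 * (m / i)) ≤ i * (2 * d / i) := Nat.mul_le_mul_left i hcond'
      have e1 : i * (2 * w + t) = 2 * (i * w) + i * t := by ring
      have e2 : i * (t + 2 * (m / i)) = i * t + 2 * (i * (m / i)) := by ring
      have h3 : i * w ≤ i * (m / i) := Nat.mul_le_mul_left i hlt.le
      rw [mul_comm K i] at hK1
      obtain ⟨W, hWd, hWt, hWi⟩ := exists_ti_space hrp hT hU hWf hft hWm hmi hmt (b := w)
        (a := m - i * w) (by omega) (le_of_eq hwm.symm)
      exact ⟨W, by rw [hWd, mul_comm w i]; omega, hWt, hWi⟩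
    · obtain ⟨W, hWd, hWt, hWi⟩ := exists_ti_space hrp hT hU hWf hft hWm hmi hmt (b := m / i)
        (a := m % i) (by omega) (by rw [hwm]; exact Nat.mul_le_mul_right i hge)
      exact ⟨W, by rw [hWd, mul_comm (m / i) i]; omega, hWt, hWi⟩
  · rw [if_neg (Nat.not_even_iff_odd.2 hodd)] at hc
    subst c
    have hcop : ∀ g : F[X], Irreducible g → g ∣ cyclotomic r F →
        IsCoprime g ((g.map φ.σ).comp (X ^ (r - 1))) := fun g hg hgd =>
      coprime_twist hrp φ.σ (q₀ := 1) ⟨0, rfl⟩ (fun c => by rw [hσ, RingHom.id_apply, pow_one]) (fun l hl' => by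
        rw [one_mul, hq, ← ZMod.natCast_eq_zero_iff, Nat.cast_add, Nat.cast_one, Nat.cast_pow,
          add_eq_zero_iff_eq_neg] at hl'
        have h1 := congrArg (fun a : ZMod r => a ^ i) hl'
        simp only [← pow_mul, mul_comm l i] at h1
        rw [pow_mul, hi, pow_orderOf_eq_one, one_pow, ← hi, hodd.neg_one_pow] at h1
        have h3 : ((2 : ℕ) : ZMod r) = 0 := by push_cast; linear_combination h1
        rw [ZMod.natCast_eq_zero_iff] at h3
        have := Nat.le_of_dvd two_pos h3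
        omega) hg hgd
    obtain ⟨Wm, hWm, hmi, hmt, hmd'⟩ := exists_ti_move hrp hT hTr hcop
    rw [hK2] at hmd'
    obtain ⟨w, hw⟩ : i ∣ finrank F Wm :=
      dvd_finrank hU hmi (fun v hv => LinearMap.mem_ker.1 (hWm hv))
    replace hK1 : 2 * d = 2 * finrank F Wf + K * i := by omega
    have hfk : (2 * d) % (2 * i) ≤ 2 * finrank F Wf := by
      rw [hK1, ← hmd', hw, ← mul_assoc, Nat.add_mul_mod_self_left]
      exact Nat.mod_le _ _
    have hwm : finrank F Wm = w * i := by rw [hw, mul_comm]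
    rcases Nat.lt_or_ge w (m / i) with hlt | hge
    · have h3 : i * w ≤ i * (m / i) := Nat.mul_le_mul_left i hlt.le
      obtain ⟨W, hWd, hWt, hWi⟩ := exists_ti_space hrp hT hU hWf hft hWm hmi hmt (b := w)
        (a := m - i * w) (by omega) (le_of_eq hwm.symm)
      exact ⟨W, by rw [hWd, mul_comm w i]; omega, hWt, hWi⟩
    · obtain ⟨W, hWd, hWt, hWi⟩ := exists_ti_space hrp hT hU hWf hft hWm hmi hmt (b := m / i)
        (a := m % i) (by omega) (by rw [hwm]; exact Nat.mul_le_mul_right i hge)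
      exact ⟨W, by rw [hWd, mul_comm (m / i) i]; omega, hWt, hWi⟩

/-- The criterion. -/
theorem orth_odd_iff (hq : Fintype.card F = q) (hp2 : p ≠ 2) (hd : 3 ≤ d) (hm : 1 ≤ m) (hmd : m ≤ d)
    (hrΩ : r ∣ Nat.card {W : Submodule F (Unit ⊕ (Fin d ⊕ Fin d) → F) // finrank F ↥W = m ∧
      (∀ w ∈ W, Cfsg.quadFormOdd d F w = 0)})
    (i c : ℕ) (hi : i = orderOf (q : ZMod r)) (hc : c = if Even i then i else 2 * i) :
    (∀ x : GL (Unit ⊕ (Fin d ⊕ Fin d)) F, x ∈ Cfsg.Geo.omegaGL (Cfsg.quadFormOdd d F) → orderOf x = r →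
      ∃ W : Submodule F (Unit ⊕ (Fin d ⊕ Fin d) → F), finrank F ↥W = m ∧ (∀ w ∈ W, Cfsg.quadFormOdd d F w = 0) ∧
        W.map (Matrix.toLin' (x : Matrix (Unit ⊕ (Fin d ⊕ Fin d)) (Unit ⊕ (Fin d ⊕ Fin d)) F)) ≤ W) ↔
    ((r = 2 ∧ (m < d ∨ q % 4 = 1)) ∨
     (r ≠ p ∧ 2 < r ∧ i ≤ m ∧ 2 * (m % i) < (2 * d + 1) % c ∧
       (Odd i ∨ (r - 1) / i + 2 * (m / i) ≤ (2 * d + 1) / i))) := by
  have h2 : (2 : F) ≠ 0 := two_ne_zero_char (p := p) hp2
  have hQ := formOdd_nondeg F d h2
  obtain ⟨hrq, s, hs1, hs2, hs3⟩ := quad_odd_count (Q := formOdd F d) hQ (by rw [Nat.card_eq_fintype_card, hq]) (finrank_formOdd F d) hmd hrΩ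
  have hrp : r ≠ p := fun h => hrq (h ▸ char_dvd (F := F) hq)
  have hi0 : 0 < i := hi ▸ orderOf_pos_of_ne (r := r) hq hrp
  rw [← hi] at hs3
  have hcs : c ∣ 2 * s := by
    rcases Nat.even_or_odd i with h | h
    · rwa [hc, if_pos h]
    · rw [hc, if_neg (Nat.not_even_iff_odd.2 h)]
      exact (Nat.coprime_two_left.2 h).mul_dvd_of_dvd_of_dvd (dvd_mul_right 2 s) hs3
  have hcn : c ≤ 2 * d := (Nat.le_of_dvd (by omega) hcs).trans (by omega)
  have hsmall : ¬ 2 * m ≤ (2 * d) % c := fun h => no_multiple h (by omega) (by omega) hcs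
  have hiff : (i ≤ m ∧ 2 * (m % i) < (2 * d + 1) % c ∧
      (Odd i ∨ (r - 1) / i + 2 * (m / i) ≤ (2 * d + 1) / i)) ↔ (i ≤ m ∧ 2 * (m % i) ≤ (2 * d) % c ∧
      (Odd i ∨ (r - 1) / i + 2 * (m / i) ≤ (2 * d) / i)) := by
    have hc2 : 2 ∣ c := by
      rw [hc]; split
      · rename_i h; exact even_iff_two_dvd.1 h
      · exact dvd_mul_right 2 i
    have hc0 : 0 < c := by rw [hc]; split <;> omega
    rw [succ_mod hc0 hc2]
    rcases Nat.even_or_odd i with h | h
    · rw [succ_div hi0 (even_iff_two_dvd.1 h), Nat.lt_succ_iff]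
    · simp [h, Nat.lt_succ_iff]
  rcases eq_or_ne r 2 with hr2 | hr2
  · subst hr2
    refine (orth_two hq hp2 hd hmd).trans ⟨fun h => Or.inl ⟨rfl, h⟩, ?_⟩
    rintro (⟨-, h⟩ | ⟨-, h, -⟩)
    · exact h
    · omega
  have hr : 2 < r := by have := (Fact.out : r.Prime).two_le; omega
  have hrodd : Odd r := (Fact.out : r.Prime).odd_of_ne_two hr2
  have him : 2 * (m % i) ≤ (2 * d) % c → i ≤ m := fun h => by
    by_contra hlt
    rw [Nat.mod_eq_of_lt (by omega)] at h
    exact hsmall h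
  rw [hiff]
  constructor
  · intro hall
    refine Or.inr ⟨hrp, hr, ?_⟩
    by_contra hno
    have hdm := Nat.div_add_mod (2 * d) c
    have hc0 : 0 < c := by rw [hc]; split <;> omega
    have hceven : c % 2 = 0 := by
      rw [hc]; split
      · rename_i h; exact Nat.even_iff.1 h
      · omega
    obtain ⟨D, hD⟩ : 2 ∣ (2 * d) % c := (Nat.dvd_mod_iff (Nat.dvd_of_mod_eq_zero hceven)).2 (dvd_mul_right 2 d)
    have hn1 : 1 ≤ (2 * d) / c := Nat.div_pos hcn hc0
    by_cases hl : 2 * (m % i) ≤ (2 * d) % c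
    swap
    · -- the fixed space is too small
      have hbound : ∀ (V : Type u) [AddCommGroup V] [Module F V] [FiniteDimensional F V]
          (φ : RForm F V) (T : End F V), φ.Iso T → T ^ r = 1 →
          finrank F ↥(fixSpace T) = 2 * D + 1 → ∀ U : Submodule F V, Inv T U → φ.TI U → finrank F U ≠ m := by
        intro V _ _ _ φ T hT hTr hfix U hUi hUt hUm
        obtain ⟨a, b, hab, ha, -⟩ := ti_parts hq hrp hT hTr hUi hUt
        rw [← hi, hUm] at hab
        have : m % i = a % i := by rw [hab, Nat.add_mul_mod_self_right]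
        have := Nat.mod_le a i
        omega
      have hnt : ∀ (V : Type u) [AddCommGroup V] [Module F V] [FiniteDimensional F V] (T : End F V),
          finrank F V ≠ finrank F ↥(fixSpace T) → T ≠ 1 := by
        intro V _ _ _ T h h1
        apply h
        rw [show fixSpace T = ⊤ from eq_top_iff.2 fun v _ => mem_fixSpace.2 (by rw [h1]; rfl), finrank_top]
      rcases Nat.even_or_odd i with hev | hodd
      · rw [if_pos hev] at hc
        obtain ⟨V, _, _, _, φ, T, hσ, hε, hT, hTr, hdim, hfix, -⟩ :=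
          exists_self_sym (r := r) hq hrp hr (hi ▸ hev) (polarForm (formOdd_nondeg F D h2)) rfl rfl ((2 * d) / c) 0 hn1
            (by
              have hne : (q : ZMod r) ≠ 0 := fun h => hrq ((ZMod.natCast_eq_zero_iff q r).1 h)
              exact Nat.div_pos (Nat.le_of_dvd (by omega) (ZMod.orderOf_dvd_card_sub_one hne))
                (hi ▸ hi0))
        rw [← hi, ← hc, add_zero, mul_comm (2 * d / c), finrank_formOdd] at hdim
        rw [finrank_formOdd] at hfix
        exact not_all_of_model_quad h2 hrodd φ hσ hε (by omega) hT hTr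
          (hnt V T (by
            have := Nat.mul_le_mul_left c hn1
            omega)) (hbound V φ T hT hTr hfix) hall
      · rw [if_neg (Nat.not_even_iff_odd.2 hodd)] at hc
        obtain ⟨V, _, _, _, φ, T, hσ, hε, hT, hTr, hdim, hfix⟩ :=
          exists_pair_sym (r := r) hq hrp (polarForm (formOdd_nondeg F D h2)) rfl rfl ((2 * d) / c)
        rw [← hi, mul_right_comm, ← hc, finrank_formOdd] at hdim
        rw [finrank_formOdd] at hfix
        exact not_all_of_model_quad h2 hrodd φ hσ hε (by omega) hT hTr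
          (hnt V T (by
            have := Nat.mul_le_mul_left c hn1
            omega)) (hbound V φ T hT hTr hfix) hall
    · have him' := him hl
      have hcond : ¬ (Odd i ∨ (r - 1) / i + 2 * (m / i) ≤ (2 * d) / i) := fun h => hno ⟨him', hl, h⟩
      push Not at hcond
      obtain ⟨hnodd, hlt⟩ := hcond
      have hev : Even i := by rwa [Nat.not_odd_iff_even] at hnodd
      rw [if_pos hev] at hc
      subst c
      have hm' : 1 ≤ m / i := Nat.div_pos him' hi0
      have hn2 : 2 ≤ 2 * d / i := by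
        rw [Nat.le_div_iff_mul_le hi0]
        omega
      have hkl := Nat.mod_lt (2 * d) hi0
      obtain ⟨t, hteq⟩ : ∃ t, t = (r - 1) / i := ⟨_, rfl⟩
      have ht1 : 1 ≤ t := by
        have hne : (q : ZMod r) ≠ 0 := fun h => hrq ((ZMod.natCast_eq_zero_iff q r).1 h)
        rw [hteq]
        exact Nat.div_pos (Nat.le_of_dvd (by omega) (hi ▸ ZMod.orderOf_dvd_card_sub_one hne)) hi0
      rw [← hteq] at hlt
      obtain ⟨h, hh⟩ := hev
      obtain ⟨f, e, se, he, hse, hodd, hsum, hf, hbig⟩ : ∃ f e se, 1 ≤ e ∧ se + 1 ≤ t ∧ e % 2 = 1 ∧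
          2 * f + (e + se) * i = 2 * d ∧ f < i ∧ e < 2 * (m / i) := by
        rw [mul_comm] at hdm
        rcases Nat.lt_or_ge (2 * d / i) t with h1 | h1
        · refine ⟨D, 1, 2 * d / i - 1, le_rfl, by omega, rfl, ?_, by omega, by omega⟩
          rw [show 1 + (2 * d / i - 1) = 2 * d / i by omega]
          omega
        rcases Nat.even_or_odd (2 * d / i - t) with h2 | h2
        · obtain ⟨w, hw⟩ := h2
          refine ⟨D, w + w + 1, t - 1, by omega, by omega, by omega, ?_, by omega, by omega⟩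
          rw [show w + w + 1 + (t - 1) = 2 * d / i by omega]
          omega
        · obtain ⟨w, hw⟩ := h2
          refine ⟨D + h, 2 * w + 1, t - 1, by omega, by omega, by omega, ?_, by omega, by omega⟩
          rw [show 2 * w + 1 + (t - 1) = 2 * d / i - 1 by omega, Nat.sub_mul, one_mul]
          have := Nat.mul_le_mul_right i (show 1 ≤ 2 * d / i by omega)
          omega
      obtain ⟨V, _, _, _, φ, T, hσ, hε, hT, hTr, hdim, hfix, hb⟩ :=
        exists_self_sym (r := r) hq hrp hr (hi ▸ ⟨h, hh⟩) (polarForm (formOdd_nondeg F f h2)) rfl rfl e se he (by rw [← hi]; omega)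
      rw [← hi, finrank_formOdd] at hdim
      rw [finrank_formOdd] at hfix
      refine not_all_of_model_quad h2 hrodd φ hσ hε (by omega) hT hTr (fun h1 => ?_) ?_ hall
      · have : fixSpace T = ⊤ := eq_top_iff.2 fun v _ => mem_fixSpace.2 (by rw [h1]; rfl)
        rw [this, finrank_top] at hfix
        have := Nat.mul_le_mul_right i (show 1 ≤ e + se by omega)
        omega
      · intro U hUi hUt hUm
        obtain ⟨a, b, hab, ha, hb', -⟩ := ti_parts hq hrp hT hTr hUi hUt
        have h2 := hb U hUi hUt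
        rw [hb', ← hi, ← mul_assoc] at h2
        have h3 := Nat.le_of_mul_le_mul_right h2 hi0
        rw [← hi, hUm] at hab
        have ha' : a < i := by omega
        have : m / i = b := by
          rw [hab, Nat.add_mul_div_right _ _ hi0, Nat.div_eq_of_lt ha', zero_add]
        omega
  · rintro (⟨h, -⟩ | ⟨-, -, -, hl, hcond⟩)
    · exact absurd h hr2
    intro x hx ho
    obtain ⟨g, -, hgx, hgs⟩ := exists_iso_of_mem (Q := formOdd F d) hx
    have hTr : linHom (formOdd F d) g ^ r = 1 := by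
      rw [← map_pow, pow_order hgs ho, map_one]
    obtain ⟨Wf, C, hWf, -, hft, -, -, -, hdim', hC⟩ :=
      exists_ti_quad hQ h2 (nd_fixSpace hrp (iso_linHom hQ (T := linHom (formOdd F d) g)
        fun v => O.map_app g v) hTr).1
    obtain ⟨W, h1, h2', h3⟩ := crit_space hq hrp hr hmd c (by rw [← hi]; exact hc) (by rwa [← hi])
      (by rwa [← hi]) (polarForm hQ) rfl (finrank_formOdd F d)
      (iso_linHom hQ (T := linHom (formOdd F d) g) fun v => O.map_app g v) hTr hWf hft (by omega) (by omega)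
    exact conclude hQ h2 hgx h1 h2' h3

end Cfsg.Agent.Linear.Elusive.Forms
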