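import Cfsg.Agent.Linear.Elusive.Forms.Isotropic

/-!
Totally isotropic invariant subspaces of an isometry of prime order.
-/

set_option autoImplicit false
set_option linter.unusedSectionVars false

namespace Cfsg.Agent.Linear.Elusive.Forms

open Polynomial Module

universe u v

variable {F : Type u} [Field F] [Fintype F] {p q r : ℕ} [Fact p.Prime] [CharP F p] [Fact r.Prime]
  {V : Type v} [AddCommGroup V] [Module F V] [FiniteDimensional F V] {φ : RForm F V}

theorem nd_fixSpace (hrp : r ≠ p) {T : End F V} (hT : φ.Iso T) (hTr : T ^ r = 1) :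
    φ.Nd (fixSpace T) ∧ φ.Nd (moveSpace r T) := by
  have hsup : (⊤ : Submodule F V) = fixSpace T ⊔ moveSpace r T := by
    have := split_local (isCoprime_cyclotomic (F := F) (r := r) hrp) (inv_top T)
      (kill_top (aeval_split hTr))
    rwa [top_inf_eq, top_inf_eq] at this
  have key : ∀ A B : Submodule F V, (⊤ : Submodule F V) = A ⊔ B → A ≤ φ.perp B → φ.Nd A := by
    intro A B hAB hperp
    rw [RForm.Nd, eq_bot_iff]
    rintro x ⟨hxA, hxp⟩
    refine (Submodule.mem_bot F).2 (φ.nondeg' fun y => ?_)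
    have hy : y ∈ A ⊔ B := hAB ▸ Submodule.mem_top
    obtain ⟨a, ha, b, hb, rfl⟩ := Submodule.mem_sup.1 hy
    rw [map_add, LinearMap.add_apply, hxp a ha, hperp hxA b hb, add_zero]
  exact ⟨key _ _ hsup (RForm.le_perp_iff.1 (move_le_perp_fix hrp hT)),
    key _ _ (hsup.trans (sup_comm _ _)) (move_le_perp_fix hrp hT)⟩

theorem squarefree_X_sub_one : Squarefree (X - 1 : F[X]) := by
  simpa using (irreducible_X_sub_C (1 : F)).squarefree

theorem iso_one : φ.Iso (1 : End F V) := fun _ _ => rfl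

theorem inv_one (U : Submodule F V) : Inv (1 : End F V) U := by
  simp [Inv, Module.End.one_eq_id]

/-- On a subspace of fixed points with an alternating form there is a Lagrangian. -/
theorem exists_ti_alt (halt : ∀ x, φ.B x x = 0) {A : Submodule F V} (hA : φ.Nd A) :
    ∃ W ≤ A, φ.TI W ∧ 2 * finrank F W = finrank F A := by
  obtain ⟨W, C, hWA, -, hWt, -, -, -, -, hdim, hno⟩ :=
    exists_maxTI iso_one squarefree_X_sub_one (by simp) (inv_one A) hA
  refine ⟨W, hWA, hWt, ?_⟩
  have : C = ⊥ := by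
    rw [eq_bot_iff]
    intro x hx
    have hline := hno (Submodule.span F {x}) (by simpa using hx) (inv_one _) (by
      intro y hy z hz
      obtain ⟨a, rfl⟩ := Submodule.mem_span_singleton.1 hy
      obtain ⟨b, rfl⟩ := Submodule.mem_span_singleton.1 hz
      simp [halt])
    rwa [Submodule.span_singleton_eq_bot] at hline
  rw [this, finrank_bot] at hdim
  omega

/-- On a subspace with a Hermitian form there is a totally isotropic subspace of half the dimension. -/
theorem exists_ti_herm {q₀ : ℕ} (hq₀ : ∃ e, q₀ = p ^ e) (hQ : Fintype.card F = q₀ * q₀)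
    (hσ : ∀ c, φ.σ c = c ^ q₀) {A : Submodule F V} (hA : φ.Nd A) :
    ∃ W ≤ A, φ.TI W ∧ finrank F A ≤ 2 * finrank F W + 1 := by
  obtain ⟨W, C, hWA, -, hWt, -, hCi, hC, -, hdim, hno⟩ :=
    exists_maxTI iso_one squarefree_X_sub_one (by simp) (inv_one A) hA
  refine ⟨W, hWA, hWt, ?_⟩
  have hd : (X - Polynomial.C (1 : F)).natDegree = 1 := natDegree_X_sub_C _
  have h := finrank_le_natDegree iso_one hq₀ hσ (one_pow _) (irreducible_X_sub_C (1 : F))
    (by rw [hd, pow_one, hQ]) hCi hC (by simp) hno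
  omega

/-- The moved space, when the irreducible factors are not self-dual. -/
theorem exists_ti_move (hrp : r ≠ p) {T : End F V} (hT : φ.Iso T) (hTr : T ^ r = 1)
    (hcop : ∀ g : F[X], Irreducible g → g ∣ cyclotomic r F →
      IsCoprime g ((g.map φ.σ).comp (X ^ (r - 1)))) :
    ∃ W ≤ moveSpace r T, Inv T W ∧ φ.TI W ∧ 2 * finrank F W = finrank F ↥(moveSpace r T) := by
  obtain ⟨W, C, hWA, hWi, hWt, hCA, hCi, -, -, hdim, hno⟩ :=
    exists_maxTI hT (separable_pow_sub_one (F := F) hrp).squarefree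
      (by rw [map_sub, map_pow, aeval_X, map_one, hTr, sub_self]) (show Inv T (moveSpace r T) from inv_ker_aeval T _)
      (nd_fixSpace hrp hT hTr).2
  refine ⟨W, hWA, hWi, hWt, ?_⟩
  have : C = ⊥ := by
    by_contra hne
    obtain ⟨v, hv, hv0⟩ := C.exists_mem_ne_zero_of_ne_bot hne
    obtain ⟨g, hg, hgd, w, hw, hw0, hgw⟩ :=
      exists_factor (inv_bot T) hCi (cyclotomic r F) (cyclotomic_ne_zero r F) v hv
        (by simpa using hv0) (by simpa using LinearMap.mem_ker.1 (hCA hv))
    rw [Submodule.mem_bot] at hgw hw0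
    have hti : φ.TI (cyc T w) :=
      (ti_ker_of_coprime hT (Fact.out : r.Prime).pos hTr (hcop g hg hgd)).mono
        (cyc_le (inv_ker_aeval T g) hgw)
    exact hw0 ((Submodule.mem_bot F).1 (hno _ (cyc_le hCi hw) (inv_cyc w) hti ▸ self_mem_cyc w))
  rw [this, finrank_bot] at hdim
  omega

/-- The moved space, when `r` divides `s + 1`. -/
theorem exists_ti_move_self (hrp : r ≠ p) {T : End F V} (hT : φ.Iso T) (hTr : T ^ r = 1) {s : ℕ}
    (hs : ∃ e, s = p ^ e) (hc : ∀ c, φ.σ c = c ^ s) (hrs : r ∣ s + 1)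
    (hdeg : ∀ g : F[X], Irreducible g → g ∣ cyclotomic r F → Fintype.card F ^ g.natDegree = s * s) :
    ∃ W ≤ moveSpace r T, Inv T W ∧ φ.TI W ∧
      finrank F ↥(moveSpace r T) ≤ 2 * finrank F W + (r - 1) := by
  obtain ⟨W, C, hWA, hWi, hWt, hCA, hCi, hC, -, hdim, hno⟩ :=
    exists_maxTI hT (separable_pow_sub_one (F := F) hrp).squarefree
      (by rw [map_sub, map_pow, aeval_X, map_one, hTr, sub_self]) (show Inv T (moveSpace r T) from inv_ker_aeval T _)
      (nd_fixSpace hrp hT hTr).2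
  refine ⟨W, hWA, hWi, hWt, ?_⟩
  obtain ⟨k, hk⟩ := hrs
  have hsq : Squarefree (cyclotomic r F) :=
    Squarefree.squarefree_of_dvd ⟨X - 1, (cyclotomic_prime_mul_X_sub_one F r).symm⟩
      (separable_pow_sub_one (F := F) hrp).squarefree
  have h := finrank_le_of_squarefree hT hs hc (by rw [hk, pow_mul, hTr, one_pow]) (cyclotomic r F)
    (cyclotomic_ne_zero r F) hsq hdeg C hCi hC (fun v hv => LinearMap.mem_ker.1 (hCA hv)) hno
  rw [natDegree_cyclotomic, Nat.totient_prime Fact.out] at h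
  omega

/-- Sums of totally isotropic pieces from the fixed and the moved space. -/
theorem exists_ti_space {d : ℕ} (hrp : r ≠ p) {T : End F V} (hT : φ.Iso T)
    (hU : Uniform (cyclotomic r F) d) {Wf Wm : Submodule F V} (hf : Wf ≤ fixSpace T)
    (hft : φ.TI Wf) (hm : Wm ≤ moveSpace r T) (hmi : Inv T Wm) (hmt : φ.TI Wm) {a b : ℕ}
    (ha : a ≤ finrank F Wf) (hb : b * d ≤ finrank F Wm) :
    ∃ W : Submodule F V, finrank F W = a + b * d ∧ φ.TI W ∧ Inv T W := by
  obtain ⟨U, hUW, hUd⟩ : ∃ U ≤ Wf, finrank F U = a := by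
    obtain ⟨U, h1, -, h3⟩ := exists_inv_finrank (T := (1 : End F V)) (d := 1)
      (uniform_X_sub_one (F := F)) (A := Wf) (inv_one Wf) (by simp) a (by simpa using ha)
    exact ⟨U, h1, by simpa using h3⟩
  obtain ⟨U', hU'W, hU'i, hU'd⟩ := exists_inv_finrank hU hmi
    (fun v hv => LinearMap.mem_ker.1 (hm hv)) b hb
  refine ⟨U ⊔ U', ?_, ?_, ?_⟩
  · rw [finrank_sup_eq (disjoint_spaces hrp T) (hUW.trans hf) (hU'W.trans hm), hUd, hU'd]
  · exact (hft.mono hUW).sup (hmt.mono hU'W) (RForm.le_perp_iff.1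
      ((hU'W.trans hm).trans ((move_le_perp_fix hrp hT).trans (RForm.perp_anti (hUW.trans hf)))))
  · refine Inv.sup ?_ hU'i
    rintro _ ⟨x, hx, rfl⟩
    rw [mem_fixSpace.1 (hUW.trans hf hx)]
    exact hx

end Cfsg.Agent.Linear.Elusive.Forms
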