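import Cfsg.Agent.Linear.Elusive.Forms.SympModels
import Cfsg.Agent.Linear.Elusive.Count
import Cfsg.Agent.Symplectic.Parabolic
import Cfsg.Agent.Linear.Elusive.Criterion

/-!
Totally isotropic subspaces fixed by elements of prime order of the symplectic groups.
-/

set_option autoImplicit false
set_option linter.unusedSectionVars false

namespace Cfsg.Agent.Linear.Elusive.Forms

open Polynomial Module

universe u

variable {F : Type u} [Field F] [Fintype F] {p q r : ℕ} [Fact p.Prime] [CharP F p] [Fact r.Prime]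
  {d m : ℕ}

/-- A divisor of the number of totally isotropic subspaces divides one of `q ^ (2 s) - 1`. -/
theorem symp_count (hq : Fintype.card F = q) (hmd : m ≤ d)
    (hrΩ : r ∣ Nat.card {W : Submodule F (Fin d ⊕ Fin d → F) // finrank F ↥W = m ∧
      (∀ u ∈ W, ∀ v ∈ W, Cfsg.sympForm d F u v = 0)}) :
    ¬ r ∣ q ∧ ∃ s, d - m < s ∧ s ≤ d ∧ orderOf (q : ZMod r) ∣ 2 * s := by
  have h1 : 1 < q := hq ▸ Fintype.one_lt_card
  have h := Symplectic.card_isotropic_mul (F := F) d m
  rw [Symplectic.card_frame, ← Fin.prod_univ_eq_prod_range, hq] at h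
  have e1 : (∏ l : Fin m, (q ^ m - q ^ (l : ℕ))) =
      (∏ l : Fin m, q ^ (l : ℕ)) * ∏ l : Fin m, (q ^ (m - l) - 1) := by
    rw [← Finset.prod_mul_distrib]
    refine Finset.prod_congr rfl fun l _ => ?_
    rw [Nat.mul_sub, mul_one, ← pow_add, Nat.add_sub_cancel' l.isLt.le]
  have e2 : (∏ l : Fin m, (q ^ (2 * d - l) - q ^ (l : ℕ))) =
      (∏ l : Fin m, q ^ (l : ℕ)) * ∏ l : Fin m, (q ^ (2 * (d - l)) - 1) := by
    rw [← Finset.prod_mul_distrib]
    refine Finset.prod_congr rfl fun l _ => ?_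
    have := l.isLt
    rw [Nat.mul_sub, mul_one, ← pow_add, show (l : ℕ) + 2 * (d - l) = 2 * d - l by omega]
  rw [e1, e2, mul_left_comm] at h
  have h2 := Nat.eq_of_mul_eq_mul_left (Finset.prod_pos fun l _ => pow_pos (by omega) _) h
  have h3 : r ∣ ∏ l : Fin m, (q ^ (2 * (d - l)) - 1) := h2 ▸ hrΩ.mul_right _
  obtain ⟨l, -, hl⟩ := ((Fact.out : r.Prime).prime.dvd_finsetProd_iff _).1 h3
  have := l.isLt
  refine ⟨fun hd => ?_, d - l, by omega, by omega, (dvd_pow_sub_one_iff h1.le _).1 hl⟩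
  have h4 : 1 ≤ q ^ (2 * (d - l)) := Nat.one_le_pow _ _ (by omega)
  have h5 := Nat.dvd_sub (hd.trans (dvd_pow_self q (show 2 * (d - l) ≠ 0 by omega))) hl
  rw [show q ^ (2 * (d - (l : ℕ))) - (q ^ (2 * (d - l)) - 1) = 1 by omega] at h5
  exact (Fact.out : r.Prime).not_dvd_one h5

/-- The standard symplectic form. -/
noncomputable def spForm (F : Type u) [Field F] (d : ℕ) : RForm F (Fin d ⊕ Fin d → F) where
  σ := RingHom.id F
  ε := -1
  B := Symplectic.spB d F
  invol _ := rfl
  flip u v := by rw [RingHom.id_apply, neg_one_mul]; exact Symplectic.alt_swap (Symplectic.spB_alt d F) v u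
  nondeg v h := (Symplectic.spB_nondeg d F).1 v h

theorem spForm_alt (x : Fin d ⊕ Fin d → F) : (spForm F d).B x x = 0 :=
  Symplectic.alt_self (Symplectic.spB_alt d F) x

theorem spForm_apply (u v : Fin d ⊕ Fin d → F) : (spForm F d).B u v = Cfsg.sympForm d F u v :=
  Symplectic.spB_apply u v

theorem spForm_smul (a b : F) (u v : Fin d ⊕ Fin d → F) :
    (spForm F d).B (a • u) (b • v) = a * b * (spForm F d).B u v := by
  show Symplectic.spB d F (a • u) (b • v) = a * b * Symplectic.spB d F u v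
  simp only [map_smul, LinearMap.smul_apply, smul_eq_mul]
  ring

theorem iso_of_mem (x : ↥(Matrix.symplecticGroup (Fin d) F)) :
    (spForm F d).Iso (Matrix.toLin' (x : Matrix (Fin d ⊕ Fin d) (Fin d ⊕ Fin d) F)) := fun u v => by
  rw [spForm_apply, spForm_apply, Matrix.toLin'_apply, Matrix.toLin'_apply]
  exact (Symplectic.mem_symplectic_iff_form _).1 x.2 u v

/-- A scalar `r`-th power of a symplectic matrix is a sign. -/
theorem scalar_sq (hd : 1 ≤ d) (x : ↥(Matrix.symplecticGroup (Fin d) F)) (r : ℕ) {z : F}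
    (hz : ((x ^ r : ↥(Matrix.symplecticGroup (Fin d) F)) : Matrix (Fin d ⊕ Fin d) (Fin d ⊕ Fin d) F) =
      z • (1 : Matrix (Fin d ⊕ Fin d) (Fin d ⊕ Fin d) F)) :
    z * z = 1 ∧
      Matrix.toLin' (x : Matrix (Fin d ⊕ Fin d) (Fin d ⊕ Fin d) F) ^ r = z • (1 : End F _) := by
  have h0 : Matrix.toLin' (x : Matrix (Fin d ⊕ Fin d) (Fin d ⊕ Fin d) F) ^ r = z • (1 : End F _) := by
    rw [← Matrix.toLin'_pow, ← SubmonoidClass.coe_pow, hz, map_smul, Matrix.toLin'_one]
    rfl
  refine ⟨?_, h0⟩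
  haveI : Nonempty (Fin d ⊕ Fin d) := ⟨Sum.inl ⟨0, hd⟩⟩
  obtain ⟨v, hv⟩ := exists_ne (0 : Fin d ⊕ Fin d → F)
  obtain ⟨w, hw⟩ : ∃ w, (spForm F d).B v w ≠ 0 := by
    by_contra h
    push Not at h
    exact hv ((spForm F d).nondeg v h)
  have h1 := (iso_of_mem x).pow r v w
  rw [h0] at h1
  have h2 : z * z * (spForm F d).B v w = 1 * (spForm F d).B v w := by
    rw [one_mul]
    conv_rhs => rw [← h1]
    show _ = (spForm F d).B (z • v) (z • w)
    rw [spForm_smul]
  exact mul_right_cancel₀ hw h2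

/-- A model isometry without invariant totally isotropic `m`-spaces gives an elusive matrix. -/
theorem not_all_of_model (hr : Odd r) (hd : 1 ≤ d) {V : Type u} [AddCommGroup V] [Module F V]
    [FiniteDimensional F V] (φ : RForm F V) (hσ : φ.σ = RingHom.id F) (halt : ∀ x, φ.B x x = 0)
    (hdim : finrank F V = 2 * d) {T : End F V} (hT : φ.Iso T) (hTr : T ^ r = 1) (hT1 : T ≠ 1)
    (hno : ∀ U : Submodule F V, Inv T U → φ.TI U → finrank F U ≠ m) :
    ¬ ∀ x : ↥(Matrix.symplecticGroup (Fin d) F),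
      (∃ z : F, ((x ^ r : ↥(Matrix.symplecticGroup (Fin d) F)) : Matrix (Fin d ⊕ Fin d) (Fin d ⊕ Fin d) F) = z • (1 : Matrix (Fin d ⊕ Fin d) (Fin d ⊕ Fin d) F)) →
      (∀ z : F, (x : Matrix (Fin d ⊕ Fin d) (Fin d ⊕ Fin d) F) ≠ z • (1 : Matrix (Fin d ⊕ Fin d) (Fin d ⊕ Fin d) F)) →
      ∃ W : Submodule F (Fin d ⊕ Fin d → F), finrank F ↥W = m ∧ (∀ u ∈ W, ∀ v ∈ W, Cfsg.sympForm d F u v = 0) ∧
        W.map (Matrix.toLin' (x : Matrix (Fin d ⊕ Fin d) (Fin d ⊕ Fin d) F)) ≤ W := by
  intro hall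
  obtain ⟨x, e, he, hx⟩ := exists_symplectic φ hσ halt hdim hT
  have hpow : ∀ k v, (Matrix.toLin' (x : Matrix (Fin d ⊕ Fin d) (Fin d ⊕ Fin d) F) ^ k) (e v) =
      e ((T ^ k) v) := by
    intro k
    induction k with
    | zero => exact fun v => rfl
    | succ k ih => intro v; rw [pow_succ, pow_succ, Module.End.mul_apply, Module.End.mul_apply, hx, ih]
  have hxr : ((x ^ r : ↥(Matrix.symplecticGroup (Fin d) F)) : Matrix (Fin d ⊕ Fin d) (Fin d ⊕ Fin d) F) =
      (1 : F) • (1 : Matrix (Fin d ⊕ Fin d) (Fin d ⊕ Fin d) F) := by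
    rw [one_smul, SubmonoidClass.coe_pow]
    refine Matrix.toLin'.injective (LinearMap.ext fun w => ?_)
    obtain ⟨v, rfl⟩ := e.surjective w
    rw [Matrix.toLin'_pow, hpow, hTr, Matrix.toLin'_one]
    rfl
  obtain ⟨W, hWm, hWt, hWi⟩ := hall x ⟨1, hxr⟩ fun z hz => by
    apply hT1
    obtain ⟨hz2, -⟩ := scalar_sq hd x 1 (z := z) (by rw [pow_one]; exact hz)
    have hTz : ∀ v, T v = z • v := fun v => e.injective (by
      rw [← hx, hz, map_smul, Matrix.toLin'_one, LinearMap.smul_apply, LinearMap.id_apply, map_smul])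
    have hTzk : ∀ k v, (T ^ k) v = z ^ k • v := by
      intro k
      induction k with
      | zero => simp
      | succ k ih => intro v; rw [pow_succ, Module.End.mul_apply, hTz, map_smul, ih, smul_smul, pow_succ']
    obtain ⟨k, hk⟩ := hr
    haveI : Nontrivial V := Module.nontrivial_of_finrank_pos (R := F) (by omega)
    obtain ⟨v, hv⟩ := exists_ne (0 : V)
    have h3 := hTzk r v
    rw [hTr, hk, pow_succ, pow_mul, pow_two, hz2, one_pow, one_mul, Module.End.one_apply] at h3
    have hz1 : z = 1 := smul_left_injective F hv (by simpa using h3.symm)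
    exact LinearMap.ext fun w => by rw [hTz, hz1, one_smul, Module.End.one_apply]
  refine hno (W.map e.symm.toLinearMap) ?_ ?_ ?_
  · rintro _ ⟨_, ⟨w, hw, rfl⟩, rfl⟩
    refine ⟨_, hWi ⟨w, hw, rfl⟩, ?_⟩
    apply e.injective
    rw [LinearEquiv.coe_coe, e.apply_symm_apply, ← hx, e.apply_symm_apply]
  · rintro _ ⟨w, hw, rfl⟩ _ ⟨v, hv, rfl⟩
    rw [LinearEquiv.coe_coe, ← he, e.apply_symm_apply, e.apply_symm_apply]
    exact hWt v hv w hw
  · rw [← hWm]
    exact LinearEquiv.finrank_map_eq e.symm W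

/-- Shrinking a totally isotropic subspace on which the map is scalar. -/
theorem exists_sub {V : Type u} [AddCommGroup V] [Module F V] [FiniteDimensional F V]
    (W : Submodule F V) {a : ℕ} (ha : a ≤ finrank F W) : ∃ U ≤ W, finrank F U = a := by
  obtain ⟨U, h1, -, h3⟩ := exists_inv_finrank (T := (1 : End F V)) (d := 1)
    (uniform_X_sub_one (F := F)) (A := W) (inv_one W) (by simp) a (by simpa using ha)
  exact ⟨U, h1, by simpa using h3⟩

/-- Involutions and their relatives. -/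
theorem symp_two (hq : Fintype.card F = q) (hp2 : p ≠ 2) (hmd : m ≤ d)
    (hok : Even m ∨ q % 4 = 1) {T : End F (Fin d ⊕ Fin d → F)} (hT : (spForm F d).Iso T) {z : F}
    (hz : z * z = 1) (hT2 : T ^ 2 = z • (1 : End F (Fin d ⊕ Fin d → F))) :
    ∃ W : Submodule F (Fin d ⊕ Fin d → F), finrank F W = m ∧ (spForm F d).TI W ∧ Inv T W := by
  haveI : Fact (Nat.Prime 2) := ⟨Nat.prime_two⟩
  have h2 : ((2 : ℕ) : F) ≠ 0 := cast_ne_zero (F := F) (Ne.symm hp2)
  push_cast at h2
  have hV : finrank F (Fin d ⊕ Fin d → F) = 2 * d := by simp [two_mul]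
  rcases mul_self_eq_one_iff.1 hz with rfl | rfl
  · rw [one_smul] at hT2
    obtain ⟨hA, hB⟩ := nd_fixSpace (r := 2) (Ne.symm hp2) hT hT2
    obtain ⟨W1, hW1, ht1, hd1⟩ := exists_ti_alt (spForm_alt (F := F)) hA
    obtain ⟨W2, hW2, ht2, hd2⟩ := exists_ti_alt (spForm_alt (F := F)) hB
    have hneg : ∀ v ∈ moveSpace 2 T, T v = -v := fun v hv => by
      rw [moveSpace, LinearMap.mem_ker, cyclotomic_two, map_add, aeval_X, map_one,
        LinearMap.add_apply, Module.End.one_apply] at hv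
      exact eq_neg_of_add_eq_zero_left hv
    have hsum := split_finrank (r := 2) (Ne.symm hp2) hT2 (inv_top T)
    rw [top_inf_eq, top_inf_eq, finrank_top, hV] at hsum
    obtain ⟨U1, hU1, hUd1⟩ := exists_sub W1 (a := min m (finrank F W1)) (min_le_right _ _)
    obtain ⟨U2, hU2, hUd2⟩ := exists_sub W2 (a := m - min m (finrank F W1)) (by omega)
    refine ⟨U1 ⊔ U2, ?_, ?_, ?_⟩
    · rw [finrank_sup_eq (disjoint_spaces (Ne.symm hp2) T) (hU1.trans hW1) (hU2.trans hW2), hUd1, hUd2]
      omega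
    · exact (ht1.mono hU1).sup (ht2.mono hU2) (RForm.le_perp_iff.1 ((hU2.trans hW2).trans
        ((move_le_perp_fix (Ne.symm hp2) hT).trans (RForm.perp_anti (hU1.trans hW1)))))
    · refine Inv.sup ?_ ?_
      · rintro _ ⟨v, hv, rfl⟩
        rw [mem_fixSpace.1 (hW1 (hU1 hv))]
        exact hv
      · rintro _ ⟨v, hv, rfl⟩
        rw [hneg v (hW2 (hU2 hv))]
        exact U2.neg_mem hv
  · have hcard4 : IsSquare (-1 : F) ↔ q % 4 ≠ 3 := hq ▸ FiniteField.isSquare_neg_one_iff
    have hodd : q % 2 = 1 := by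
      obtain ⟨k, hp', hk⟩ := FiniteField.card F p
      rw [← hq, hk]
      exact Nat.odd_iff.1 ((hp'.odd_of_ne_two hp2).pow)
    rcases em (q % 4 = 1) with h4 | h4
    · obtain ⟨ι, hι⟩ := hcard4.2 (by omega)
      have hι0 : ι ≠ 0 := fun h => by rw [h, mul_zero] at hι; exact one_ne_zero (neg_eq_zero.1 hι)
      have hTT : ∀ v, T (T v) = -v := fun v => by
        rw [← Module.End.mul_apply, ← pow_two, hT2]
        simp
      have hti : ∀ c : F, c * c = -1 →
          (spForm F d).TI (LinearMap.ker (aeval T (X - Polynomial.C c))) := fun c hc v hv u hu => by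
        simp only [LinearMap.mem_ker, map_sub, aeval_X, aeval_C, LinearMap.sub_apply,
          Module.algebraMap_end_apply, sub_eq_zero] at hv hu
        have h1 := hT u v
        rw [hu, hv, spForm_smul, hc, neg_one_mul] at h1
        have h3 : (2 : F) * (spForm F d).B u v = 0 := by linear_combination -h1
        exact (mul_eq_zero.1 h3).resolve_left h2
      have hne : ι - -ι ≠ 0 := by
        rw [sub_neg_eq_add, ← two_mul]
        exact mul_ne_zero h2 hι0
      have hcop : IsCoprime (X - Polynomial.C ι) (X - Polynomial.C (-ι)) :=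
        isCoprime_X_sub_C_of_isUnit_sub hne.isUnit
      have hsum := split_coprime hcop (T := T) (by
        rw [show (X - Polynomial.C ι) * (X - Polynomial.C (-ι)) = X ^ 2 - Polynomial.C (ι * ι) by
          rw [map_neg, map_mul]; ring, map_sub, map_pow, aeval_X, aeval_C, hT2, ← hι,
          Algebra.algebraMap_eq_smul_one, sub_self]) (inv_top T)
      rw [top_inf_eq, top_inf_eq, finrank_top, hV] at hsum
      have hb1 := (hti ι hι.symm).two_mul_le RForm.nd_top le_top
      have hb2 := (hti (-ι) (by rw [neg_mul_neg, ← hι])).two_mul_le RForm.nd_top le_top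
      rw [finrank_top, hV] at hb1 hb2
      obtain ⟨U, hU, hUd⟩ := exists_sub (LinearMap.ker (aeval T (X - Polynomial.C ι))) (a := m) (by omega)
      refine ⟨U, hUd, (hti ι hι.symm).mono hU, ?_⟩
      rintro _ ⟨v, hv, rfl⟩
      have := hU hv
      simp only [LinearMap.mem_ker, map_sub, aeval_X, aeval_C, LinearMap.sub_apply,
        Module.algebraMap_end_apply, sub_eq_zero] at this
      rw [this]
      exact U.smul_mem ι hv
    · have hns : ¬ IsSquare (-1 : F) := fun h => hcard4.1 h (by omega)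
      have hirr : Irreducible (X ^ 2 - Polynomial.C (-1 : F)) :=
        X_pow_sub_C_irreducible_of_prime Nat.prime_two fun b hb => hns ⟨b, by rw [← hb, pow_two]⟩
      have hkill : aeval T (X ^ 2 - Polynomial.C (-1 : F)) = 0 := by
        rw [map_sub, map_pow, aeval_X, aeval_C, hT2, Algebra.algebraMap_eq_smul_one, sub_self]
      have hdeg : (X ^ 2 - Polynomial.C (-1 : F)).natDegree = 2 := natDegree_X_pow_sub_C
      obtain ⟨W, C, -, hWi, hWt, -, hCi, hC, -, hdim, hno⟩ :=
        exists_maxTI hT hirr.squarefree hkill (inv_top T) RForm.nd_top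
      obtain ⟨k, -, hk⟩ := FiniteField.card F p
      have hTs : T ^ (q + 1) = 1 := by
        obtain ⟨l, hl⟩ : 4 ∣ q + 1 := by omega
        rw [hl, show 4 * l = 2 * (2 * l) by ring, pow_mul, hT2, _root_.smul_pow, one_pow, pow_mul]
        simp
      have hb := finrank_le_natDegree hT ⟨k, by rw [← hq, hk]⟩
        (fun c => show (RingHom.id F) c = _ by rw [← hq, FiniteField.pow_card]; rfl) hTs hirr
        (by rw [hdeg, pow_two, hq]) hCi hC (fun v _ => by rw [hkill, LinearMap.zero_apply]) hno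
      have hu : Uniform (X ^ 2 - Polynomial.C (-1 : F)) 2 := by
        have := uniform_of_irreducible hirr
        rwa [hdeg] at this
      obtain ⟨w, hw⟩ := dvd_finrank hu hWi (fun v _ => by rw [hkill, LinearMap.zero_apply])
      obtain ⟨c, hc⟩ := dvd_finrank hu hCi (fun v _ => by rw [hkill, LinearMap.zero_apply])
      rw [finrank_top, hV] at hdim
      rw [hdeg] at hb
      obtain ⟨m', rfl⟩ := hok.resolve_right h4
      obtain ⟨U, hU, hUi, hUd⟩ := exists_inv_finrank hu hWi
        (fun v _ => by rw [hkill, LinearMap.zero_apply]) m' (by omega)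
      exact ⟨U, by rw [hUd]; omega, hWt.mono hU, hUi⟩

/-- Elements of odd prime order. -/
theorem symp_odd (hq : Fintype.card F = q) (hrp : r ≠ p) (hr2 : 2 < r) (hmd : m ≤ d) (c : ℕ)
    (hc : c = if Even (orderOf (q : ZMod r)) then orderOf (q : ZMod r) else 2 * orderOf (q : ZMod r))
    (hl : 2 * (m % orderOf (q : ZMod r)) ≤ (2 * d) % c)
    (hcond : Odd (orderOf (q : ZMod r)) ∨
      (r - 1) / orderOf (q : ZMod r) + 2 * (m / orderOf (q : ZMod r)) ≤ (2 * d) / orderOf (q : ZMod r))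
    {T : End F (Fin d ⊕ Fin d → F)} (hT : (spForm F d).Iso T) (hTr : T ^ r = 1) :
    ∃ W : Submodule F (Fin d ⊕ Fin d → F), finrank F W = m ∧ (spForm F d).TI W ∧ Inv T W := by
  have hi0 := orderOf_pos_of_ne (r := r) hq hrp
  have hne : (q : ZMod r) ≠ 0 := fun h =>
    not_dvd_q (F := F) hq hrp ((ZMod.natCast_eq_zero_iff q r).1 h)
  obtain ⟨t, ht⟩ := ZMod.orderOf_dvd_card_sub_one hne
  have hU := uniform_cyclotomic (r := r) hq hrp
  obtain ⟨K, hK1, hK2⟩ := dims_total (r := r) hq hrp hTr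
  obtain ⟨Wf, hWf, hft, hfd⟩ := exists_ti_alt (spForm_alt (F := F)) (nd_fixSpace hrp hT hTr).1
  rw [show finrank F (Fin d ⊕ Fin d → F) = 2 * d by simp [two_mul]] at hK1
  obtain ⟨i, hi⟩ : ∃ i, i = orderOf (q : ZMod r) := ⟨_, rfl⟩
  rw [← hi] at hi0 hc hl hcond hU hK1 hK2 ht
  rw [ht, Nat.mul_div_cancel_left _ hi0] at hcond
  have hdm := Nat.div_add_mod (2 * d) i
  have hdm' := Nat.div_add_mod m i
  rcases Nat.even_or_odd i with hev | hodd
  · rw [if_pos hev] at hc
    subst c
    have hhalf := exists_half (r := r) hq hrp (hi ▸ hev)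
    obtain ⟨h, hh⟩ := hev
    obtain ⟨k, -, hk⟩ := FiniteField.card F p
    obtain ⟨Wm, hWm, hmi, hmt, hmd'⟩ := exists_ti_move_self hrp hT hTr (s := q ^ (i / 2))
      ⟨(k : ℕ) * (i / 2), by rw [← hq, hk, pow_mul]⟩
      (fun c => by rw [← hq, FiniteField.pow_card_pow]; rfl) (hi ▸ hhalf) (fun g hg hgd => by
        rw [hU.2 g hg hgd, hq, ← pow_add]
        congr 1
        omega)
    rw [hK2, ht] at hmd'
    obtain ⟨w, hw⟩ : i ∣ finrank F Wm :=
      dvd_finrank hU hmi (fun v hv => LinearMap.mem_ker.1 (hWm hv))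
    rw [hw] at hmd'
    have hKt : K ≤ 2 * w + t := by
      by_contra hlt
      push Not at hlt
      have h1 := Nat.mul_le_mul_left i hlt
      have e1 : i * (2 * w + t).succ = 2 * (i * w) + i * t + i := by
        rw [Nat.succ_eq_add_one]; ring
      rw [mul_comm K i] at hmd'
      omega
    have hcond' : t + 2 * (m / i) ≤ 2 * d / i :=
      hcond.resolve_left fun ho => by obtain ⟨l, hl'⟩ := ho; omega
    have hfk : (2 * d) % i ≤ finrank F ↥(fixSpace T) := by
      rw [hK1, mul_comm K i, Nat.add_mul_mod_self_left]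
      exact Nat.mod_le _ _
    have hwm : finrank F Wm = w * i := by rw [hw, mul_comm]
    rcases Nat.lt_or_ge w (m / i) with hlt | hge
    · have h1 : i * K ≤ i * (2 * w + t) := Nat.mul_le_mul_left i hKt
      have h2 : i * (t + 2 * (m / i)) ≤ i * (2 * d / i) := Nat.mul_le_mul_left i hcond'
      have e1 : i * (2 * w + t) = 2 * (i * w) + i * t := by ring
      have e2 : i * (t + 2 * (m / i)) = i * t + 2 * (i * (m / i)) := by ring
      have h3 : i * w ≤ i * (m / i) := Nat.mul_le_mul_left i hlt.le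
      rw [mul_comm K i] at hK1
      obtain ⟨W, hWd, hWt, hWi⟩ := exists_ti_space hrp hT hU hWf hft hWm hmi hmt (b := w)
        (a := m - i * w) (by omega) (le_of_eq hwm.symm)
      exact ⟨W, by rw [hWd, mul_comm w i]; omega, hWt, hWi⟩
    · obtain ⟨W, hWd, hWt, hWi⟩ := exists_ti_space hrp hT hU hWf hft hWm hmi hmt (b := m / i)
        (a := m % i) (by omega) (by rw [hwm]; exact Nat.mul_le_mul_right i hge)
      exact ⟨W, by rw [hWd, mul_comm (m / i) i]; omega, hWt, hWi⟩
  · rw [if_neg (Nat.not_even_iff_odd.2 hodd)] at hc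
    subst c
    have hcop : ∀ g : F[X], Irreducible g → g ∣ cyclotomic r F →
        IsCoprime g ((g.map (spForm F d).σ).comp (X ^ (r - 1))) := fun g hg hgd =>
      coprime_twist hrp (spForm F d).σ (q₀ := 1) ⟨0, rfl⟩ (fun c => (pow_one c).symm) (fun l hl' => by
        rw [one_mul, hq, ← ZMod.natCast_eq_zero_iff, Nat.cast_add, Nat.cast_one, Nat.cast_pow,
          add_eq_zero_iff_eq_neg] at hl'
        have h1 := congrArg (fun a : ZMod r => a ^ i) hl'
        simp only [← pow_mul, mul_comm l i] at h1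
        rw [pow_mul, hi, pow_orderOf_eq_one, one_pow, ← hi, hodd.neg_one_pow] at h1
        have h3 : ((2 : ℕ) : ZMod r) = 0 := by push_cast; linear_combination h1
        rw [ZMod.natCast_eq_zero_iff] at h3
        have := Nat.le_of_dvd two_pos h3
        omega) hg hgd
    obtain ⟨Wm, hWm, hmi, hmt, hmd'⟩ := exists_ti_move hrp hT hTr hcop
    rw [hK2] at hmd'
    obtain ⟨w, hw⟩ : i ∣ finrank F Wm :=
      dvd_finrank hU hmi (fun v hv => LinearMap.mem_ker.1 (hWm hv))
    have hfk : (2 * d) % (2 * i) ≤ finrank F ↥(fixSpace T) := by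
      rw [hK1, ← hmd', hw, ← mul_assoc, Nat.add_mul_mod_self_left]
      exact Nat.mod_le _ _
    have hwm : finrank F Wm = w * i := by rw [hw, mul_comm]
    rcases Nat.lt_or_ge w (m / i) with hlt | hge
    · have h3 : i * w ≤ i * (m / i) := Nat.mul_le_mul_left i hlt.le
      obtain ⟨W, hWd, hWt, hWi⟩ := exists_ti_space hrp hT hU hWf hft hWm hmi hmt (b := w)
        (a := m - i * w) (by omega) (le_of_eq hwm.symm)
      exact ⟨W, by rw [hWd, mul_comm w i]; omega, hWt, hWi⟩
    · obtain ⟨W, hWd, hWt, hWi⟩ := exists_ti_space hrp hT hU hWf hft hWm hmi hmt (b := m / i)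
        (a := m % i) (by omega) (by rw [hwm]; exact Nat.mul_le_mul_right i hge)
      exact ⟨W, by rw [hWd, mul_comm (m / i) i]; omega, hWt, hWi⟩

/-- The criterion. -/
theorem symp_iff (hq : Fintype.card F = q) (hm : 1 ≤ m) (hmd : m ≤ d)
    (hrΩ : r ∣ Nat.card {W : Submodule F (Fin d ⊕ Fin d → F) // finrank F ↥W = m ∧
      (∀ u ∈ W, ∀ v ∈ W, Cfsg.sympForm d F u v = 0)})
    (i c : ℕ) (hi : i = orderOf (q : ZMod r)) (hc : c = if Even i then i else 2 * i) :
    (∀ x : ↥(Matrix.symplecticGroup (Fin d) F),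
      (∃ z : F, ((x ^ r : ↥(Matrix.symplecticGroup (Fin d) F)) : Matrix (Fin d ⊕ Fin d) (Fin d ⊕ Fin d) F) = z • (1 : Matrix (Fin d ⊕ Fin d) (Fin d ⊕ Fin d) F)) →
      (∀ z : F, (x : Matrix (Fin d ⊕ Fin d) (Fin d ⊕ Fin d) F) ≠ z • (1 : Matrix (Fin d ⊕ Fin d) (Fin d ⊕ Fin d) F)) →
      ∃ W : Submodule F (Fin d ⊕ Fin d → F), finrank F ↥W = m ∧ (∀ u ∈ W, ∀ v ∈ W, Cfsg.sympForm d F u v = 0) ∧
        W.map (Matrix.toLin' (x : Matrix (Fin d ⊕ Fin d) (Fin d ⊕ Fin d) F)) ≤ W) ↔
    ((r = 2 ∧ p ≠ 2 ∧ (Even m ∨ q % 4 = 1)) ∨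
     (r ≠ p ∧ 2 < r ∧ i ≤ m ∧ 2 * (m % i) ≤ (2 * d) % c ∧
       (Odd i ∨ (r - 1) / i + 2 * (m / i) ≤ (2 * d) / i))) := by
  obtain ⟨hrq, s, hs1, hs2, hs3⟩ := symp_count hq hmd hrΩ
  have hrp : r ≠ p := fun h => hrq (h ▸ char_dvd (F := F) hq)
  have hi0 : 0 < i := hi ▸ orderOf_pos_of_ne (r := r) hq hrp
  rw [← hi] at hs3
  have hcs : c ∣ 2 * s := by
    rcases Nat.even_or_odd i with h | h
    · rwa [hc, if_pos h]
    · rw [hc, if_neg (Nat.not_even_iff_odd.2 h)]
      exact (Nat.coprime_two_left.2 h).mul_dvd_of_dvd_of_dvd (dvd_mul_right 2 s) hs3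
  have hcn : c ≤ 2 * d := (Nat.le_of_dvd (by omega) hcs).trans (by omega)
  have hsmall : ¬ 2 * m ≤ (2 * d) % c := fun h => no_multiple h (by omega) (by omega) hcs
  have hwit : ∀ (x : ↥(Matrix.symplecticGroup (Fin d) F)) (W : Submodule F (Fin d ⊕ Fin d → F)),
      finrank F W = m → (spForm F d).TI W → Inv (Matrix.toLin' (x : Matrix (Fin d ⊕ Fin d) (Fin d ⊕ Fin d) F)) W →
      ∃ W : Submodule F (Fin d ⊕ Fin d → F), finrank F ↥W = m ∧ (∀ u ∈ W, ∀ v ∈ W, Cfsg.sympForm d F u v = 0) ∧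
        W.map (Matrix.toLin' (x : Matrix (Fin d ⊕ Fin d) (Fin d ⊕ Fin d) F)) ≤ W := fun x W h1 h2 h3 =>
    ⟨W, h1, fun u hu v hv => by rw [← spForm_apply]; exact h2 hv u hu, h3⟩
  rcases eq_or_ne r 2 with hr2 | hr2
  · subst hr2
    constructor
    · intro hall
      refine Or.inl ⟨rfl, fun h => hrp h.symm, ?_⟩
      by_contra hno
      push Not at hno
      haveI : Nonempty (Fin d ⊕ Fin d) := ⟨Sum.inl ⟨0, by omega⟩⟩
      let x : ↥(Matrix.symplecticGroup (Fin d) F) :=
        ⟨Matrix.J (Fin d) F, (SymplecticGroup.J_mem (Fin d) F)⟩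
      have hsq : ((x ^ 2 : ↥(Matrix.symplecticGroup (Fin d) F)) : Matrix (Fin d ⊕ Fin d) (Fin d ⊕ Fin d) F) =
          (-1 : F) • (1 : Matrix (Fin d ⊕ Fin d) (Fin d ⊕ Fin d) F) := by
        rw [SubmonoidClass.coe_pow, pow_two, Matrix.J_squared, neg_one_smul]
      obtain ⟨W, hWm, -, hWi⟩ := hall x ⟨-1, hsq⟩ fun z hz => by
        have := congrFun (congrFun hz (Sum.inl ⟨0, by omega⟩)) (Sum.inr ⟨0, by omega⟩)
        simp [x, Matrix.J] at this
      have hodd : q % 2 = 1 := by
        obtain ⟨k, hp', hk⟩ := FiniteField.card F p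
        rw [← hq, hk]
        exact Nat.odd_iff.1 ((hp'.odd_of_ne_two (fun h => hrp h.symm)).pow)
      have hns : ¬ IsSquare (-1 : F) := fun h => by
        have h3 : q % 4 ≠ 3 := hq ▸ FiniteField.isSquare_neg_one_iff.1 h
        omega
      have hirr : Irreducible (X ^ 2 - Polynomial.C (-1 : F)) :=
        X_pow_sub_C_irreducible_of_prime Nat.prime_two fun b hb => hns ⟨b, by rw [← hb, pow_two]⟩
      have hkill : aeval (Matrix.toLin' (x : Matrix (Fin d ⊕ Fin d) (Fin d ⊕ Fin d) F)) (X ^ 2 - Polynomial.C (-1 : F)) = 0 := by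
        rw [map_sub, map_pow, aeval_X, aeval_C, Algebra.algebraMap_eq_smul_one,
          (scalar_sq (by omega) x 2 hsq).2, sub_self]
      have hu := uniform_of_irreducible hirr
      rw [natDegree_X_pow_sub_C] at hu
      have := dvd_finrank hu (A := W) hWi (fun v _ => by rw [hkill, LinearMap.zero_apply])
      rw [hWm] at this
      exact hno.1 (even_iff_two_dvd.2 this)
    · rintro (⟨-, hp2, hok⟩ | ⟨-, h, -⟩)
      · rintro x ⟨z, hz⟩ -
        obtain ⟨hz2, hT2⟩ := scalar_sq (by omega) x 2 hz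
        obtain ⟨W, h1, h2, h3⟩ := symp_two hq hp2 hmd hok (iso_of_mem x) hz2 hT2
        exact hwit x W h1 h2 h3
      · omega
  have hr : 2 < r := by have := (Fact.out : r.Prime).two_le; omega
  have hrodd : Odd r := (Fact.out : r.Prime).odd_of_ne_two hr2
  have him : 2 * (m % i) ≤ (2 * d) % c → i ≤ m := fun h => by
    by_contra hlt
    rw [Nat.mod_eq_of_lt (by omega)] at h
    exact hsmall h
  constructor
  · intro hall
    refine Or.inr ⟨hrp, hr, ?_⟩
    by_contra hno
    have hdm := Nat.div_add_mod (2 * d) c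
    have hc0 : 0 < c := by rw [hc]; split <;> omega
    have hceven : c % 2 = 0 := by
      rw [hc]; split
      · rename_i h; exact Nat.even_iff.1 h
      · omega
    obtain ⟨D, hD⟩ : 2 ∣ (2 * d) % c := (Nat.dvd_mod_iff (Nat.dvd_of_mod_eq_zero hceven)).2 (dvd_mul_right 2 d)
    have hn1 : 1 ≤ (2 * d) / c := Nat.div_pos hcn hc0
    by_cases hl : 2 * (m % i) ≤ (2 * d) % c
    swap
    · -- the fixed space is too small
      have hbound : ∀ (V : Type u) [AddCommGroup V] [Module F V] [FiniteDimensional F V]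
          (φ : RForm F V) (T : End F V), φ.Iso T → T ^ r = 1 →
          finrank F ↥(fixSpace T) = 2 * D → ∀ U : Submodule F V, Inv T U → φ.TI U → finrank F U ≠ m := by
        intro V _ _ _ φ T hT hTr hfix U hUi hUt hUm
        obtain ⟨a, b, hab, ha, -⟩ := ti_parts hq hrp hT hTr hUi hUt
        rw [← hi, hUm] at hab
        have : m % i = a % i := by rw [hab, Nat.add_mul_mod_self_right]
        have := Nat.mod_le a i
        omega
      have hnt : ∀ (V : Type u) [AddCommGroup V] [Module F V] [FiniteDimensional F V] (T : End F V),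
          finrank F V ≠ finrank F ↥(fixSpace T) → T ≠ 1 := by
        intro V _ _ _ T h h1
        apply h
        rw [show fixSpace T = ⊤ from eq_top_iff.2 fun v _ => mem_fixSpace.2 (by rw [h1]; rfl), finrank_top]
      rcases Nat.even_or_odd i with hev | hodd
      · rw [if_pos hev] at hc
        obtain ⟨V, _, _, _, φ, T, hσ, halt, hT, hTr, hdim, hfix, -⟩ :=
          exists_self_model (r := r) hq hrp hr (hi ▸ hev) D ((2 * d) / c) 0 hn1
            (by
              have hne : (q : ZMod r) ≠ 0 := fun h => hrq ((ZMod.natCast_eq_zero_iff q r).1 h)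
              exact Nat.div_pos (Nat.le_of_dvd (by omega) (ZMod.orderOf_dvd_card_sub_one hne))
                (hi ▸ hi0))
        rw [← hi, ← hc, add_zero, mul_comm (2 * d / c)] at hdim
        exact not_all_of_model hrodd (by omega) φ hσ halt (by omega) hT hTr
          (hnt V T (by
            have := Nat.mul_le_mul_left c hn1
            omega)) (hbound V φ T hT hTr hfix) hall
      · rw [if_neg (Nat.not_even_iff_odd.2 hodd)] at hc
        obtain ⟨V, _, _, _, φ, T, hσ, halt, hT, hTr, hdim, hfix⟩ :=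
          exists_pair_model (r := r) hq hrp D ((2 * d) / c)
        rw [← hi, mul_right_comm, ← hc] at hdim
        exact not_all_of_model hrodd (by omega) φ hσ halt (by omega) hT hTr
          (hnt V T (by
            have := Nat.mul_le_mul_left c hn1
            omega)) (hbound V φ T hT hTr hfix) hall
    · have him' := him hl
      have hcond : ¬ (Odd i ∨ (r - 1) / i + 2 * (m / i) ≤ (2 * d) / i) := fun h => hno ⟨him', hl, h⟩
      push Not at hcond
      obtain ⟨hnodd, hlt⟩ := hcond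
      have hev : Even i := by rwa [Nat.not_odd_iff_even] at hnodd
      rw [if_pos hev] at hc
      subst c
      have hm' : 1 ≤ m / i := Nat.div_pos him' hi0
      have hn2 : 2 ≤ 2 * d / i := by
        rw [Nat.le_div_iff_mul_le hi0]
        omega
      have hkl := Nat.mod_lt (2 * d) hi0
      obtain ⟨t, hteq⟩ : ∃ t, t = (r - 1) / i := ⟨_, rfl⟩
      have ht1 : 1 ≤ t := by
        have hne : (q : ZMod r) ≠ 0 := fun h => hrq ((ZMod.natCast_eq_zero_iff q r).1 h)
        rw [hteq]
        exact Nat.div_pos (Nat.le_of_dvd (by omega) (hi ▸ ZMod.orderOf_dvd_card_sub_one hne)) hi0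
      rw [← hteq] at hlt
      obtain ⟨h, hh⟩ := hev
      obtain ⟨f, e, se, he, hse, hodd, hsum, hf, hbig⟩ : ∃ f e se, 1 ≤ e ∧ se + 1 ≤ t ∧ e % 2 = 1 ∧
          2 * f + (e + se) * i = 2 * d ∧ f < i ∧ e < 2 * (m / i) := by
        rw [mul_comm] at hdm
        rcases Nat.lt_or_ge (2 * d / i) t with h1 | h1
        · refine ⟨D, 1, 2 * d / i - 1, le_rfl, by omega, rfl, ?_, by omega, by omega⟩
          rw [show 1 + (2 * d / i - 1) = 2 * d / i by omega]
          omega
        rcases Nat.even_or_odd (2 * d / i - t) with h2 | h2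
        · obtain ⟨w, hw⟩ := h2
          refine ⟨D, w + w + 1, t - 1, by omega, by omega, by omega, ?_, by omega, by omega⟩
          rw [show w + w + 1 + (t - 1) = 2 * d / i by omega]
          omega
        · obtain ⟨w, hw⟩ := h2
          refine ⟨D + h, 2 * w + 1, t - 1, by omega, by omega, by omega, ?_, by omega, by omega⟩
          rw [show 2 * w + 1 + (t - 1) = 2 * d / i - 1 by omega, Nat.sub_mul, one_mul]
          have := Nat.mul_le_mul_right i (show 1 ≤ 2 * d / i by omega)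
          omega
      obtain ⟨V, _, _, _, φ, T, hσ, halt, hT, hTr, hdim, hfix, hb⟩ :=
        exists_self_model (r := r) hq hrp hr (hi ▸ ⟨h, hh⟩) f e se he (by rw [← hi]; omega)
      rw [← hi] at hdim
      refine not_all_of_model hrodd (by omega) φ hσ halt (by omega) hT hTr (fun h1 => ?_) ?_ hall
      · have : fixSpace T = ⊤ := eq_top_iff.2 fun v _ => mem_fixSpace.2 (by rw [h1]; rfl)
        rw [this, finrank_top] at hfix
        have := Nat.mul_le_mul_right i (show 1 ≤ e + se by omega)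
        omega
      · intro U hUi hUt hUm
        obtain ⟨a, b, hab, ha, hb', -⟩ := ti_parts hq hrp hT hTr hUi hUt
        have h2 := hb U hUi hUt
        rw [hb', ← hi, ← mul_assoc] at h2
        have h3 := Nat.le_of_mul_le_mul_right h2 hi0
        rw [← hi, hUm] at hab
        have ha' : a < i := by omega
        have : m / i = b := by
          rw [hab, Nat.add_mul_div_right _ _ hi0, Nat.div_eq_of_lt ha', zero_add]
        omega
  · rintro (⟨h, -⟩ | ⟨-, -, -, hl, hcond⟩)
    · exact absurd h hr2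
    rintro x ⟨z, hz⟩ -
    obtain ⟨hz2, hTr⟩ := scalar_sq (by omega) x r hz
    set T := Matrix.toLin' (x : Matrix (Fin d ⊕ Fin d) (Fin d ⊕ Fin d) F)
    have hz0 : z ≠ 0 := fun h => by rw [h, mul_zero] at hz2; exact zero_ne_one hz2
    have hT' : (spForm F d).Iso (z • T) := fun u v => by
      show (spForm F d).B (z • T u) (z • T v) = _
      rw [spForm_smul, iso_of_mem x u v, hz2, one_mul]
    have hTr' : (z • T) ^ r = 1 := by
      obtain ⟨k, hk⟩ := hrodd
      rw [_root_.smul_pow, hTr, smul_smul, ← pow_succ, hk, show 2 * k + 1 + 1 = 2 * (k + 1) by ring, pow_mul,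
        pow_two, hz2, one_pow, one_smul]
    obtain ⟨W, h1, h2, h3⟩ := symp_odd hq hrp hr hmd c (by rw [← hi]; exact hc) (by rwa [← hi])
      (by rwa [← hi]) hT' hTr'
    exact hwit x W h1 h2 ((Inv.smul_iff hz0).1 h3)

end Cfsg.Agent.Linear.Elusive.Forms
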