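import Cfsg.Agent.Linear.Elusive.Forms.Prime
import Cfsg.Agent.Linear.Elusive.Forms.Symp
import Cfsg.Agent.Orthogonal.Count
import Cfsg.Agent.Orthogonal.StdForms
import Cfsg.Agent.Orthogonal.Witt

/-!
Quadratic forms in odd characteristic as reflexive forms; counting totally singular subspaces.
-/

set_option autoImplicit false
set_option linter.unusedSectionVars false

namespace Cfsg.Agent.Linear.Elusive.Forms

open Polynomial Module QuadraticMap Orthogonal

universe u v

variable {F : Type u} [Field F] {V : Type v} [AddCommGroup V] [Module F V] {Q : QuadraticForm F V}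

/-- The polar form. -/
noncomputable def polarForm (hQ : Nondeg Q) : RForm F V where
  σ := RingHom.id F
  ε := 1
  B := Q.polarBilin
  invol _ := rfl
  flip u v := by
    rw [RingHom.id_apply, one_mul]
    exact QuadraticMap.polar_comm _ v u
  nondeg v h := hQ v h

theorem polarForm_apply (hQ : Nondeg Q) (u v : V) : (polarForm hQ).B u v = polar Q u v := rfl

theorem ti_iff (hQ : Nondeg Q) (h2 : (2 : F) ≠ 0) (W : Submodule F V) :
    (polarForm hQ).TI W ↔ ∀ w ∈ W, Q w = 0 := by
  constructor
  · intro h w hw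
    have h1 : polar Q w w = 0 := h hw w hw
    rw [polar_self'] at h1
    exact (mul_eq_zero.1 h1).resolve_left h2
  · intro h v hv u hu
    show polar Q u v = 0
    rw [polar, h _ (W.add_mem hu hv), h _ hu, h _ hv, sub_zero, sub_zero]

theorem nd_iff (hQ : Nondeg Q) (W : Submodule F V) :
    (polarForm hQ).Nd W ↔ Nondeg (restr Q W) := by
  constructor
  · intro h x hx
    refine Subtype.ext (h.eq_zero x.2 fun u hu => ?_)
    have h1 := hx ⟨u, hu⟩
    rw [polar_restr, polar_comm] at h1
    exact h1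
  · intro h
    rw [RForm.Nd, eq_bot_iff]
    rintro x ⟨hx, hxp⟩
    refine (Submodule.mem_bot F).2 (congrArg Subtype.val (h ⟨x, hx⟩ fun y => ?_))
    rw [polar_restr, polar_comm]
    exact hxp y y.2

theorem iso_linHom (hQ : Nondeg Q) {T : End F V} (hT : ∀ x, Q (T x) = Q x) :
    (polarForm hQ).Iso T := fun u v => by
  show polar Q (T u) (T v) = polar Q u v
  rw [polar, polar, ← map_add, hT, hT, hT]

variable [Finite F] [FiniteDimensional F V]

/-- In a non-degenerate subspace all of whose subspaces are invariant, the Witt index is almost half. -/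
theorem exists_ti_quad (hQ : Nondeg Q) (h2 : (2 : F) ≠ 0) {A : Submodule F V}
    (hA : (polarForm hQ).Nd A) :
    ∃ W C : Submodule F V, W ≤ A ∧ C ≤ A ∧ (polarForm hQ).TI W ∧ C ≤ (polarForm hQ).perp W ∧
      (polarForm hQ).Nd C ∧ Aniso Q C ∧
      2 * finrank F W + finrank F C = finrank F A ∧ finrank F C ≤ 2 := by
  haveI := Fintype.ofFinite F
  obtain ⟨W, C, hWA, -, hWt, hCA, -, hC, hCW, hdim, hno⟩ :=
    exists_maxTI iso_one squarefree_X_sub_one (by simp) (inv_one A) hA
  have han : Aniso Q C := fun x hx hQx => by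
    have hline := hno (Submodule.span F {x}) ((Submodule.span_singleton_le_iff_mem _ _).2 hx)
      (inv_one _) ((ti_iff hQ h2 _).2 fun w hw => by
        obtain ⟨a, rfl⟩ := Submodule.mem_span_singleton.1 hw
        rw [qmap_smul, hQx, mul_zero])
    rwa [Submodule.span_singleton_eq_bot] at hline
  exact ⟨W, C, hWA, hCA, hWt, hCW, hC, han, hdim, finrank_le_two_of_aniso ((nd_iff hQ C).1 hC) han⟩

/-- Totally singular families. -/
abbrev SFrame (Q : QuadraticForm F V) (k : ℕ) :=
  {f : Fin k → V // LinearIndependent F f ∧ ∀ w ∈ Submodule.span F (Set.range f), Q w = 0}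

theorem card_sframe_eq [Finite V] (k : ℕ) :
    Nat.card {W : Submodule F V // finrank F W = k ∧ ∀ w ∈ W, Q w = 0} *
      (∏ l : Fin k, (Nat.card F ^ k - Nat.card F ^ (l : ℕ))) = Nat.card (SFrame Q k) := by
  classical
  haveI := Fintype.ofFinite F
  set S := {W : Submodule F V // finrank F W = k ∧ ∀ w ∈ W, Q w = 0}
  haveI := Fintype.ofFinite S
  have hspan : ∀ (W : S) (c : Fin k → V), LinearIndependent F c → (∀ i, c i ∈ W.1) →
      Submodule.span F (Set.range c) = W.1 := fun W c hc hcm => by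
    refine Submodule.eq_of_le_of_finrank_eq (Submodule.span_le.2 ?_) ?_
    · rintro _ ⟨i, rfl⟩; exact hcm i
    · rw [finrank_span_eq_card hc, Fintype.card_fin, W.2.1]
  let φ : (Σ W : S, {s : Fin k → W.1 // LinearIndependent F s}) → SFrame Q k := fun p =>
    ⟨fun i => (p.2.1 i : V), p.2.2.map' p.1.1.subtype p.1.1.ker_subtype,
      fun w hw => p.1.2.2 w (Submodule.span_le.2 (Set.range_subset_iff.2 fun i => (p.2.1 i).2) hw)⟩
  have hφ : Function.Bijective φ := by
    refine ⟨?_, fun a => ⟨⟨⟨Submodule.span F (Set.range a.1),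
      by rw [finrank_span_eq_card a.2.1, Fintype.card_fin], a.2.2⟩,
      fun i => ⟨a.1 i, Submodule.subset_span ⟨i, rfl⟩⟩,
      LinearIndependent.of_comp (Submodule.subtype _) a.2.1⟩, rfl⟩⟩
    rintro ⟨W, s, hs⟩ ⟨W', s', hs'⟩ h
    have h' : (fun i => (s i : V)) = fun i => (s' i : V) := congrArg Subtype.val h
    obtain rfl : W = W' := Subtype.ext (by
      rw [← hspan W (fun i => (s i : V)) (hs.map' W.1.subtype W.1.ker_subtype) fun i => (s i).2,
        ← hspan W' (fun i => (s' i : V)) (hs'.map' W'.1.subtype W'.1.ker_subtype) fun i => (s' i).2, h'])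
    exact Sigma.ext rfl (heq_of_eq (Subtype.ext (funext fun i => Subtype.ext (congrFun h' i))))
  let e := (Equiv.ofBijective φ hφ).symm
  rw [Nat.card_congr e, Nat.card_sigma, Finset.sum_congr rfl (fun W _ => by
    rw [card_linearIndependent (by rw [W.2.1]), W.2.1, ← Nat.card_eq_fintype_card]),
    Finset.sum_const, Finset.card_univ, smul_eq_mul, ← Nat.card_eq_fintype_card (α := S)]

/-- Zeros in the orthogonal space of a totally singular subspace. -/
theorem exists_zero_split [Finite V] (hQ : Nondeg Q) {W : Submodule F V} (hW : ∀ w ∈ W, Q w = 0) :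
    ∃ C : Submodule F V, Nondeg (restr Q C) ∧ C ≤ (polarForm hQ).perp W ∧
      finrank F C + 2 * finrank F W = finrank F V ∧
      Nat.card {v : V // v ∈ (polarForm hQ).perp W ∧ Q v = 0} =
        Nat.card W * Nat.card {c : C // restr Q C c = 0} := by
  have hWt : (polarForm hQ).TI W := fun v hv u hu => by
    show polar Q u v = 0
    rw [polar, hW _ (W.add_mem hu hv), hW _ hu, hW _ hv, sub_zero, sub_zero]
  obtain ⟨W', hW'⟩ := W.exists_isCompl
  set P := (polarForm hQ).perp W
  set C := P ⊓ W'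
  have hsplit : W ⊔ C = P := by
    refine le_antisymm (sup_le hWt inf_le_left) fun x hx => ?_
    obtain ⟨w, hw, y, hy, rfl⟩ := Submodule.mem_sup.1
      (hW'.sup_eq_top.symm ▸ Submodule.mem_top (x := x))
    refine Submodule.add_mem_sup hw ⟨?_, hy⟩
    simpa using sub_mem hx (hWt hw)
  have hdisj : Disjoint W C := hW'.disjoint.mono_right inf_le_right
  have hd := RForm.finrank_perp (φ := polarForm hQ) W
  rw [show (polarForm hQ).perp W = P from rfl, ← hsplit, finrank_sup_eq hdisj le_rfl le_rfl] at hd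
  refine ⟨C, ?_, inf_le_left, by omega, ?_⟩
  · rw [← nd_iff hQ, RForm.Nd, eq_bot_iff]
    rintro x ⟨hx, hxp⟩
    have h1 : x ∈ (polarForm hQ).perp P := by
      rw [← hsplit, RForm.perp_sup]
      exact ⟨hx.1, hxp⟩
    rw [show P = (polarForm hQ).perp W from rfl, RForm.perp_perp] at h1
    exact hdisj.le_bot ⟨h1, hx⟩
  · have hq : ∀ (w : W) (c : C), Q ((w : V) + c) = restr Q C c := fun w c => by
      rw [map_add_polar, hW _ w.2, zero_add, restr_apply,
        show polar Q (w : V) c = 0 from c.2.1 w w.2, add_zero]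
    rw [← Nat.card_prod]
    refine (Nat.card_eq_of_bijective
      (fun p : W × {c : C // restr Q C c = 0} =>
        (⟨(p.1 : V) + p.2.1, hsplit ▸ Submodule.add_mem_sup p.1.2 p.2.1.2,
          (hq p.1 p.2.1).trans p.2.2⟩ : {v : V // v ∈ P ∧ Q v = 0})) ⟨?_, ?_⟩).symm
    · rintro ⟨w, c, hc⟩ ⟨w', c', hc'⟩ h
      have h1 : (w : V) + c = (w' : V) + c' := congrArg Subtype.val h
      have h2 : (w : V) - w' = (c' : V) - c := by
        rw [sub_eq_sub_iff_add_eq_add, h1, add_comm]
      have h3 : (w : V) - w' = 0 := Submodule.disjoint_def.1 hdisj _ (W.sub_mem w.2 w'.2)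
        (h2 ▸ C.sub_mem c'.2 c.2)
      have hw : w = w' := Subtype.ext (sub_eq_zero.1 h3)
      subst hw
      exact Prod.ext rfl (Subtype.ext (Subtype.ext (add_left_cancel h1)))
    · rintro ⟨v, hv, hv0⟩
      obtain ⟨w, hw, c, hc, rfl⟩ := Submodule.mem_sup.1 (hsplit.symm ▸ hv)
      exact ⟨⟨⟨w, hw⟩, ⟨c, hc⟩, by rw [← hq ⟨w, hw⟩ ⟨c, hc⟩]; exact hv0⟩, rfl⟩

/-- One more singular vector. -/
theorem card_sframe_succ [Finite V] (hQ : Nondeg Q) {k Z : ℕ}
    (hZ : ∀ C W : Submodule F V, Nondeg (restr Q C) → finrank F C + 2 * k = finrank F V →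
      finrank F W = k → (∀ w ∈ W, Q w = 0) → C ≤ (polarForm hQ).perp W → Nat.card {c : C // restr Q C c = 0} = Z) :
    Nat.card (SFrame Q (k + 1)) = Nat.card (SFrame Q k) * (Nat.card F ^ k * (Z - 1)) := by
  classical
  haveI := Fintype.ofFinite F
  haveI := Fintype.ofFinite V
  let e : SFrame Q (k + 1) ≃ Σ f : SFrame Q k,
      {v : V // (v ∈ (polarForm hQ).perp (Submodule.span F (Set.range f.1)) ∧ Q v = 0) ∧
        v ∉ Submodule.span F (Set.range f.1)} :=
    { toFun := fun a => by
        have ha := a.2.1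
        rw [← Fin.cons_self_tail a.1, linearIndependent_finCons] at ha
        have hsub : Submodule.span F (Set.range (Fin.tail a.1)) ≤ Submodule.span F (Set.range a.1) :=
          Submodule.span_mono (by rintro _ ⟨i, rfl⟩; exact ⟨i.succ, rfl⟩)
        have hv : a.1 0 ∈ Submodule.span F (Set.range a.1) := Submodule.subset_span ⟨0, rfl⟩
        exact ⟨⟨Fin.tail a.1, ha.1, fun w hw => a.2.2 w (hsub hw)⟩, a.1 0,
          ⟨fun u hu => by
            show polar Q u (a.1 0) = 0
            rw [polar, a.2.2 _ (Submodule.add_mem _ (hsub hu) hv), a.2.2 _ (hsub hu), a.2.2 _ hv,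
              sub_zero, sub_zero],
            a.2.2 _ hv⟩, ha.2⟩
      invFun := fun p => ⟨Fin.cons p.2.1 p.1.1, linearIndependent_finCons.2 ⟨p.1.2.1, p.2.2.2⟩,
        fun w hw => by
          rw [Fin.range_cons, Submodule.mem_span_insert] at hw
          obtain ⟨t, u, hu, rfl⟩ := hw
          rw [map_add_polar, qmap_smul, p.2.2.1.2, mul_zero, zero_add, p.1.2.2 u hu, zero_add,
            polar_smul_left', polar_comm, show polar Q u p.2.1 = 0 from p.2.2.1.1 u hu, mul_zero]⟩
      left_inv := fun a => Subtype.ext (Fin.cons_self_tail a.1)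
      right_inv := fun p => by
        obtain ⟨⟨f, hf⟩, v, hv⟩ := p
        exact Sigma.subtype_ext (Subtype.ext (Fin.tail_cons (α := fun _ => V) v f))
          (Fin.cons_zero (α := fun _ => V) v f) }
  have hfib : ∀ f : SFrame Q k, Nat.card {v : V // (v ∈ (polarForm hQ).perp (Submodule.span F (Set.range f.1))
      ∧ Q v = 0) ∧ v ∉ Submodule.span F (Set.range f.1)} = Nat.card F ^ k * (Z - 1) := by
    intro f
    set W := Submodule.span F (Set.range f.1)
    have hWd : finrank F W = k := by rw [finrank_span_eq_card f.2.1, Fintype.card_fin]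
    obtain ⟨C, hC, hCW, hCd, hcount⟩ := exists_zero_split hQ f.2.2 (W := W)
    rw [hZ C W hC (by omega) hWd f.2.2 hCW, Module.natCard_eq_pow_finrank (K := F) (V := W), hWd] at hcount
    have hWsub : ∀ v ∈ W, v ∈ (polarForm hQ).perp W ∧ Q v = 0 := fun v hv => ⟨fun u hu => by
      show polar Q u v = 0
      rw [polar, f.2.2 _ (W.add_mem hu hv), f.2.2 _ hu, f.2.2 _ hv, sub_zero, sub_zero], f.2.2 v hv⟩
    let A : Finset V := Finset.univ.filter fun v => v ∈ (polarForm hQ).perp W ∧ Q v = 0
    let B : Finset V := Finset.univ.filter fun v => v ∈ W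
    have hA : A.card = Nat.card F ^ k * Z := by
      rw [← hcount, Nat.card_eq_fintype_card (α := {v : V // v ∈ (polarForm hQ).perp W ∧ Q v = 0}),
        Fintype.card_subtype]
    have hB : B.card = Nat.card F ^ k := by
      rw [← Fintype.card_subtype, ← Nat.card_eq_fintype_card]
      exact (Module.natCard_eq_pow_finrank (K := F) (V := W)).trans (by rw [hWd])
    have hBA : B ⊆ A := fun v hv => by
      simp only [A, B, Finset.mem_filter, Finset.mem_univ, true_and] at hv ⊢
      exact hWsub v hv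
    rw [Nat.card_eq_fintype_card, Fintype.card_subtype]
    have : (Finset.univ.filter fun v => (v ∈ (polarForm hQ).perp W ∧ Q v = 0) ∧ v ∉ W) = A \ B := by
      ext v
      simp [A, B]
    rw [this, Finset.card_sdiff_of_subset hBA, hA, hB, Nat.mul_sub, mul_one]
  haveI := Fintype.ofFinite (SFrame Q k)
  rw [Nat.card_congr e, Nat.card_sigma, Finset.sum_congr rfl (fun f _ => hfib f), Finset.sum_const,
    Finset.card_univ, smul_eq_mul, ← Nat.card_eq_fintype_card]

/-- Zeros of a non-degenerate form in odd dimension. -/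
theorem card_zero_odd {C : Submodule F V} (hC : Nondeg (restr Q C)) {j : ℕ}
    (hd : finrank F C = 2 * j + 1) : Nat.card {c : C // restr Q C c = 0} = Nat.card F ^ (2 * j) := by
  obtain ⟨k, e, f, h, ha⟩ := hC.exists_frame
  have hr := h.finrank_kernel hC
  have hle := finrank_le_two_of_aniso (h.nondeg_kernel hC) ha
  have hk : k = j ∧ finrank F (IsFrame.kernel (restr Q C) e f) = 1 := by omega
  have hc := card_zero_frame h ha
  rw [hk.2, hk.1] at hc
  have h2 : Nat.card F * Nat.card {c : C // restr Q C c = 0} = Nat.card F * Nat.card F ^ (2 * j) := by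
    rw [← pow_succ']
    omega
  exact Nat.eq_of_mul_eq_mul_left Nat.card_pos h2

/-- A divisor of the number of totally singular subspaces of an odd-dimensional space. -/
theorem quad_odd_count {q r m d : ℕ} [Fact r.Prime] [Finite V] (hQ : Nondeg Q) (hq : Nat.card F = q)
    (hdim : finrank F V = 2 * d + 1) (hmd : m ≤ d)
    (hrΩ : r ∣ Nat.card {W : Submodule F V // finrank F W = m ∧ ∀ w ∈ W, Q w = 0}) :
    ¬ r ∣ q ∧ ∃ s, d - m < s ∧ s ≤ d ∧ orderOf (q : ZMod r) ∣ 2 * s := by
  have h1 : 1 < q := hq ▸ Finite.one_lt_card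
  have hfr : ∀ k, k ≤ d → Nat.card (SFrame Q k) =
      (∏ l : Fin k, q ^ (l : ℕ)) * ∏ l : Fin k, (q ^ (2 * (d - l)) - 1) := by
    intro k
    induction k with
    | zero =>
      intro _
      simp only [Finset.univ_eq_empty, Finset.prod_empty, mul_one, Nat.card_eq_one_iff_unique]
      refine ⟨⟨fun a b => Subtype.ext (funext fun i => i.elim0)⟩,
        ⟨⟨Fin.elim0, linearIndependent_empty_type, fun w hw => ?_⟩⟩⟩
      rw [Set.range_eq_empty, Submodule.span_empty, Submodule.mem_bot] at hw
      rw [hw, QuadraticMap.map_zero]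
    | succ k ih =>
      intro hk
      rw [card_sframe_succ hQ (Z := q ^ (2 * (d - k))) (fun C W hC hd _ _ _ => by
          rw [card_zero_odd hC (j := d - k) (by omega), hq]),
        ih (by omega), hq, Fin.prod_univ_castSucc, Fin.prod_univ_castSucc]
      simp only [Fin.val_castSucc, Fin.val_last]
      ring
  have h := card_sframe_eq (Q := Q) m
  rw [hfr m hmd, hq] at h
  have e1 : (∏ l : Fin m, (q ^ m - q ^ (l : ℕ))) =
      (∏ l : Fin m, q ^ (l : ℕ)) * ∏ l : Fin m, (q ^ (m - l) - 1) := by
    rw [← Finset.prod_mul_distrib]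
    refine Finset.prod_congr rfl fun l _ => ?_
    rw [Nat.mul_sub, mul_one, ← pow_add, Nat.add_sub_cancel' l.isLt.le]
  rw [e1, mul_left_comm] at h
  have h2 := Nat.eq_of_mul_eq_mul_left (Finset.prod_pos fun l _ => pow_pos (by omega) _) h
  have h3 : r ∣ ∏ l : Fin m, (q ^ (2 * (d - l)) - 1) := h2 ▸ hrΩ.mul_right _
  obtain ⟨l, -, hl⟩ := ((Fact.out : r.Prime).prime.dvd_finsetProd_iff _).1 h3
  have := l.isLt
  refine ⟨fun hd => ?_, d - l, by omega, by omega, (dvd_pow_sub_one_iff h1.le _).1 hl⟩
  have h4 : 1 ≤ q ^ (2 * (d - l)) := Nat.one_le_pow _ _ (by omega)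
  have h5 := Nat.dvd_sub (hd.trans (dvd_pow_self q (show 2 * (d - l) ≠ 0 by omega))) hl
  rw [show q ^ (2 * (d - (l : ℕ))) - (q ^ (2 * (d - l)) - 1) = 1 by omega] at h5
  exact (Fact.out : r.Prime).not_dvd_one h5

end Cfsg.Agent.Linear.Elusive.Forms
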