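import Cfsg.Agent.Linear.Elusive.Forms.QuadEven

/-!
Counting totally singular subspaces of even-dimensional orthogonal spaces, and the arithmetic of the criterion.
-/

set_option autoImplicit false
set_option linter.unusedSectionVars false

namespace Cfsg.Agent.Linear.Elusive.Forms

open Module QuadraticMap Orthogonal H58.Elusive

universe u

variable {F : Type u} [Field F] [Fintype F] {p q r : ℕ} [Fact p.Prime] [CharP F p] [Fact r.Prime]
variable {V : Type u} [AddCommGroup V] [Module F V] [FiniteDimensional F V] {Q : QuadraticForm F V}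
  {d m par : ℕ}

/-- Zeros of an even-dimensional space. -/
theorem zero_count {C : Submodule F V} (hC : Nondeg (restr Q C)) {j : ℕ}
    (hd : finrank F C = 2 * (j + 1)) :
    ((Nat.card {c : C // restr Q C c = 0} : ℕ) : ℤ) - 1 =
      ((Nat.card F : ℤ) ^ (j + 1) - sg (restr Q C)) * ((Nat.card F : ℤ) ^ j + sg (restr Q C)) := by
  have h := sphere_all hC hd (0 : F)
  rw [if_pos rfl] at h
  have h1 := sg_mul_self (restr Q C)
  have hq0 : (Nat.card F : ℤ) ≠ 0 := by exact_mod_cast (Nat.card_pos (α := F)).ne'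
  refine mul_left_cancel₀ hq0 ?_
  linear_combination h + (Nat.card F : ℤ) * h1

/-- A prime dividing the number of totally singular subspaces. -/
theorem quad_even_count [Finite V] (hQ : Nondeg Q) (hq : Fintype.card F = q) (hV : finrank F V = 2 * d)
    (hsg : sg Q = (-1) ^ par) (hmd : m + 1 ≤ d)
    (hrΩ : r ∣ Nat.card {W : Submodule F V // finrank F W = m ∧ ∀ w ∈ W, Q w = 0}) :
    ¬ r ∣ q ∧ ∃ S σ, 1 ≤ S ∧ (q : ZMod r) ^ S = (-1) ^ σ ∧
      ((σ + par) % 2 = 0 → d - m < S ∧ S ≤ d) ∧ ((σ + par) % 2 = 1 → d - m ≤ S ∧ S < d) := by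
  classical
  have h1 : 1 < q := hq ▸ Fintype.one_lt_card
  have hcq : Nat.card F = q := by rw [Nat.card_eq_fintype_card, hq]
  let P : ℕ → ℕ := fun l =>
    ((((q : ℤ) ^ (d - l) - (-1) ^ par) * ((q : ℤ) ^ (d - l - 1) + (-1) ^ par)).toNat)
  have hP : ∀ l (C W : Submodule F V), l < d → Nondeg (restr Q C) → finrank F C + 2 * l = finrank F V →
      finrank F W = l → (∀ w ∈ W, Q w = 0) → C ≤ (polarForm hQ).perp W →
      ((Nat.card {c : C // restr Q C c = 0} : ℕ) : ℤ) - 1 =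
        ((q : ℤ) ^ (d - l) - (-1) ^ par) * ((q : ℤ) ^ (d - l - 1) + (-1) ^ par) := by
    intro l C W hl hC hCd hWd hW hCW
    have hC2 : finrank F C = 2 * ((d - l - 1) + 1) := by omega
    have h2 := zero_count hC hC2
    have hWp : W ≤ perp Q C := fun w hw c hc => by
      rw [polar_comm]
      exact hCW hc w hw
    have h3 := sg_perp hQ hC ⟨d - l, by omega⟩ ⟨d, by omega⟩
    have h4 : sg (restr Q (perp Q C)) = 1 := (sg_restr_eq_one_iff (hQ.nondeg_perp hC) (a := l)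
      (by have := hQ.finrank_add_perp C; omega)).2 ⟨W, hWp, hW, hWd⟩
    rw [h4, mul_one, hsg] at h3
    rw [h2, hcq, ← h3, show d - l - 1 + 1 = d - l by omega]
  have hfr : ∀ k, k ≤ m → Nat.card (SFrame Q k) =
      (∏ l : Fin k, q ^ (l : ℕ)) * ∏ l : Fin k, P l := by
    intro k
    induction k with
    | zero =>
      intro _
      simp only [Finset.univ_eq_empty, Finset.prod_empty, mul_one, Nat.card_eq_one_iff_unique]
      refine ⟨⟨fun a b => Subtype.ext (funext fun i => i.elim0)⟩,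
        ⟨⟨Fin.elim0, linearIndependent_empty_type, fun w hw => ?_⟩⟩⟩
      rw [Set.range_eq_empty, Submodule.span_empty, Submodule.mem_bot] at hw
      rw [hw, QuadraticMap.map_zero]
    | succ k ih =>
      intro hk
      rw [card_sframe_succ hQ (Z := P k + 1) (fun C W hC hd hWd hW hCW => by
          have h2 := hP k C W (by omega) hC hd hWd hW hCW
          have h3 : 0 < Nat.card {c : C // restr Q C c = 0} := by
            haveI : Nonempty {c : C // restr Q C c = 0} := ⟨⟨0, map_zero _⟩⟩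
            exact Nat.card_pos
          have h4 : ((P k : ℕ) : ℤ) = (Nat.card {c : C // restr Q C c = 0} : ℤ) - 1 := by
            show ((Int.toNat _ : ℕ) : ℤ) = _
            rw [← h2, Int.toNat_of_nonneg (by omega)]
          omega),
        ih (by omega), hcq, Fin.prod_univ_castSucc, Fin.prod_univ_castSucc]
      simp only [Fin.val_castSucc, Fin.val_last, Nat.add_sub_cancel]
      ring
  have h := card_sframe_eq (Q := Q) m
  rw [hfr m le_rfl, hcq] at h
  have e1 : (∏ l : Fin m, (q ^ m - q ^ (l : ℕ))) =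
      (∏ l : Fin m, q ^ (l : ℕ)) * ∏ l : Fin m, (q ^ (m - l) - 1) := by
    rw [← Finset.prod_mul_distrib]
    refine Finset.prod_congr rfl fun l _ => ?_
    rw [Nat.mul_sub, mul_one, ← pow_add, Nat.add_sub_cancel' l.isLt.le]
  rw [e1, mul_left_comm] at h
  have h2 := Nat.eq_of_mul_eq_mul_left (Finset.prod_pos fun l _ => pow_pos (by omega) _) h
  have h3 : r ∣ ∏ l : Fin m, P l := h2 ▸ hrΩ.mul_right _
  obtain ⟨l, -, hl⟩ := ((Fact.out : r.Prime).prime.dvd_finsetProd_iff _).1 h3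
  have := l.isLt
  have hqz : (1 : ℤ) < (q : ℤ) := by exact_mod_cast h1
  have hz : (((q : ℤ) ^ (d - l) - (-1) ^ par) * ((q : ℤ) ^ (d - l - 1) + (-1) ^ par) : ℤ) = (P l : ℤ) := by
    show _ = ((Int.toNat _ : ℕ) : ℤ)
    rw [Int.toNat_of_nonneg]
    have ha : (q : ℤ) ≤ (q : ℤ) ^ (d - l) := le_self_pow₀ hqz.le (by omega)
    have hb : (q : ℤ) ≤ (q : ℤ) ^ (d - l - 1) := le_self_pow₀ hqz.le (by omega)
    refine mul_nonneg ?_ ?_ <;> rcases neg_one_pow_eq_or ℤ par with h4 | h4 <;> rw [h4] <;> omega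
  have h5 := congrArg (Int.cast : ℤ → ZMod r) hz
  push_cast at h5
  rw [(ZMod.natCast_eq_zero_iff _ r).2 hl, mul_eq_zero] at h5
  have hunit : ∀ S σ, 1 ≤ S → (q : ZMod r) ^ S = (-1) ^ σ → ¬ r ∣ q := fun S σ hS hh hd => by
    rw [← ZMod.natCast_eq_zero_iff] at hd
    rw [hd, zero_pow (by omega)] at hh
    exact pow_ne_zero σ (neg_ne_zero.2 (one_ne_zero (α := ZMod r))) hh.symm
  rcases h5 with h5 | h5
  · have h6 : (q : ZMod r) ^ (d - l) = (-1) ^ par := sub_eq_zero.1 h5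
    exact ⟨hunit _ _ (by omega) h6, d - l, par, by omega, h6, fun _ => by omega, fun hh => by omega⟩
  · have h6 : (q : ZMod r) ^ (d - l - 1) = (-1) ^ (par + 1) := by
      rw [pow_succ, mul_neg_one]; exact add_eq_zero_iff_eq_neg.1 h5
    exact ⟨hunit _ _ (by omega) h6, d - l - 1, par + 1, by omega, h6, fun hh => by omega,
      fun _ => by omega⟩

/-! ### Arithmetic -/

/-- Sufficiency, even `i`. -/
theorem arith_even_suff {h t N k mm ℓ : ℕ} (hh : 1 ≤ h) (hd : 2 * d = N * (2 * h) + k)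
    (hk : k < 2 * h) (hm : m = mm * (2 * h) + ℓ) (hA : t + 2 * mm ≤ N)
    (hB : (2 * ℓ ≤ 2 * h ∧ k = 0 ∧ (N + par) % 2 = 1 ∧ t + 2 * mm < N) ∨
      (2 * ℓ ≤ k ∧ (N + par) % 2 = 0) ∨ (2 * ℓ < k ∧ (N + par) % 2 = 1))
    (K w : ℕ) (hKd : K * h ≤ d) (hKv : K * h = d → (K + par) % 2 = 0) (hw : K ≤ 2 * w + t) :
    ∃ b, b ≤ w ∧ b * (2 * h) ≤ m ∧ m + (K + par) % 2 + K * h ≤ d + b * (2 * h) := by
  rw [Nat.mul_left_comm] at hd
  rw [Nat.mul_left_comm] at hm
  have hKN : K ≤ N := Nat.lt_succ_iff.1 (Nat.lt_of_mul_lt_mul_right (a := h) (by rw [Nat.succ_mul]; omega))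
  obtain ⟨j, rfl⟩ : ∃ j, N = K + j := ⟨N - K, by omega⟩
  rw [Nat.add_mul] at hd
  rcases le_or_gt mm w with hmw | hmw
  · refine ⟨mm, hmw, by rw [Nat.mul_left_comm]; omega, ?_⟩
    rw [Nat.mul_left_comm mm 2]
    rcases (show j = 0 ∨ j = 1 ∨ 2 ≤ j by omega) with rfl | rfl | hj
    · by_cases hv : K * h = d
      · have := hKv hv; omega
      · omega
    · rw [one_mul] at hd; omega
    · have := Nat.mul_le_mul_right h hj
      omega
  · refine ⟨w, le_rfl, ?_, ?_⟩
    · have := Nat.mul_le_mul_right h hmw.le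
      rw [Nat.mul_left_comm]; omega
    obtain ⟨G, hG⟩ : ∃ G, K + j + 2 * w = K + 2 * mm + G := ⟨j + 2 * w - 2 * mm, by omega⟩
    have hG' := congrArg (· * h) hG
    simp only [Nat.add_mul, Nat.mul_assoc] at hG'
    rw [Nat.mul_left_comm w 2]
    rcases (show G = 0 ∨ G = 1 ∨ 2 ≤ G by omega) with rfl | rfl | hG2
    · rw [zero_mul] at hG'; omega
    · rw [one_mul] at hG'; omega
    · have := Nat.mul_le_mul_right h hG2
      omega

/-- Necessity, even `i`. -/
theorem arith_even_nec {h t N k mm ℓ : ℕ} (hh : 1 ≤ h) (ht : 1 ≤ t) (hd : 2 * d = N * (2 * h) + k)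
    (hk : k < 2 * h) (hm : m = mm * (2 * h) + ℓ) (hl : ℓ < 2 * h) (hmm : 1 ≤ mm) (hmd : m + 1 ≤ d)
    (hno : ¬ (t + 2 * mm ≤ N ∧ ((2 * ℓ ≤ 2 * h ∧ k = 0 ∧ (N + par) % 2 = 1 ∧ t + 2 * mm < N) ∨
      (2 * ℓ ≤ k ∧ (N + par) % 2 = 0) ∨ (2 * ℓ < k ∧ (N + par) % 2 = 1)))) :
    ∃ e s, 1 ≤ e ∧ s + 1 ≤ t ∧ (e + s) * h ≤ d ∧ ((e + s) * h = d → (e + s + par) % 2 = 0) ∧
      ∀ b, 2 * b ≤ e → b * (2 * h) ≤ m → d + b * (2 * h) < m + (e + s + par) % 2 + (e + s) * h := by
  rw [Nat.mul_left_comm] at hd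
  rw [Nat.mul_left_comm] at hm
  have hN : 2 * mm ≤ N := by
    refine Nat.lt_succ_iff.1 (Nat.lt_of_mul_lt_mul_right (a := h) ?_)
    rw [Nat.mul_assoc 2 mm h, Nat.succ_mul N h]
    omega
  have hb2 : ∀ b, b * (2 * h) ≤ m → b ≤ mm := fun b hb => by
    refine Nat.lt_succ_iff.1 (Nat.lt_of_mul_lt_mul_right (a := h) ?_)
    rw [Nat.mul_left_comm] at hb
    rw [Nat.succ_mul]
    omega
  by_cases hA : t + 2 * mm ≤ N
  swap
  · obtain ⟨K, rfl⟩ : ∃ K, N = K + 1 := ⟨N - 1, by omega⟩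
    rw [Nat.add_mul, one_mul] at hd
    obtain ⟨e, s, he, hs, hes, hem⟩ : ∃ e s, 1 ≤ e ∧ s + 1 ≤ t ∧ e + s = K ∧ e + 1 ≤ 2 * mm := by
      rcases le_or_gt t K with h1 | h1
      · exact ⟨K - t + 1, t - 1, by omega, by omega, by omega, by omega⟩
      · exact ⟨1, K - 1, le_rfl, by omega, by omega, by omega⟩
    refine ⟨e, s, he, hs, by rw [hes]; omega, fun hv => by rw [hes] at hv; omega, fun b hb hbm => ?_⟩
    rw [hes, Nat.mul_left_comm]
    have := Nat.mul_le_mul_right h (show b + 1 ≤ mm by omega)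
    rw [Nat.add_mul, one_mul] at this
    omega
  have hno' := fun hh' => hno ⟨hA, hh'⟩
  by_cases hkp : k = 0 ∧ (N + par) % 2 = 1
  · by_cases hl2 : 2 * h < 2 * ℓ
    · obtain ⟨K, rfl⟩ : ∃ K, N = K + 1 := ⟨N - 1, by omega⟩
      rw [Nat.add_mul, one_mul] at hd
      refine ⟨K - t + 1, t - 1, by omega, by omega, ?_, ?_, fun b _ hbm => ?_⟩ <;>
        rw [show K - t + 1 + (t - 1) = K by omega]
      · omega
      · intro _; omega
      · rw [Nat.mul_left_comm]
        have := Nat.mul_le_mul_right h (hb2 b hbm)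
        omega
    · have hN2 : N = t + 2 * mm := by
        by_contra hne
        exact hno' (Or.inl ⟨by omega, hkp.1, hkp.2, by omega⟩)
      obtain ⟨K, rfl⟩ : ∃ K, N = K + 2 := ⟨N - 2, by omega⟩
      rw [Nat.add_mul] at hd
      refine ⟨2 * mm - 1, t - 1, by omega, by omega, ?_, ?_, fun b hb hbm => ?_⟩ <;>
        rw [show 2 * mm - 1 + (t - 1) = K by omega]
      · omega
      · intro hv; omega
      · rw [Nat.mul_left_comm]
        have := Nat.mul_le_mul_right h (show b + 1 ≤ mm by omega)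
        rw [Nat.add_mul, one_mul] at this
        omega
  · refine ⟨N - t + 1, t - 1, by omega, by omega, ?_, ?_, fun b hb hbm => ?_⟩ <;>
      rw [show N - t + 1 + (t - 1) = N by omega]
    · omega
    · intro hv; omega
    · rw [Nat.mul_left_comm]
      have := Nat.mul_le_mul_right h (hb2 b hbm)
      rcases (show (N + par) % 2 = 0 ∨ (N + par) % 2 = 1 by omega) with h1 | h1
      · have : ¬ 2 * ℓ ≤ k := fun h2 => hno' (Or.inr (Or.inl ⟨h2, h1⟩))
        omega
      · have : ¬ 2 * ℓ < k := fun h2 => hno' (Or.inr (Or.inr ⟨h2, h1⟩))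
        omega

/-- Sufficiency, odd `i`. -/
theorem arith_odd_suff {i N κ mm ℓ : ℕ} (hpar : par ≤ 1) (hd : d = N * i + κ) (hk : κ < i)
    (hm : m = mm * i + ℓ) (hl : ℓ < i) (hmd : m + 1 ≤ d) (hB : ℓ + par ≤ κ ∨ (par = 1 ∧ κ = 0))
    (s : ℕ) (hsd : s * i ≤ d) (hsv : s * i = d → par = 0) :
    ∃ b, b ≤ s ∧ b * i ≤ m ∧ m + par + s * i ≤ d + b * i := by
  have hsN : s ≤ N := Nat.lt_succ_iff.1 (Nat.lt_of_mul_lt_mul_right (a := i) (by rw [Nat.succ_mul]; omega))
  rcases le_or_gt mm s with h1 | h1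
  · refine ⟨mm, h1, by omega, ?_⟩
    rcases Nat.lt_or_ge s N with h2 | h2
    · have := Nat.mul_le_mul_right i (show s + 1 ≤ N by omega)
      rw [Nat.add_mul, one_mul] at this
      omega
    · obtain rfl : s = N := by omega
      rcases hB with h3 | ⟨h3, h4⟩
      · omega
      · have := hsv (by omega); omega
  · refine ⟨s, le_rfl, ?_, by omega⟩
    have := Nat.mul_le_mul_right i h1.le
    omega

/-- Necessity, odd `i`. -/
theorem arith_odd_nec {i N κ mm ℓ : ℕ} (hpar : par ≤ 1) (hi : 1 ≤ i) (hd : d = N * i + κ) (hk : κ < i)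
    (hm : m = mm * i + ℓ) (hl : ℓ < i) (hmm : 1 ≤ mm) (hmd : m + 1 ≤ d)
    (hB : ¬ (ℓ + par ≤ κ ∨ (par = 1 ∧ κ = 0))) :
    ∃ s, 1 ≤ s ∧ s * i ≤ d ∧ (s * i = d → par % 2 = 0) ∧
      ∀ b, b ≤ s → b * i ≤ m → d + b * i < m + par % 2 + s * i := by
  push Not at hB
  obtain ⟨hB1, hB2⟩ := hB
  refine ⟨N, ?_, by omega, fun hv => ?_, fun b _ hbm => ?_⟩
  · by_contra hN
    have : N = 0 := by omega
    subst this
    have := Nat.mul_le_mul_right i hmm
    omega
  · rcases Nat.eq_zero_or_pos par with h | h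
    · omega
    · exact absurd (by omega) (hB2 (by omega))
  · have hb : b ≤ mm := Nat.lt_succ_iff.1 (Nat.lt_of_mul_lt_mul_right (a := i) (by rw [Nat.succ_mul]; omega))
    have := Nat.mul_le_mul_right i hb
    omega

end Cfsg.Agent.Linear.Elusive.Forms
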