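import Cfsg.Agent.Linear.Elusive.Forms.QuadEven
import Cfsg.Agent.Linear.Elusive.Forms.OrthInvol
import Cfsg.Agent.H58.Elusive.Unip

/-!
Elements of order two modulo scalars and totally singular subspaces of even-dimensional orthogonal spaces.
-/

set_option autoImplicit false
set_option linter.unusedSectionVars false

namespace Cfsg.Agent.Linear.Elusive.Forms

open Polynomial Module QuadraticMap Orthogonal H53 H58.Elusive

universe u

variable {F : Type u} [Field F] [Fintype F] {p q : ℕ} [Fact p.Prime] [CharP F p]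
variable {V : Type u} [AddCommGroup V] [Module F V] [FiniteDimensional F V] {Q : QuadraticForm F V}
  {d m par : ℕ}

theorem isoOn_ts_iff {W₀ : Submodule F V} (h0 : TotSing Q W₀) (W : Submodule F V) :
    (finrank F W = finrank F W₀ ∧ ∀ w ∈ W, Q w = 0) ↔ IsoOn Q W W₀ := by
  constructor
  · rintro ⟨hd, hW⟩
    exact ⟨LinearEquiv.ofFinrankEq W W₀ hd, fun w => by rw [h0 _ (Subtype.mem _), hW _ w.2]⟩
  · intro h
    refine ⟨h.finrank_eq, fun w hw => ?_⟩
    obtain ⟨e, he⟩ := h
    have := he ⟨w, hw⟩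
    rw [h0 _ (Subtype.mem _)] at this
    exact this.symm

theorem inv_quarter {T : End F V} (hT : ∀ v, T (T v) = -v) (v : V) :
    aeval T (X ^ 2 - Polynomial.C (-1 : F)) v = 0 := by
  rw [map_sub, map_pow, aeval_X, aeval_C, LinearMap.sub_apply, Module.algebraMap_end_apply, pow_two,
    Module.End.mul_apply, hT, neg_one_smul, sub_self]

/-- Involutions. -/
theorem invol_space (hq : Fintype.card F = q) (hQ : Nondeg Q) (h2 : (2 : F) ≠ 0)
    (hV : finrank F V = 2 * d) (hsg : sg Q = (-1) ^ par) (hpar : par ≤ 1) (hmd : m + 1 ≤ d)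
    (hok : q % 4 = 1 ∨ par = 1 ∨ m + 2 ≤ d) (g : O Q) (hg : g ^ 2 = 1)
    (hdet : detSign Q hQ h2 g = 1) (hsp : spinor Q hQ h2 g = 1) :
    ∃ W : Submodule F V, finrank F W = m ∧ TotSing Q W ∧ ∀ x ∈ W, (g : V ≃ₗ[F] V) x ∈ W := by
  obtain ⟨hA', heq⟩ := perp_fix hQ g (k := 2) (by exact_mod_cast h2) hg
  have hA : Nondeg (restr Q (fixS g)) := hA'
  have hneg : ∀ x ∈ perp Q (fixS g), (g : V ≃ₗ[F] V) x = -x := by
    intro x hx
    rw [fixS, heq] at hx
    obtain ⟨z, rfl⟩ := hx
    have h := LinearMap.congr_fun (linHom_pow_one g hg) z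
    rw [pow_two, Module.End.mul_apply, Module.End.one_apply, linHom_apply, linHom_apply] at h
    rw [LinearMap.sub_apply, Module.End.one_apply, linHom_apply, map_sub, h, neg_sub]
  set B := perp Q (fixS g) with hBdef
  have hBn : Nondeg (restr Q B) := hQ.nondeg_perp hA
  have hnd : (polarForm hQ).Nd B := (nd_iff hQ B).2 hBn
  have hon : NegOn hQ g B := ⟨hneg, fun x hx => by
    have h1 : x ∈ (polarForm hQ).perp ((polarForm hQ).perp (fixS g)) := hx
    rw [RForm.perp_perp] at h1
    exact mem_fixS.1 h1⟩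
  have hdim := hQ.finrank_add_perp (fixS g)
  rw [hV, ← hBdef] at hdim
  set T := linHom Q g
  have hdetT : LinearMap.det T = (-1 : F) ^ finrank F B := by
    set e := Submodule.prodEquivOfIsCompl _ _ (hQ.isCompl_perp hA)
    have h3 : T = e.toLinearMap ∘ₗ
        (LinearMap.prodMap LinearMap.id ((-1 : F) • LinearMap.id)) ∘ₗ e.symm.toLinearMap := by
      refine LinearMap.ext fun y => ?_
      obtain ⟨⟨a, b⟩, rfl⟩ := e.surjective y
      rw [LinearMap.comp_apply, LinearMap.comp_apply, LinearEquiv.coe_coe, LinearEquiv.coe_coe,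
        LinearEquiv.symm_apply_apply]
      simp only [LinearMap.prodMap_apply, LinearMap.smul_apply, LinearMap.id_apply, e,
        Submodule.coe_prodEquivOfIsCompl', Submodule.coe_smul, Submodule.coe_neg, map_add, neg_one_smul,
        T, linHom_apply, mem_fixS.1 a.2, hneg b b.2]
    rw [h3, LinearMap.det_conj, LinearMap.det_prodMap, LinearMap.det_smul, LinearMap.det_id,
      LinearMap.det_id, one_mul, mul_one]
  have hev : Even (finrank F B) := by
    have h3 := (detSign_eq_one_iff hQ h2 g).1 hdet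
    rw [show LinearMap.det ((g : V ≃ₗ[F] V) : V →ₗ[F] V) = LinearMap.det T from rfl, hdetT] at h3
    refine (neg_one_pow_eq_one_iff_even ?_).1 h3
    intro h4
    exact h2 (by linear_combination -h4)
  obtain ⟨b, hb⟩ := hev
  rw [← two_mul] at hb
  obtain ⟨a, ha⟩ : ∃ a, finrank F (fixS g) = 2 * a := ⟨d - b, by omega⟩
  obtain ⟨UA, hUA, hUAt, hUAd⟩ := exists_ts hA ha
  obtain ⟨UB, hUB, hUBt, hUBd⟩ := exists_ts hBn hb
  have hs := sg_perp hQ hA ⟨a, by omega⟩ ⟨d, by omega⟩
  rw [hsg, ← hBdef] at hs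
  have hδ1 := dfct_le (Q := Q) (fixS g)
  have hδ2 := dfct_le (Q := Q) B
  have hsum : dfct Q (fixS g) + dfct Q B + m ≤ d := by
    by_contra hlt
    have hpp := sg_or (restr Q (fixS g))
    have hqq := sg_or (restr Q B)
    rcases hok with h1 | h1 | h1
    · have hsq : IsSquare (-1 : F) := by
        rw [FiniteField.isSquare_neg_one_iff, hq]; omega
      obtain ⟨W, hWB, hWt, hWd⟩ := moved_split hQ h2 hsq hsp hnd hon ⟨b, by omega⟩
      have h3 : sg (restr Q B) = 1 := (sg_restr_eq_one_iff hBn hb).2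
        ⟨W, hWB, (ti_iff hQ h2 W).1 hWt, by omega⟩
      unfold dfct at hlt
      rw [if_pos h3] at hlt
      split_ifs at hlt <;> omega
    · rw [h1, pow_one] at hs
      unfold dfct at hlt
      rcases hpp with e1 | e1 <;> rcases hqq with e2 | e2 <;> rw [e1, e2] at hs hlt <;>
        simp at hs hlt <;> omega
    · omega
  obtain ⟨Ub, hUb, hUbd⟩ := exists_sub UB (a := min m (finrank F UB)) (min_le_right _ _)
  obtain ⟨Ua, hUa, hUad⟩ := exists_sub UA (a := m - min m (finrank F UB)) (by omega)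
  refine ⟨Ua ⊔ Ub, ?_, ?_, ?_⟩
  · rw [finrank_sup_eq (hQ.isCompl_perp hA).disjoint (hUa.trans hUA) (hUb.trans hUB), hUad, hUbd]
    omega
  · intro w hw
    obtain ⟨x, hx, y, hy, rfl⟩ := Submodule.mem_sup.1 hw
    have hxy : polar Q x y = 0 := hUB (hUb hy) x (hUA (hUa hx))
    rw [map_add_polar, hUAt x (hUa hx), hUBt y (hUb hy), hxy, add_zero, add_zero]
  · intro w hw
    obtain ⟨x, hx, y, hy, rfl⟩ := Submodule.mem_sup.1 hw
    rw [map_add, mem_fixS.1 (hUA (hUa hx)), hneg y (hUB (hUb hy))]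
    exact Submodule.add_mem_sup hx (Ub.neg_mem hy)

/-- Isometries with square `-1`. -/
theorem quarter_space (hq : Fintype.card F = q) (hQ : Nondeg Q) (h2 : (2 : F) ≠ 0) (hodd : q % 2 = 1)
    (hV : finrank F V = 2 * d) (hmd : m + 1 ≤ d) (g : O Q)
    (hg : ∀ x, (g : V ≃ₗ[F] V) ((g : V ≃ₗ[F] V) x) = -x) (hok : q % 4 = 1 ∨ Even m) :
    ∃ W : Submodule F V, finrank F W = m ∧ TotSing Q W ∧ ∀ x ∈ W, (g : V ≃ₗ[F] V) x ∈ W := by
  set T := linHom Q g
  have hT : (polarForm hQ).Iso T := iso_g hQ g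
  have hTT : ∀ v, T (T v) = -v := hg
  by_cases h4 : q % 4 = 1
  · obtain ⟨ι, hι⟩ : IsSquare (-1 : F) := by rw [FiniteField.isSquare_neg_one_iff, hq]; omega
    have hι0 : ι ≠ 0 := fun h => by rw [h, mul_zero] at hι; exact one_ne_zero (neg_eq_zero.1 hι)
    have hts : ∀ c : F, c * c = -1 → ∀ v, T v = c • v → Q v = 0 := fun c hc v hv => by
      have h1 := O.map_app g v
      rw [← linHom_apply, show linHom Q g v = c • v from hv, qmap_smul, pow_two, hc] at h1
      exact (mul_eq_zero.1 (show (2 : F) * Q v = 0 by linear_combination -h1)).resolve_left h2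
    have hne : ι - -ι ≠ 0 := by
      rw [sub_neg_eq_add, ← two_mul]
      exact mul_ne_zero h2 hι0
    have hcop : IsCoprime (X - Polynomial.C ι) (X - Polynomial.C (-ι)) :=
      isCoprime_X_sub_C_of_isUnit_sub hne.isUnit
    have hsum := split_coprime hcop (T := T) (by
      refine LinearMap.ext fun v => ?_
      rw [show (X - Polynomial.C ι) * (X - Polynomial.C (-ι)) = X ^ 2 - Polynomial.C (ι * ι) by
        rw [map_neg, map_mul]; ring, ← hι, inv_quarter hTT, LinearMap.zero_apply]) (inv_top T)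
    rw [top_inf_eq, top_inf_eq, finrank_top, hV] at hsum
    have hmem : ∀ c : F, ∀ v, v ∈ LinearMap.ker (aeval T (X - Polynomial.C c)) ↔ T v = c • v := fun c v => by
      rw [LinearMap.mem_ker, map_sub, aeval_X, aeval_C, LinearMap.sub_apply, Module.algebraMap_end_apply,
        sub_eq_zero]
    have hb : ∀ c : F, c * c = -1 → (polarForm hQ).TI (LinearMap.ker (aeval T (X - Polynomial.C c))) :=
      fun c hc => (ti_iff hQ h2 _).2 fun v hv => hts c hc v ((hmem c v).1 hv)
    have hb1 := (hb ι hι.symm).two_mul_le RForm.nd_top le_top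
    have hb2 := (hb (-ι) (by rw [neg_mul_neg, ← hι])).two_mul_le RForm.nd_top le_top
    rw [finrank_top, hV] at hb1 hb2
    obtain ⟨U, hU, hUd⟩ := exists_sub (LinearMap.ker (aeval T (X - Polynomial.C ι))) (a := m) (by omega)
    refine ⟨U, hUd, fun v hv => hts ι hι.symm v ((hmem ι v).1 (hU hv)), fun v hv => ?_⟩
    rw [← linHom_apply, show linHom Q g v = ι • v from (hmem ι v).1 (hU hv)]
    exact U.smul_mem ι hv
  · have hns : ¬ IsSquare (-1 : F) := fun h => by
      have h3 : q % 4 ≠ 3 := hq ▸ FiniteField.isSquare_neg_one_iff.1 h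
      omega
    have hirr : Irreducible (X ^ 2 - Polynomial.C (-1 : F)) :=
      X_pow_sub_C_irreducible_of_prime Nat.prime_two fun b hb => hns ⟨b, by rw [← hb, pow_two]⟩
    have hkill : aeval T (X ^ 2 - Polynomial.C (-1 : F)) = 0 :=
      LinearMap.ext fun v => by rw [inv_quarter hTT, LinearMap.zero_apply]
    have hdeg : (X ^ 2 - Polynomial.C (-1 : F)).natDegree = 2 := natDegree_X_pow_sub_C
    obtain ⟨W, C, -, hWi, hWt, -, hCi, hC, -, hdim, hno⟩ :=
      exists_maxTI hT hirr.squarefree hkill (inv_top T) RForm.nd_top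
    obtain ⟨p, hp⟩ := CharP.exists F
    haveI : Fact p.Prime := ⟨CharP.char_is_prime F p⟩
    obtain ⟨k, -, hk⟩ := FiniteField.card F p
    have hTs : T ^ (q + 1) = 1 := by
      obtain ⟨l, hl⟩ : 4 ∣ q + 1 := by omega
      have hT4 : T ^ 4 = 1 := LinearMap.ext fun v => by
        show (T ^ (2 + 2)) v = v
        rw [pow_add, pow_two]
        show T (T (T (T v))) = v
        rw [hTT, hTT, neg_neg]
      rw [hl, pow_mul, hT4, one_pow]
    have hb := finrank_le_natDegree hT ⟨k, by rw [← hq, hk]⟩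
      (fun c => show (RingHom.id F) c = _ by rw [← hq, FiniteField.pow_card]; rfl) hTs hirr
      (by rw [hdeg, pow_two, hq]) hCi hC (fun v _ => by rw [hkill, LinearMap.zero_apply]) hno
    have hu : Uniform (X ^ 2 - Polynomial.C (-1 : F)) 2 := by
      have := uniform_of_irreducible hirr
      rwa [hdeg] at this
    obtain ⟨w, hw⟩ := dvd_finrank hu hWi (fun v _ => by rw [hkill, LinearMap.zero_apply])
    rw [finrank_top, hV] at hdim
    rw [hdeg] at hb
    obtain ⟨m', rfl⟩ := hok.resolve_left h4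
    obtain ⟨U, hU, hUi, hUd⟩ := exists_inv_finrank hu hWi
      (fun v _ => by rw [hkill, LinearMap.zero_apply]) m' (by omega)
    exact ⟨U, by rw [hUd]; omega, (ti_iff hQ h2 U).1 (hWt.mono hU), fun v hv => hUi.mem hv⟩

/-- The criterion for `r = 2`. -/
theorem orth_even_two (hq : Fintype.card F = q) (hQ : Nondeg Q) (h2 : (2 : F) ≠ 0) (hodd : q % 2 = 1)
    (hV : finrank F V = 2 * d) (hsg : sg Q = (-1) ^ par) (hpar : par ≤ 1) (hd : 2 ≤ d) (hmd : m + 1 ≤ d)
    {W₀ : Submodule F V} (h0 : TotSing Q W₀) (h0d : finrank F W₀ = m) :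
    AllFixTwo Q W₀ ↔
      ((q % 4 = 1 ∨ Even m ∨ (d + par) % 2 = 1 ∨ (sqSign (2 : F) ≠ 1 ∧ d % 2 = 1)) ∧
        (q % 4 = 1 ∨ par = 1 ∨ m + 2 ≤ d)) := by
  have htop : sg (restr Q (⊤ : Submodule F V)) = sg Q := sg_congr Submodule.topEquiv fun x => rfl
  have hchi : q % 4 ≠ 1 → chiSign F = -1 := fun h4 =>
    (chiSign_eq (hq ▸ Nat.odd_iff.2 hodd)).2.2 (by rw [hq]; omega)
  have hsq1 : q % 4 ≠ 1 → ¬ IsSquare (-1 : F) := fun h4 h => by
    have h3 : q % 4 ≠ 3 := hq ▸ FiniteField.isSquare_neg_one_iff.1 h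
    omega
  constructor
  · intro hall
    refine ⟨?_, ?_⟩ <;> by_contra hno <;> push Not at hno
    · obtain ⟨h4, hm, hdp, hsp2⟩ := hno
      have hns := hsq1 h4
      obtain ⟨g, hg, -⟩ := exists_quarter hQ h2 d ⊤ (nondeg_restr_top hQ) (by rw [finrank_top, hV])
        (by rw [htop, hsg, hchi h4, neg_one_pow_eq_pow_mod_two, neg_one_pow_eq_pow_mod_two (R := ℤ) (n := d),
          show par % 2 = d % 2 by omega])
      have hg' : ∀ x, (g : V ≃ₗ[F] V) ((g : V ≃ₗ[F] V) x) = -x := fun x => hg x trivial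
      obtain ⟨a, ha, -, -, h, hh, -, hdet, hspin⟩ :=
        quarter_shape hQ h2 g hg' _ ⊤ rfl (nondeg_restr_top hQ) fun _ _ => trivial
      rw [finrank_top, hV] at ha
      have had : a = d := by omega
      subst had
      rw [O.ext_app (g := h) (h := g) fun x => hh x trivial] at hdet hspin
      have hg1 : g ≠ 1 := fun h1 => by
        haveI : Nontrivial V := Module.finrank_pos_iff.1 (show 0 < finrank F V by omega)
        obtain ⟨x, hx⟩ := exists_ne (0 : V)
        have h0 := hg' x
        rw [h1] at h0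
        change x = -x at h0
        exact hx ((smul_eq_zero.1 (show (2 : F) • x = 0 by
          rw [two_smul]; nth_rewrite 1 [h0]; exact neg_add_cancel x)).resolve_left h2)
      have hcom : g ∈ commutator (O Q) := (mem_commutator_iff hQ h2 g).2 ⟨hdet, by
        rw [hspin]
        rcases Int.units_eq_one_or (sqSign (2 : F)) with h5 | h5
        · rw [h5, one_pow]
        · rw [h5, Even.neg_one_pow]
          have := hsp2 (by rw [h5]; decide)
          exact Nat.even_iff.2 (by omega)⟩
      obtain ⟨W, hW, hWi⟩ := hall g hcom hg1 (Or.inr hg')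
      obtain ⟨hWd, -⟩ := (isoOn_ts_iff h0 W).2 hW
      have hirr : Irreducible (X ^ 2 - Polynomial.C (-1 : F)) :=
        X_pow_sub_C_irreducible_of_prime Nat.prime_two fun b hb => hns ⟨b, by rw [← hb, pow_two]⟩
      have hu := uniform_of_irreducible hirr
      rw [natDegree_X_pow_sub_C] at hu
      have hWI : Inv (linHom Q g) W := by
        rintro _ ⟨x, hx, rfl⟩
        exact hWi x hx
      have := dvd_finrank hu hWI (fun v _ => inv_quarter (T := linHom Q g) hg' v)
      rw [hWd, h0d] at this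
      exact hm (even_iff_two_dvd.2 this)
    · obtain ⟨h4, hp1, hmd2⟩ := hno
      obtain ⟨v, hv⟩ := hQ.exists_value (by omega) 1
      have hv0 : Q v ≠ 0 := by rw [hv]; exact one_ne_zero
      have hL : Nondeg (restr Q (Submodule.span F {v})) := nondeg_line h2 hv0
      have hdim := hQ.finrank_add_perp (Submodule.span F {v})
      rw [finrank_span_singleton (fun h : v = 0 => hv0 (by rw [h, QuadraticMap.map_zero]))] at hdim
      obtain ⟨w, hw⟩ := (hQ.nondeg_perp hL).exists_value (by omega) 1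
      rw [restr_apply] at hw
      have hvw : polar Q v (w : V) = 0 := w.2 v (Submodule.mem_span_singleton_self v)
      have hw0 : Q (w : V) ≠ 0 := by rw [hw]; exact one_ne_zero
      obtain ⟨hPn, hPd, hPs⟩ := sg_square_plane h2 hv0 (hw.trans hv.symm) hvw
      rw [hchi h4] at hPs
      set P := Submodule.span F {v, (w : V)}
      set g := rO Q v * rO Q (w : V)
      have hgv : (g : V ≃ₗ[F] V) v = -v := by
        show (rO Q v : V ≃ₗ[F] V) ((rO Q (w : V) : V ≃ₗ[F] V) v) = -v
        rw [rO_fix (show polar Q (w : V) v = 0 by rw [polar_comm]; exact hvw), rO_self hv0]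
      have hgw : (g : V ≃ₗ[F] V) w = -(w : V) := by
        show (rO Q v : V ≃ₗ[F] V) ((rO Q (w : V) : V ≃ₗ[F] V) w) = -(w : V)
        rw [rO_self hw0, map_neg, rO_fix hvw]
      have hgP : ∀ b ∈ perp Q P, (g : V ≃ₗ[F] V) b = b := fun b hb => by
        show (rO Q v : V ≃ₗ[F] V) ((rO Q (w : V) : V ≃ₗ[F] V) b) = b
        rw [rO_fix (hb _ (Submodule.subset_span (by simp))), rO_fix (hb _ (Submodule.subset_span (by simp)))]
      have hg2 : g ^ 2 = 1 := O.ext_app fun x => by
        obtain ⟨a, ha, b, hb, rfl⟩ := Submodule.mem_sup.1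
          ((hQ.isCompl_perp hPn).sup_eq_top.symm ▸ Submodule.mem_top (x := x))
        obtain ⟨s, t, rfl⟩ := Submodule.mem_span_pair.1 ha
        rw [pow_two, Subgroup.coe_mul, mul_app]
        simp only [map_add, map_smul, hgv, hgw, hgP b hb, map_neg, neg_neg, smul_neg]
        rfl
      have hg1 : g ≠ 1 := fun h => by
        rw [h] at hgv
        change v = -v at hgv
        have h3 : v = 0 := (smul_eq_zero.1 (show (2 : F) • v = 0 by
          rw [two_smul]; nth_rewrite 2 [hgv]; exact add_neg_cancel v)).resolve_left h2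
        exact hv0 (by rw [h3, QuadraticMap.map_zero])
      have hcom : g ∈ commutator (O Q) := (mem_commutator_iff hQ h2 g).2 ⟨by
        rw [map_mul, detSign_rO hQ h2 hv0, detSign_rO hQ h2 hw0]; decide, by
        rw [map_mul, spinor_rO hQ h2 hv0, spinor_rO hQ h2 hw0, hv, hw]; exact Int.units_mul_self _⟩
      obtain ⟨W, hW, hWi⟩ := hall g hcom hg1 (Or.inl hg2)
      obtain ⟨hWd, hW0⟩ := (isoOn_ts_iff h0 W).2 hW
      have hWP : W ≤ perp Q P := fun x hx => by
        obtain ⟨a, ha, b, hb, rfl⟩ := Submodule.mem_sup.1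
          ((hQ.isCompl_perp hPn).sup_eq_top.symm ▸ Submodule.mem_top (x := x))
        obtain ⟨s, t, rfl⟩ := Submodule.mem_span_pair.1 ha
        have hz : (2 : F) • (s • v + t • (w : V)) ∈ W := by
          have h3 := W.sub_mem hx (hWi _ hx)
          rwa [map_add, map_add, map_smul, map_smul, hgv, hgw, hgP b hb, smul_neg, smul_neg,
            add_sub_add_right_eq_sub, ← neg_add, sub_neg_eq_add, ← two_smul F] at h3
        have hz' := hW0 _ ((W.smul_mem_iff h2).1 hz)
        have hzero : s • v + t • (w : V) = 0 := by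
          by_contra hne
          have h5 := ts_le hQ (U := Submodule.span F {s • v + t • (w : V)}) hPn (a := 1) (by rw [hPd])
            ((Submodule.span_singleton_le_iff_mem _ _).2 ha) (fun u hu => by
              obtain ⟨c, rfl⟩ := Submodule.mem_span_singleton.1 hu
              rw [qmap_smul, hz', mul_zero])
          rw [finrank_span_singleton hne, dfct_of_sg (s := 1) (by rw [hPs, pow_one])] at h5
          omega
        rw [hzero, zero_add]
        exact hb
      have h6 := perp_parts hQ hPn hV hsg (n := 1) (δ := 1) (by rw [hPd]) (by rw [hPs, pow_one]) hWP hW0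
      omega
  · rintro ⟨hA, hB⟩ g hgc hne hcase
    obtain ⟨hdet, hsp⟩ := (mem_commutator_iff hQ h2 g).1 hgc
    rcases hcase with hg2 | hg'
    · obtain ⟨W, h1, h2', h3⟩ := invol_space hq hQ h2 hV hsg hpar hmd hB g hg2 hdet hsp
      exact ⟨W, (isoOn_ts_iff h0 W).1 ⟨h1.trans h0d.symm, h2'⟩, h3⟩
    · obtain ⟨a, ha, has, -, h', hh, -, -, hsp'⟩ :=
        quarter_shape hQ h2 g hg' _ ⊤ rfl (nondeg_restr_top hQ) fun _ _ => trivial
      rw [finrank_top, hV] at ha
      rw [O.ext_app (g := h') (h := g) fun x => hh x trivial, hsp, show a = d by omega] at hsp'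
      rw [htop, hsg, show a = d by omega] at has
      have hok : q % 4 = 1 ∨ Even m := by
        by_cases h4 : q % 4 = 1
        · exact Or.inl h4
        rw [hchi h4] at has
        have hpd : par % 2 = d % 2 := by
          rw [neg_one_pow_eq_pow_mod_two, neg_one_pow_eq_pow_mod_two (R := ℤ) (n := d)] at has
          rcases Nat.mod_two_eq_zero_or_one par with h5 | h5 <;>
            rcases Nat.mod_two_eq_zero_or_one d with h6 | h6 <;> rw [h5, h6] at has ⊢ <;>
            norm_num at has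
        rcases hA with h5 | h5 | h5 | ⟨h5, h6⟩
        · exact absurd h5 h4
        · exact Or.inr h5
        · omega
        · rw [(Int.units_eq_one_or _).resolve_left h5, Odd.neg_one_pow (Nat.odd_iff.2 h6)] at hsp'
          exact absurd hsp' (by decide)
      obtain ⟨W, h1, h2', h3⟩ := quarter_space hq hQ h2 hodd hV hmd g hg' hok
      exact ⟨W, (isoOn_ts_iff h0 W).1 ⟨h1.trans h0d.symm, h2'⟩, h3⟩

end Cfsg.Agent.Linear.Elusive.Forms
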