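import Cfsg.Agent.Linear.Elusive.Forms.QuadCount
import Cfsg.Agent.Linear.Elusive.Forms.QuadTwo

/-!
The criterion for totally singular subspaces of even-dimensional orthogonal spaces.
-/

set_option autoImplicit false
set_option linter.unusedSectionVars false

namespace Cfsg.Agent.Linear.Elusive.Forms

open Module QuadraticMap Orthogonal H53 H58.Elusive

universe u

variable {F : Type u} [Field F] [Fintype F] {p q r : ℕ} [Fact p.Prime] [CharP F p] [Fact r.Prime]
  {ι : Type} [Fintype ι] [DecidableEq ι] {Q : QuadraticForm F (ι → F)} {d m par : ℕ}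

theorem two_ne_zero_prime (hp2 : p ≠ 2) : (2 : F) ≠ 0 := fun h => by
  rw [show (2 : F) = ((2 : ℕ) : F) by norm_num, CharP.cast_eq_zero_iff F p] at h
  exact hp2 ((Nat.prime_dvd_prime_iff_eq Fact.out Nat.prime_two).1 h)

theorem neg_pow_parity (hr : 2 < r) {a b : ℕ} (h : ((-1 : ZMod r)) ^ a = (-1) ^ b) : a % 2 = b % 2 := by
  have hne : (-1 : ZMod r) ≠ 1 := fun h1 => by
    have h2 : ((2 : ℕ) : ZMod r) = 0 := by push_cast; linear_combination -h1
    rw [ZMod.natCast_eq_zero_iff] at h2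
    have := Nat.le_of_dvd two_pos h2
    omega
  rw [neg_one_pow_eq_pow_mod_two, neg_one_pow_eq_pow_mod_two (R := ZMod r) (n := b)] at h
  rcases Nat.mod_two_eq_zero_or_one a with ha | ha <;>
    rcases Nat.mod_two_eq_zero_or_one b with hb | hb <;> rw [ha, hb] at h ⊢ <;> simp at h
  · exact absurd h.symm hne
  · exact absurd h hne

/-- The criterion. -/
theorem orth_even_iff (hq : Fintype.card F = q) (hQ : Nondeg Q) (hι : Fintype.card ι = 2 * d)
    (hsg : sg Q = (-1) ^ par) (hpar : par ≤ 1) (hd : 4 ≤ d) (hm : 1 ≤ m) (hmd : m + 1 ≤ d)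
    (hrΩ : r ∣ Nat.card {W : Submodule F (ι → F) // finrank F ↥W = m ∧ (∀ w ∈ W, Q w = 0)})
    (i c : ℕ) (hi : i = orderOf (q : ZMod r)) (hc : c = if Even i then i else 2 * i) :
    (∀ x : GL ι F, x ∈ Cfsg.Geo.omegaGL ⇑Q →
      (∃ z : F, ((x ^ r : GL ι F) : Matrix ι ι F) = z • (1 : Matrix ι ι F)) →
      (∀ z : F, (x : Matrix ι ι F) ≠ z • (1 : Matrix ι ι F)) →
      ∃ W : Submodule F (ι → F), (finrank F ↥W = m ∧ (∀ w ∈ W, Q w = 0)) ∧
        W.map (Matrix.toLin' (x : Matrix ι ι F)) ≤ W) ↔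
    ((r = 2 ∧ p ≠ 2 ∧ (q % 4 = 1 ∨ Even m ∨ (d + par) % 2 = 1 ∨ ((q % 8 = 3 ∨ q % 8 = 5) ∧ d % 2 = 1)) ∧
        (q % 4 = 1 ∨ par = 1 ∨ m + 2 ≤ d)) ∨
     (r ≠ p ∧ 2 < r ∧ Odd i ∧ i ≤ m ∧ (2 * (m % i) + 2 * par ≤ (2 * d) % c ∨ (par = 1 ∧ (2 * d) % c = 0))) ∨
     (r ≠ p ∧ 2 < r ∧ Even i ∧ i ≤ m ∧ (r - 1) / i + 2 * (m / i) ≤ (2 * d) / i ∧
       ((2 * (m % i) ≤ i ∧ (2 * d) % c = 0 ∧ ((2 * d) / i + par) % 2 = 1 ∧
          (r - 1) / i + 2 * (m / i) < (2 * d) / i) ∨
        (2 * (m % i) ≤ (2 * d) % c ∧ ((2 * d) / i + par) % 2 = 0) ∨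
        (2 * (m % i) < (2 * d) % c ∧ ((2 * d) / i + par) % 2 = 1)))) := by
  have hV : finrank F (ι → F) = 2 * d := by rw [Module.finrank_fintype_fun_eq_card, hι]
  haveI : Finite (ι → F) := Finite.of_fintype _
  obtain ⟨hrq, S, σ, hS1, hS, hS0, hSodd⟩ := quad_even_count hQ hq hV hsg hmd hrΩ
  have hrp : r ≠ p := fun h => hrq (h ▸ char_dvd (F := F) hq)
  have hi0 : 0 < i := hi ▸ orderOf_pos_of_ne (r := r) hq hrp
  obtain ⟨W₀, h0, h0d⟩ : ∃ W₀ : Submodule F (ι → F), TotSing Q W₀ ∧ finrank F W₀ = m := by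
    obtain ⟨U, -, hU, hUd⟩ := exists_ts (nondeg_restr_top hQ) (a := d) (by rw [finrank_top, hV])
    have := dfct_le (Q := Q) (⊤ : Submodule F (ι → F))
    obtain ⟨U', hU', hU'd⟩ := exists_sub U (a := m) (by omega)
    exact ⟨U', fun w hw => hU w (hU' hw), hU'd⟩
  have hP : ∀ W : Submodule F (ι → F), (finrank F ↥W = m ∧ ∀ w ∈ W, Q w = 0) ↔ IsoOn Q W W₀ := fun W => by
    rw [← h0d]; exact isoOn_ts_iff h0 W
  rcases eq_or_ne r 2 with hr2 | hr2
  · subst hr2
    have hp2 : p ≠ 2 := fun h => hrp h.symm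
    have h2 := two_ne_zero_prime (F := F) (p := p) hp2
    have hodd : q % 2 = 1 := by
      obtain ⟨k, hp', hk⟩ := FiniteField.card F p
      rw [← hq, hk]
      exact Nat.odd_iff.1 ((hp'.odd_of_ne_two hp2).pow)
    rw [forall_scalar_two_iff hQ (by omega) h2 hP (by omega),
      orth_even_two hq hQ h2 hodd hV hsg hpar (by omega) hmd h0 h0d, ne_eq,
      sqSign_two (hq ▸ Nat.odd_iff.2 hodd), hq,
      show (¬(q % 8 = 1 ∨ q % 8 = 7)) = (q % 8 = 3 ∨ q % 8 = 5) from propext (by omega)]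
    constructor
    · exact fun h => Or.inl ⟨rfl, hp2, h⟩
    · rintro (⟨-, -, h⟩ | ⟨-, h, -⟩ | ⟨-, h, -⟩)
      · exact h
      · omega
      · omega
  have hr : 2 < r := by have := (Fact.out : r.Prime).two_le; omega
  rw [forall_scalar_iff hQ (by omega) (by omega) hr2 hP]
  have hspace : (∀ g : O Q, g ^ r = 1 → g ≠ 1 →
      ∃ W : Submodule F (ι → F), finrank F W = m ∧ TotSing Q W ∧ Inv (linHom Q g) W) → AllFix Q W₀ r :=
    fun h g hg hg1 => by
      obtain ⟨W, h1, h2, h3⟩ := h g hg hg1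
      exact ⟨W, (hP W).1 ⟨h1, h2⟩, fun x hx => h3.mem hx⟩
  have hwit : ∀ g : O Q, g ^ r = 1 → g ≠ 1 → (∀ U : Submodule F (ι → F), Inv (linHom Q g) U → TotSing Q U →
      finrank F U ≠ m) → ¬ AllFix Q W₀ r := fun g hg hg1 h hall => by
    obtain ⟨W, hW, hWi⟩ := hall g hg hg1
    refine h W ?_ ((hP W).2 hW).2 ((hP W).2 hW).1
    rintro _ ⟨x, hx, rfl⟩
    exact hWi x hx
  rcases Nat.even_or_odd i with hev | hodd
  · have hnodd : ¬ Odd i := Nat.not_odd_iff_even.2 hev
    rw [if_pos hev] at hc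
    subst c
    obtain ⟨h, hh⟩ := id hev
    rw [← two_mul] at hh
    subst hh
    obtain ⟨t, htdef⟩ : ∃ t, t = (r - 1) / (2 * h) := ⟨_, rfl⟩
    have ht1 : 1 ≤ t := by
      have hne : (q : ZMod r) ≠ 0 := fun h => hrq ((ZMod.natCast_eq_zero_iff q r).1 h)
      rw [htdef]
      exact Nat.div_pos (Nat.le_of_dvd (by omega) (hi ▸ ZMod.orderOf_dvd_card_sub_one hne)) hi0
    have hdm := Nat.div_add_mod' (2 * d) (2 * h)
    have hdm' := Nat.div_add_mod' m (2 * h)
    have hk1 := Nat.mod_lt (2 * d) hi0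
    have hl1 := Nat.mod_lt m hi0
    rw [← htdef]
    constructor
    · intro hall
      refine Or.inr (Or.inr ⟨hrp, hr, hev, ?_⟩)
      by_contra hno
      by_cases him : 2 * h ≤ m
      · obtain ⟨e, s, he, hs, hKd, hval, hb⟩ := arith_even_nec (m := m) (par := par) (show 1 ≤ h by omega)
          ht1 hdm.symm hk1 hdm'.symm hl1 (Nat.div_pos him hi0) hmd
          (fun hc' => hno ⟨him, hc'⟩)
        obtain ⟨g, hg, hg1, hU⟩ := witness_even hq hQ hrp hr hV hsg hi.symm he
          (htdef ▸ hs) hKd hval hb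
        exact hwit g hg hg1 hU hall
      · have hone : (q : ZMod r) ^ (2 * S) = 1 := by
          rw [mul_comm, pow_mul, hS, ← pow_mul, mul_comm, pow_mul, neg_one_sq, one_pow]
        have hdvd : 2 * h ∣ 2 * S := hi ▸ orderOf_dvd_of_pow_eq_one hone
        obtain ⟨K, rfl⟩ := Nat.dvd_of_mul_dvd_mul_left two_pos hdvd
        have hhalf := exists_half (r := r) hq hrp (hi ▸ hev)
        rw [← hi, Nat.mul_div_cancel_left h two_pos, ← ZMod.natCast_eq_zero_iff] at hhalf
        push_cast at hhalf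
        rw [pow_mul, eq_neg_of_add_eq_zero_left hhalf] at hS
        have hpar' := neg_pow_parity hr hS
        obtain ⟨g, hg, hg1, hU⟩ := witness_even (m := m) hq hQ hrp hr hV hsg hi.symm (e := K) (s := 0)
          (by
            rcases Nat.eq_zero_or_pos K with rfl | hK
            · simp at hS1
            · exact hK) (by omega)
          (by rw [Nat.add_zero, mul_comm]; omega)
          (fun hv => by rw [Nat.add_zero, mul_comm] at hv; omega)
          (fun b _ hbm => by
            obtain rfl : b = 0 := by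
              rcases Nat.eq_zero_or_pos b with hb | hb
              · exact hb
              · have := Nat.mul_le_mul_right (2 * h) hb
                omega
            rw [Nat.add_zero, mul_comm K h]
            omega)
        exact hwit g hg hg1 hU hall
    · rintro (⟨h', -⟩ | ⟨-, -, h', -⟩ | ⟨-, -, -, -, hA, hB⟩)
      · exact absurd h' hr2
      · exact absurd h' hnodd
      refine hspace fun g hg hg1 => space_even hq hQ hrp hr hV hsg hi.symm (fun K w _ hKd hKv hw => ?_) g hg hg1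
      exact arith_even_suff (show 1 ≤ h by omega) hdm.symm hk1 hdm'.symm hA hB K w hKd hKv (htdef ▸ hw)
  · have hnev : ¬ Even i := Nat.not_even_iff_odd.2 hodd
    rw [if_neg hnev] at hc
    subst c
    rw [Nat.mul_mod_mul_left]
    have hdm := Nat.div_add_mod' d i
    have hdm' := Nat.div_add_mod' m i
    have hk1 := Nat.mod_lt d hi0
    have hl1 := Nat.mod_lt m hi0
    constructor
    · intro hall
      refine Or.inr (Or.inl ⟨hrp, hr, hodd, ?_⟩)
      by_contra hno
      by_cases him : i ≤ m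
      · obtain ⟨s, hs1, hsd, hsv, hb⟩ := arith_odd_nec (m := m) hpar hi0 hdm.symm hk1 hdm'.symm hl1
          (Nat.div_pos him hi0) hmd (fun hc' => hno ⟨him, by omega⟩)
        obtain ⟨g, hg, hg1, hU⟩ := witness_odd hq hQ hrp hr hV hsg hi.symm hodd hs1 hsd hsv hb
        exact hwit g hg hg1 hU hall
      · have h1 : ((-1 : ZMod r)) ^ (σ * i) = (-1) ^ 0 := by
          rw [pow_mul, ← hS, ← pow_mul, mul_comm, pow_mul, hi, pow_orderOf_eq_one, one_pow, pow_zero]
        have h2 := neg_pow_parity hr h1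
        have hσ : σ % 2 = 0 := by
          rcases Nat.mod_two_eq_zero_or_one σ with h3 | h3
          · exact h3
          · rw [Nat.mul_mod, h3, one_mul, Nat.odd_iff.1 hodd] at h2
            omega
        rw [(Nat.even_iff.2 hσ).neg_one_pow] at hS
        obtain ⟨s, rfl⟩ : i ∣ S := hi ▸ orderOf_dvd_of_pow_eq_one hS
        obtain ⟨g, hg, hg1, hU⟩ := witness_odd (m := m) hq hQ hrp hr hV hsg hi.symm hodd (s := s)
          (by
            rcases Nat.eq_zero_or_pos s with rfl | hs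
            · simp at hS1
            · exact hs)
          (by rw [mul_comm]; omega) (fun hv => by rw [mul_comm] at hv; omega)
          (fun b _ hbm => by
            obtain rfl : b = 0 := by
              rcases Nat.eq_zero_or_pos b with hb | hb
              · exact hb
              · have := Nat.mul_le_mul_right i hb
                omega
            rw [mul_comm s i]
            omega)
        exact hwit g hg hg1 hU hall
    · rintro (⟨h', -⟩ | ⟨-, -, -, -, hB⟩ | ⟨-, -, h', -⟩)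
      · exact absurd h' hr2
      · refine hspace fun g hg hg1 => space_odd hq hQ hrp hr hV hsg hpar hi.symm hodd (fun s _ hsd hsv => ?_) g hg hg1
        exact arith_odd_suff hpar hdm.symm hk1 hdm'.symm hl1 hmd (by omega) s hsd hsv
      · exact absurd h' hnev

end Cfsg.Agent.Linear.Elusive.Forms
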