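import Cfsg.Agent.Linear.Elusive.Forms.QuadTS

/-!
Elements of odd prime order and totally singular subspaces of even-dimensional orthogonal spaces.
-/

set_option autoImplicit false
set_option linter.unusedSectionVars false

namespace Cfsg.Agent.Linear.Elusive.Forms

open Polynomial Module QuadraticMap Orthogonal H53 H58.Elusive

universe u

variable {F : Type u} [Field F] [Fintype F] {p q r : ℕ} [Fact p.Prime] [CharP F p] [Fact r.Prime]
variable {V : Type u} [AddCommGroup V] [Module F V] [FiniteDimensional F V] {Q : QuadraticForm F V}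
  {d m par : ℕ}

theorem pieces_eq (hq : Fintype.card F = q) :
    ii (Nat.card F) r = orderOf (q : ZMod r) := by rw [ii, Nat.card_eq_fintype_card, hq]

/-- The fixed space of an element of order `r`. -/
theorem fix_data (hq : Fintype.card F = q) (hQ : Nondeg Q) (hrp : r ≠ p) (hr2 : 2 < r)
    (hV : finrank F V = 2 * d) (hsg : sg Q = (-1) ^ par) (g : O Q) (hg : g ^ r = 1) (hg1 : g ≠ 1) :
    ∃ (K δ a : ℕ) (U : Submodule F V), 1 ≤ K ∧ U ≤ fixSpace (linHom Q g) ∧ TotSing Q U ∧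
      finrank F U + δ = a ∧ (a = 0 → δ = 0) ∧ finrank F ↥(fixSpace (linHom Q g)) = 2 * a ∧
      2 * a + K * cc (Nat.card F) r = 2 * d ∧
      δ = (if Even (orderOf (q : ZMod r)) then K + par else par) % 2 := by
  have hr2' : r ≠ 2 := by omega
  obtain ⟨hC, -, K, hK, hKm, hKs⟩ := shape hQ hr2' (cast_prime_ne_zero (p := p) hrp) g hg
  rw [hV] at hK
  obtain ⟨u, hu⟩ := (even_cc (r := r) (Nat.card F)).mul_left K
  obtain ⟨a, ha⟩ : Even (finrank F (fixS g)) := ⟨d - u, by omega⟩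
  rw [← two_mul] at ha
  obtain ⟨U, hUA, hU, hUd⟩ := exists_ts hC ha
  have hsgC := sg_perp hQ hC ⟨a, by omega⟩ ⟨d, by omega⟩
  rw [hKs, hsg, ee, pieces_eq hq] at hsgC
  have hδ : dfct Q (fixS g) = (if Even (orderOf (q : ZMod r)) then K + par else par) % 2 := by
    refine dfct_of_sg ?_
    split_ifs at hsgC ⊢
    · have h1 : ((-1 : ℤ) ^ K) * (-1) ^ K = 1 := by
        rw [← pow_add, ← two_mul, pow_mul, neg_one_sq, one_pow]
      rw [pow_add]
      linear_combination (-(-1 : ℤ) ^ K) * hsgC - sg (restr Q (fixS g)) * h1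
    · rw [hsgC, one_pow, mul_one]
  refine ⟨K, _, a, U, ?_, by rw [fixSpace_eq_fixS]; exact hUA, hU, hUd, fun h0 => ?_,
    by rw [fixSpace_eq_fixS, ha], by omega, hδ⟩
  · rcases K with _ | K
    · exfalso
      have htop : fixS g = ⊤ := Submodule.eq_top_of_finrank_eq (by rw [hV]; simpa using hK)
      exact hg1 (O.ext_app fun x => mem_fixS.1 (htop ▸ Submodule.mem_top : x ∈ fixS g))
    · omega
  · unfold dfct
    rw [if_pos (sg_of_zero hC (by omega))]

/-- Gluing a piece of the fixed space and a piece of the moved space. -/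
theorem exists_ts_inv (hq : Fintype.card F = q) (hQ : Nondeg Q) (hrp : r ≠ p) (g : O Q)
    {Wf Wm : Submodule F V} (hf : Wf ≤ fixSpace (linHom Q g)) (hft : TotSing Q Wf)
    (hm : Wm ≤ moveSpace r (linHom Q g)) (hmi : Inv (linHom Q g) Wm) (hmt : (polarForm hQ).TI Wm)
    {a b : ℕ} (ha : a ≤ finrank F Wf) (hb : b * orderOf (q : ZMod r) ≤ finrank F Wm) :
    ∃ W : Submodule F V, finrank F W = a + b * orderOf (q : ZMod r) ∧ TotSing Q W ∧
      Inv (linHom Q g) W := by
  obtain ⟨U, hU, hUd⟩ := exists_sub Wf (a := a) ha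
  obtain ⟨U', hU', hU'i, hU'd⟩ := exists_inv_finrank (uniform_cyclotomic hq hrp) hmi
    (fun v hv => LinearMap.mem_ker.1 (hm hv)) b hb
  have hts := ts_of_ti_move hQ hrp g hm hmi hmt
  refine ⟨U ⊔ U', by rw [finrank_sup_eq (disjoint_spaces hrp _) (hU.trans hf) (hU'.trans hm), hUd, hU'd],
    ?_, ?_⟩
  · intro w hw
    obtain ⟨x, hx, y, hy, rfl⟩ := Submodule.mem_sup.1 hw
    have hxy : polar Q x y = 0 :=
      move_le_perp_fix hrp (iso_g hQ g) (hm (hU' hy)) x (hf (hU hx))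
    rw [map_add_polar, hft x (hU hx), hts y (hU' hy), hxy, add_zero, add_zero]
  · refine Inv.sup ?_ hU'i
    rintro _ ⟨x, hx, rfl⟩
    rw [mem_fixSpace.1 (hf (hU hx))]
    exact hx

/-- Sufficiency for even `i`. -/
theorem space_even (hq : Fintype.card F = q) (hQ : Nondeg Q) (hrp : r ≠ p) (hr2 : 2 < r)
    (hV : finrank F V = 2 * d) (hsg : sg Q = (-1) ^ par) {h : ℕ} (hi : orderOf (q : ZMod r) = 2 * h)
    (H : ∀ K w, 1 ≤ K → K * h ≤ d → (K * h = d → (K + par) % 2 = 0) →
      K ≤ 2 * w + (r - 1) / (2 * h) →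
      ∃ b, b ≤ w ∧ b * (2 * h) ≤ m ∧ m + (K + par) % 2 + K * h ≤ d + b * (2 * h))
    (g : O Q) (hg : g ^ r = 1) (hg1 : g ≠ 1) :
    ∃ W : Submodule F V, finrank F W = m ∧ TotSing Q W ∧ Inv (linHom Q g) W := by
  obtain ⟨K, δ, a, U, hK1, hUA, hU, hUd, h0, ha, hdim, hδ⟩ := fix_data hq hQ hrp hr2 hV hsg g hg hg1
  have hev : Even (orderOf (q : ZMod r)) := hi ▸ even_two_mul h
  have hi0 := orderOf_pos_of_ne (r := r) hq hrp
  rw [if_pos hev] at hδ
  have hii := pieces_eq (F := F) (r := r) hq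
  rw [cc_even (by rw [hii]; exact hev), hii, hi, Nat.mul_left_comm] at hdim
  have hhalf := exists_half (r := r) hq hrp hev
  obtain ⟨k, -, hk⟩ := FiniteField.card F p
  have hTr : linHom Q g ^ r = 1 := linHom_pow_one g hg
  obtain ⟨Wm, hWm, hmi, hmt, hmd⟩ := exists_ti_move_self hrp (iso_g hQ g) hTr
    (s := q ^ (orderOf (q : ZMod r) / 2)) ⟨(k : ℕ) * (orderOf (q : ZMod r) / 2), by rw [← hq, hk, pow_mul]⟩
    (fun c => by
      show (RingHom.id F) c = _
      rw [RingHom.id_apply, ← hq, FiniteField.pow_card_pow]) hhalf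
    (fun f hf hfd => by
      rw [(uniform_cyclotomic hq hrp).2 f hf hfd, hq, ← pow_add]
      congr 1
      omega)
  obtain ⟨w, hw⟩ : orderOf (q : ZMod r) ∣ finrank F Wm :=
    dvd_finrank (uniform_cyclotomic hq hrp) hmi (fun v hv => LinearMap.mem_ker.1 (hWm hv))
  obtain ⟨K', hK', hK''⟩ := dims_total (r := r) hq hrp hTr
  rw [hV, ha, hi, Nat.mul_left_comm] at hK'
  have hne : (q : ZMod r) ≠ 0 := fun hh =>
    not_dvd_q (F := F) hq hrp ((ZMod.natCast_eq_zero_iff q r).1 hh)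
  obtain ⟨t, ht⟩ := ZMod.orderOf_dvd_card_sub_one hne
  have hKK : K' = K := Nat.eq_of_mul_eq_mul_right (show 0 < h by omega) (by omega)
  subst hKK
  rw [hK'', hw, ht, hi] at hmd
  have hKw : K' ≤ 2 * w + t := by
    refine Nat.le_of_mul_le_mul_right ?_ (show 0 < 2 * h by omega)
    rw [Nat.add_mul, Nat.mul_comm t (2 * h), Nat.mul_assoc 2 w, Nat.mul_comm w (2 * h)]
    exact hmd
  rw [hi] at ht
  obtain ⟨b, hbw, hbm, hb⟩ := H K' w hK1 (by omega) (fun hh => by have := h0 (by omega); omega)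
    (by rw [ht, Nat.mul_div_cancel_left _ (show 0 < 2 * h by omega)]; exact hKw)
  obtain ⟨W, h1, h2, h3⟩ := exists_ts_inv hq hQ hrp g hUA hU hWm hmi hmt
    (a := m - b * (2 * h)) (b := b) (by omega)
    (by rw [hw, hi, Nat.mul_comm b]; exact Nat.mul_le_mul_left _ hbw)
  exact ⟨W, by rw [h1, hi]; omega, h2, h3⟩

/-- Sufficiency for odd `i`. -/
theorem space_odd (hq : Fintype.card F = q) (hQ : Nondeg Q) (hrp : r ≠ p) (hr2 : 2 < r)
    (hV : finrank F V = 2 * d) (hsg : sg Q = (-1) ^ par) (hpar : par ≤ 1) {i : ℕ}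
    (hi : orderOf (q : ZMod r) = i) (hodd : Odd i)
    (H : ∀ s, 1 ≤ s → s * i ≤ d → (s * i = d → par = 0) →
      ∃ b, b ≤ s ∧ b * i ≤ m ∧ m + par + s * i ≤ d + b * i)
    (g : O Q) (hg : g ^ r = 1) (hg1 : g ≠ 1) :
    ∃ W : Submodule F V, finrank F W = m ∧ TotSing Q W ∧ Inv (linHom Q g) W := by
  obtain ⟨K, δ, a, U, hK1, hUA, hU, hUd, h0, ha, hdim, hδ⟩ := fix_data hq hQ hrp hr2 hV hsg g hg hg1
  have hnev : ¬ Even (orderOf (q : ZMod r)) := hi ▸ Nat.not_even_iff_odd.2 hodd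
  rw [if_neg hnev] at hδ
  have hii := pieces_eq (F := F) (r := r) hq
  rw [cc_odd (by rw [hii]; exact hnev), hii, hi, Nat.mul_left_comm] at hdim
  have hTr : linHom Q g ^ r = 1 := linHom_pow_one g hg
  have hcop : ∀ f : F[X], Irreducible f → f ∣ cyclotomic r F →
      IsCoprime f ((f.map (polarForm hQ).σ).comp (X ^ (r - 1))) := fun f hf hfd =>
    coprime_twist hrp (polarForm hQ).σ (q₀ := 1) ⟨0, rfl⟩ (fun c => (pow_one c).symm) (fun l hl' => by
      rw [one_mul, hq, ← ZMod.natCast_eq_zero_iff, Nat.cast_add, Nat.cast_one, Nat.cast_pow,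
        add_eq_zero_iff_eq_neg] at hl'
      have h1 := congrArg (fun a : ZMod r => a ^ i) hl'
      simp only [← pow_mul, mul_comm l i] at h1
      rw [pow_mul, ← hi, pow_orderOf_eq_one, one_pow, hi, hodd.neg_one_pow] at h1
      have h3 : ((2 : ℕ) : ZMod r) = 0 := by push_cast; linear_combination h1
      rw [ZMod.natCast_eq_zero_iff] at h3
      have := Nat.le_of_dvd two_pos h3
      omega) hf hfd
  obtain ⟨Wm, hWm, hmi, hmt, hmd⟩ := exists_ti_move hrp (iso_g hQ g) hTr hcop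
  have hfin := split_finrank hrp hTr (inv_top (linHom Q g))
  rw [top_inf_eq, top_inf_eq, finrank_top, hV, ha] at hfin
  obtain ⟨b, hbs, hbm, hb⟩ := H K hK1 (by omega) (fun hh => by have := h0 (by omega); omega)
  obtain ⟨W, h1, h2, h3⟩ := exists_ts_inv hq hQ hrp g hUA hU hWm hmi hmt
    (a := m - b * i) (b := b) (by omega)
    (by rw [hi]; exact (Nat.mul_le_mul_right i hbs).trans (by omega))
  exact ⟨W, by rw [h1, hi]; omega, h2, h3⟩

/-- A subspace for a witness. -/
theorem exists_carrier (hQ : Nondeg Q) (hV : finrank F V = 2 * d) (hsg : sg Q = (-1) ^ par) {n δ : ℕ}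
    (hn : n ≤ d) (hn0 : n = 0 → δ % 2 = 0) (hnd : n = d → (δ + par) % 2 = 0) :
    ∃ X : Submodule F V, Nondeg (restr Q X) ∧ finrank F X = 2 * n ∧ sg (restr Q X) = (-1) ^ δ := by
  obtain ⟨X, -, hX, hXd, hXs⟩ := H58.Elusive.exists_sub_sg (nondeg_restr_top hQ) (a := n)
    (ε := (-1) ^ δ) (neg_one_pow_eq_or ℤ δ) (fun h => (Nat.even_iff.2 (hn0 h)).neg_one_pow) (by
      rw [finrank_top, hV]
      rcases hn.lt_or_eq with h | h
      · exact Or.inl (by omega)
      · refine Or.inr ⟨by omega, ?_⟩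
        have htop : sg (restr Q (⊤ : Submodule F V)) = sg Q := sg_congr Submodule.topEquiv fun x => rfl
        rw [← htop] at hsg
        have := hnd h
        rw [hsg, neg_one_pow_eq_pow_mod_two, neg_one_pow_eq_pow_mod_two (R := ℤ) (n := δ),
          show par % 2 = δ % 2 by omega])
  exact ⟨X, hX, hXd, hXs⟩

theorem perp_parts (hQ : Nondeg Q) {X : Submodule F V} (hX : Nondeg (restr Q X)) (hV : finrank F V = 2 * d)
    (hsg : sg Q = (-1) ^ par) {n δ : ℕ} (hd : finrank F X = 2 * n) (hs : sg (restr Q X) = (-1) ^ δ)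
    {U : Submodule F V} (hUX : U ≤ perp Q X) (hU : TotSing Q U) :
    finrank F U + n + (δ + par) % 2 ≤ d := by
  have hn := hQ.finrank_add_perp X
  obtain ⟨a, ha⟩ : ∃ a, finrank F (perp Q X) = 2 * a := ⟨d - n, by omega⟩
  have hP := hQ.nondeg_perp hX
  have h1 := ts_le hQ hP ha hUX hU
  have h2 := sg_perp hQ hX ⟨n, by omega⟩ ⟨d, by omega⟩
  rw [hsg, hs] at h2
  have h3 : dfct Q (perp Q X) = (δ + par) % 2 := by
    refine dfct_of_sg ?_
    have h4 : ((-1 : ℤ) ^ δ) * (-1) ^ δ = 1 := by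
      rw [← pow_add, ← two_mul, pow_mul, neg_one_sq, one_pow]
    rw [pow_add]
    linear_combination (-(-1 : ℤ) ^ δ) * h2 - sg (restr Q (perp Q X)) * h4
  omega

theorem move_le_of_fix (hQ : Nondeg Q) (hrp : r ≠ p) (g : O Q) {X : Submodule F V}
    (hfix : fixS g = perp Q X) : moveSpace r (linHom Q g) ≤ X := by
  intro v hv
  have h := move_le_perp_fix hrp (iso_g hQ g) hv
  rw [fixSpace_eq_fixS, hfix] at h
  have h2 : v ∈ (polarForm hQ).perp ((polarForm hQ).perp X) := h
  rwa [RForm.perp_perp] at h2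

/-- A witness for odd `i`. -/
theorem witness_odd (hq : Fintype.card F = q) (hQ : Nondeg Q) (hrp : r ≠ p) (hr2 : 2 < r)
    (hV : finrank F V = 2 * d) (hsg : sg Q = (-1) ^ par) {i : ℕ}
    (hi : orderOf (q : ZMod r) = i) (hodd : Odd i) {s : ℕ} (hs1 : 1 ≤ s) (hsd : s * i ≤ d)
    (hval : s * i = d → par % 2 = 0)
    (hb : ∀ b, b ≤ s → b * i ≤ m → d + b * i < m + par % 2 + s * i) :
    ∃ g : O Q, g ^ r = 1 ∧ g ≠ 1 ∧ ∀ U : Submodule F V, Inv (linHom Q g) U → TotSing Q U →
      finrank F U ≠ m := by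
  have hr2' : r ≠ 2 := by omega
  have hi0 : 0 < i := hi ▸ orderOf_pos_of_ne (r := r) hq hrp
  have hnev : ¬ Even (ii (Nat.card F) r) := by rw [pieces_eq hq, hi]; exact Nat.not_even_iff_odd.2 hodd
  obtain ⟨X, hX, hXd, hXs⟩ := exists_carrier hQ hV hsg (n := s * i) (δ := 0) hsd (fun _ => rfl)
    (by simpa using hval)
  obtain ⟨g, hg, hfix⟩ := exists_elem hQ hr2' (cast_prime_ne_zero (p := p) hrp) s X hX
    (by rw [hXd, cc_odd hnev, pieces_eq hq, hi]; ring)
    (by rw [hXs, ee, if_neg hnev, one_pow, pow_zero])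
  have hmove := move_le_of_fix hQ hrp g hfix
  refine ⟨g, hg, fun h1 => ?_, fun U hUi hUt hUm => ?_⟩
  · have h2 := hQ.finrank_add_perp X
    rw [show perp Q X = ⊤ by rw [← hfix, eq_top_iff]; exact fun x _ => mem_fixS.2 (by rw [h1]; rfl),
      finrank_top] at h2
    have := Nat.mul_pos hs1 hi0
    omega
  · have hti : (polarForm hQ).TI U := fun v hv u hu => by
      show polar Q u v = 0
      rw [polar, hUt _ (U.add_mem hu hv), hUt _ hu, hUt _ hv, sub_zero, sub_zero]
    have h1 := split_finrank hrp (linHom_pow_one g hg) hUi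
    obtain ⟨b, hb'⟩ := moveSpace_dvd (r := r) hq hrp U hUi
    rw [hi] at hb'
    have h2 := (hti.mono (inf_le_left : U ⊓ moveSpace r (linHom Q g) ≤ U)).two_mul_le
      ((nd_iff hQ X).2 hX) (inf_le_right.trans hmove)
    rw [hb', hXd, mul_comm i b] at h2
    have h3 := perp_parts hQ hX hV hsg hXd hXs (U := U ⊓ fixSpace (linHom Q g))
      (by rw [fixSpace_eq_fixS, hfix]; exact inf_le_right) (fun w hw => hUt w hw.1)
    rw [hb', mul_comm i b, hUm] at h1
    have h4 := hb b (Nat.le_of_mul_le_mul_right (by omega) hi0) (by omega)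
    simp only [Nat.zero_add] at h3
    omega

/-- A witness for even `i`. -/
theorem witness_even (hq : Fintype.card F = q) (hQ : Nondeg Q) (hrp : r ≠ p) (hr2 : 2 < r)
    (hV : finrank F V = 2 * d) (hsg : sg Q = (-1) ^ par) {h : ℕ}
    (hi : orderOf (q : ZMod r) = 2 * h) {e s : ℕ} (he : 1 ≤ e)
    (hs : s + 1 ≤ (r - 1) / (2 * h)) (hKd : (e + s) * h ≤ d)
    (hval : (e + s) * h = d → (e + s + par) % 2 = 0)
    (hb : ∀ b, 2 * b ≤ e → b * (2 * h) ≤ m → d + b * (2 * h) < m + (e + s + par) % 2 + (e + s) * h) :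
    ∃ g : O Q, g ^ r = 1 ∧ g ≠ 1 ∧ ∀ U : Submodule F V, Inv (linHom Q g) U → TotSing Q U →
      finrank F U ≠ m := by
  have hev : Even (orderOf (q : ZMod r)) := hi ▸ even_two_mul h
  have hh0 : 0 < h := by have := orderOf_pos_of_ne (r := r) hq hrp; omega
  have hKh : 0 < (e + s) * h := Nat.mul_pos (by omega) hh0
  obtain ⟨W, _, _, _, R, T, hR, hRT, hTr, hfree, hWd, hWs, hWb⟩ :=
    exists_free_model hq hrp hr2 hev e s he (by rw [hi]; exact hs)
  rw [hi, Nat.mul_left_comm] at hWd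
  obtain ⟨X, hX, hXd, hXs⟩ := exists_carrier hQ hV hsg (n := (e + s) * h) (δ := e + s) hKd
    (fun h0 => absurd h0 hKh.ne') hval
  obtain ⟨n, hn⟩ : ∃ n, (e + s) * h = n + 1 := ⟨(e + s) * h - 1, by omega⟩
  obtain ⟨E, hE⟩ := H68.EvenOrtho.exists_isometry hX hR (k := n) (by rw [hXd, hn]) (by rw [hWd, hn])
    (hXs ▸ hasSign_sg hX (m := n + 1) (by rw [hXd, hn]))
    (hWs ▸ hasSign_sg hR (m := n + 1) (by rw [hWd, hn]))
  let TX : End F X := E.conjAlgEquiv F T
  have hTXa : ∀ x, TX x = E (T (E.symm x)) := fun x => rfl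
  have hTXi : ∀ x, restr Q X (TX x) = restr Q X x := fun x => by
    rw [hTXa, hE, hRT, ← hE, LinearEquiv.apply_symm_apply]
  let gX : O (restr Q X) := hX.ofLinear TX hTXi
  have hgX : gX ^ r = 1 := linHom_injective (by
    rw [map_pow, map_one, show linHom (restr Q X) gX = TX from LinearMap.ext fun v => rfl,
      ← map_pow, hTr, map_one])
  let g : O Q := glue (hQ.isCompl_perp hX) (perp_ortho X) (gX, 1)
  have hgapp : ∀ (x : X) (y : perp Q X), (g : V ≃ₗ[F] V) ((x : V) + y) = (TX x : V) + y := fun x y =>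
    glue_app _ _ _ x y
  have hfix : fixS g = perp Q X := by
    ext v
    obtain ⟨⟨x, y⟩, rfl⟩ :=
      (Submodule.prodEquivOfIsCompl X (perp Q X) (hQ.isCompl_perp hX)).surjective v
    rw [mem_fixS]
    show (g : V ≃ₗ[F] V) ((x : V) + y) = (x : V) + y ↔ (x : V) + y ∈ perp Q X
    rw [hgapp]
    constructor
    · intro hv
      have h1 : TX x = x := Subtype.ext (add_right_cancel hv)
      have h2 : E.symm x = 0 := hfree _ (by
        conv_rhs => rw [← h1, hTXa, LinearEquiv.symm_apply_apply])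
      rw [E.symm.map_eq_zero_iff] at h2
      simp [h2]
    · intro hv
      have hx : (x : V) ∈ X ⊓ perp Q X := ⟨x.2, by
        have := (perp Q X).sub_mem hv y.2
        rwa [add_sub_cancel_right] at this⟩
      rw [(nondeg_restr_iff X).1 hX, Submodule.mem_bot] at hx
      have hx0 : x = 0 := Subtype.ext hx
      simp [hx0]
  have hmove := move_le_of_fix hQ hrp g hfix
  have hg : g ^ r = 1 := by
    show (glue _ _ (gX, 1)) ^ r = 1
    rw [← map_pow, Prod.pow_mk, hgX, one_pow]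
    exact map_one _
  refine ⟨g, hg, fun h1 => ?_, fun U hUi hUt hUm => ?_⟩
  · have h2 := hQ.finrank_add_perp X
    rw [show perp Q X = ⊤ by rw [← hfix, eq_top_iff]; exact fun x _ => mem_fixS.2 (by rw [h1]; rfl),
      finrank_top] at h2
    omega
  · have h1 := split_finrank hrp (linHom_pow_one g hg) hUi
    obtain ⟨b, hb'⟩ := moveSpace_dvd (r := r) hq hrp U hUi
    set U' := U ⊓ moveSpace r (linHom Q g)
    have hU'X : U' ≤ X := inf_le_right.trans hmove
    have hU'i : Inv (linHom Q g) U' := hUi.inf (inv_ker_aeval _ _)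
    let UW : Submodule F W := (U'.comap X.subtype).map (E.symm : X →ₗ[F] W)
    have hUWd : finrank F UW = finrank F U' := by
      show finrank F ↥((U'.comap X.subtype).map (E.symm : X →ₗ[F] W)) = _
      rw [LinearEquiv.finrank_map_eq]
      exact (Submodule.comapSubtypeEquivOfLe hU'X).finrank_eq
    have hbd : 2 * finrank F UW ≤ e * orderOf (q : ZMod r) := by
      refine hWb UW ?_ ?_
      · rintro _ ⟨_, ⟨x, hx, rfl⟩, rfl⟩
        refine ⟨TX x, ?_, ?_⟩
        · show (TX x : V) ∈ U'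
          have h3 := hU'i.mem (show (x : V) ∈ U' from hx)
          rwa [linHom_apply, show (x : V) = (x : V) + ((0 : perp Q X) : V) by simp, hgapp x 0,
            Submodule.coe_zero, add_zero] at h3
        · show E.symm (TX x) = T (E.symm x)
          rw [hTXa, LinearEquiv.symm_apply_apply]
      · rintro _ ⟨x, hx, rfl⟩
        show R (E.symm x) = 0
        rw [← hE, LinearEquiv.apply_symm_apply, restr_apply]
        exact hUt _ (show (x : V) ∈ U' from hx).1
    have h3 := perp_parts hQ hX hV hsg hXd hXs (U := U ⊓ fixSpace (linHom Q g))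
      (by rw [fixSpace_eq_fixS, hfix]; exact inf_le_right) (fun w hw => hUt w hw.1)
    rw [hi, mul_comm (2 * h) b] at hb'
    rw [hUWd, hb', hi, ← mul_assoc] at hbd
    rw [hb', hUm] at h1
    have h4 := hb b (Nat.le_of_mul_le_mul_right hbd (show 0 < 2 * h by omega)) (by omega)
    omega

end Cfsg.Agent.Linear.Elusive.Forms
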