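import Cfsg.Agent.Linear.Elusive.Forms.SymModels
import Cfsg.Agent.Linear.Elusive.Forms.Quad
import Cfsg.Agent.H58.Elusive.Translate

/-!
Totally singular subspaces in arbitrary characteristic: inside the moved space, inside the fixed space,
and a witness element with few of them.
-/

set_option autoImplicit false
set_option linter.unusedSectionVars false

namespace Cfsg.Agent.Linear.Elusive.Forms

open Polynomial Module QuadraticMap Orthogonal H53 H58.Elusive

universe u

variable {F : Type u} [Field F] [Fintype F] {p q r : ℕ} [Fact p.Prime] [CharP F p] [Fact r.Prime]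
variable {V : Type u} [AddCommGroup V] [Module F V] [FiniteDimensional F V] {Q : QuadraticForm F V}

theorem iso_g (hQ : Nondeg Q) (g : O Q) : (polarForm hQ).Iso (linHom Q g) :=
  iso_linHom hQ fun v => O.map_app g v

theorem fixSpace_eq_fixS (g : O Q) : fixSpace (linHom Q g) = fixS g :=
  Submodule.ext fun v => by rw [mem_fixSpace, mem_fixS, linHom_apply]

/-- In the moved space a totally isotropic invariant subspace is totally singular. -/
theorem ts_of_ti_move (hQ : Nondeg Q) (hrp : r ≠ p) (g : O Q) {U : Submodule F V}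
    (hU : U ≤ moveSpace r (linHom Q g)) (hUi : Inv (linHom Q g) U) (hUt : (polarForm hQ).TI U) :
    TotSing Q U := by
  set T := linHom Q g
  let f : ↥U →ₗ[F] ↥U :=
    ((T - 1).comp U.subtype).codRestrict U fun x => U.sub_mem (hUi.mem x.2) x.2
  have hinj : Function.Injective f := by
    rw [← LinearMap.ker_eq_bot, eq_bot_iff]
    intro x hx
    have h : T x = x := sub_eq_zero.1 (congrArg Subtype.val (LinearMap.mem_ker.1 hx))
    exact (Submodule.mem_bot F).2 (Subtype.ext (Submodule.disjoint_def.1 (disjoint_spaces hrp T) x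
      (mem_fixSpace.2 h) (hU x.2)))
  intro w hw
  obtain ⟨y, hy⟩ := (LinearMap.injective_iff_surjective.1 hinj) ⟨w, hw⟩
  have hy' : w = T y + (-1 : F) • (y : V) := by
    rw [neg_one_smul, ← sub_eq_add_neg]
    exact (congrArg Subtype.val hy).symm
  have h1 : polar Q (T y) y = 0 := hUt y.2 _ (hUi.mem y.2)
  have h2 : polar Q (y : V) y = 0 := hUt y.2 _ y.2
  rw [polar_self'] at h2
  rw [hy', map_add_polar, qmap_smul, polar_smul_right', h1, linHom_apply, O.map_app]
  linear_combination h2

/-- The defect of the Witt index. -/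
noncomputable def dfct (Q : QuadraticForm F V) (A : Submodule F V) : ℕ :=
  if sg (restr Q A) = 1 then 0 else 1

theorem dfct_le (A : Submodule F V) : dfct Q A ≤ 1 := by
  unfold dfct; split_ifs <;> omega

theorem dfct_of_sg {A : Submodule F V} {s : ℕ} (h : sg (restr Q A) = (-1) ^ s) : dfct Q A = s % 2 := by
  unfold dfct
  rcases Nat.even_or_odd s with hs | hs
  · rw [h, hs.neg_one_pow, if_pos rfl, Nat.even_iff.1 hs]
  · rw [h, hs.neg_one_pow, if_neg (by decide), Nat.odd_iff.1 hs]

theorem ts_le (hQ : Nondeg Q) {A U : Submodule F V} {a : ℕ} (hA : Nondeg (restr Q A))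
    (hd : finrank F A = 2 * a) (hUA : U ≤ A) (hU : TotSing Q U) : finrank F U + dfct Q A ≤ a := by
  have ht : (polarForm hQ).TI U := fun v hv u hu => by
    show polar Q u v = 0
    rw [polar, hU _ (U.add_mem hu hv), hU _ hu, hU _ hv, sub_zero, sub_zero]
  have h1 := ht.two_mul_le ((nd_iff hQ A).2 hA) hUA
  unfold dfct
  split_ifs with h
  · omega
  · rcases eq_or_ne (finrank F U) a with he | hne
    · exact absurd ((sg_restr_eq_one_iff hA hd).2 ⟨U, hUA, hU, he⟩) h
    · omega

theorem exists_ts {A : Submodule F V} {a : ℕ} (hA : Nondeg (restr Q A)) (hd : finrank F A = 2 * a) :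
    ∃ U ≤ A, TotSing Q U ∧ finrank F U + dfct Q A = a := by
  unfold dfct
  split_ifs with h
  · exact (sg_restr_eq_one_iff hA hd).1 h
  · have ha : a ≠ 0 := fun h0 => h (sg_of_zero hA (by omega))
    obtain ⟨Z, hZA, hZn, hZd, hZs⟩ := exists_sub_sg hA (a := a - 1) (ε := 1) (Or.inl rfl) (fun _ => rfl)
      (Or.inl (by omega))
    obtain ⟨U, hUZ, hU, hUd⟩ := (sg_restr_eq_one_iff hZn hZd).1 hZs
    exact ⟨U, hUZ.trans hZA, hU, by omega⟩

/-- The quadratic form of a fixed-point-free isometry of a symmetric form. -/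
theorem exists_quad_of_free {W : Type u} [AddCommGroup W] [Module F W] [FiniteDimensional F W]
    (φ : RForm F W) (hσ : φ.σ = RingHom.id F) (hε : φ.ε = 1) {T : End F W} (hT : φ.Iso T)
    (hinj : ∀ v, T v = v → v = 0) :
    ∃ (R : QuadraticForm F W) (hR : Nondeg R),
      (∀ v, R (T v) = R v) ∧ ∀ U : Submodule F W, (polarForm hR).TI U → φ.TI U := by
  obtain ⟨σ, ε, B, invol, flip, nondeg⟩ := φ
  change σ = RingHom.id F at hσ
  change ε = 1 at hε
  subst hσ hε
  have hsym : ∀ u v, B v u = B u v := fun u v => by rw [flip, one_mul]; rfl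
  have hT' : ∀ u v, B (T u) (T v) = B u v := hT
  have hi : Function.Injective (T - 1 : End F W) := by
    rw [← LinearMap.ker_eq_bot, eq_bot_iff]
    intro v hv
    exact (Submodule.mem_bot F).2 (hinj v (sub_eq_zero.1 hv))
  let E := LinearEquiv.ofInjectiveEndo (T - 1 : End F W) hi
  let R : QuadraticForm F W := -LinearMap.BilinMap.toQuadraticMap (B.compl₂ E.symm.toLinearMap)
  have hRa : ∀ v, R (E v) = -B (E v) v := fun v => by
    show -B (E v) (E.symm (E v)) = _
    rw [E.symm_apply_apply]
  have hEv : ∀ v, E v = T v - v := fun v => rfl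
  have hpol : ∀ u v, polar R u v = B u v := fun u v => by
    obtain ⟨a, rfl⟩ := E.surjective u
    obtain ⟨b, rfl⟩ := E.surjective v
    rw [polar, ← map_add, hRa, hRa, hRa, hEv, hEv, hEv]
    simp only [map_add, map_sub, LinearMap.add_apply, LinearMap.sub_apply, hT', hsym a b]
    rw [hsym (T b) a]
    ring
  refine ⟨R, fun v hv => nondeg v fun w => ?_, fun v => ?_, fun U hU v hv u hu => ?_⟩
  · rw [← hpol]; exact hv w
  · obtain ⟨a, rfl⟩ := E.surjective v
    have : T (E a) = E (T a) := by rw [hEv, hEv, map_sub]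
    rw [this, hRa, hRa, ← this, hT']
  · show B u v = 0
    rw [← hpol]; exact hU hv u hu

/-- A fixed-point-free element of order `r` with few totally singular invariant subspaces. -/
theorem exists_free_model (hq : Fintype.card F = q) (hrp : r ≠ p) (hr2 : 2 < r)
    (hev : Even (orderOf (q : ZMod r))) (e s : ℕ) (he : 1 ≤ e)
    (hst : s + 1 ≤ (r - 1) / orderOf (q : ZMod r)) :
    ∃ (W : Type u) (_ : AddCommGroup W) (_ : Module F W) (_ : FiniteDimensional F W)
      (R : QuadraticForm F W) (T : End F W),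
      Nondeg R ∧ (∀ v, R (T v) = R v) ∧ T ^ r = 1 ∧ (∀ v, T v = v → v = 0) ∧
      finrank F W = (e + s) * orderOf (q : ZMod r) ∧ sg R = (-1) ^ (e + s) ∧
      ∀ U : Submodule F W, Inv T U → TotSing R U → 2 * finrank F U ≤ e * orderOf (q : ZMod r) := by
  let ψ : RForm F (Fin 0 → F) :=
    { σ := RingHom.id F, ε := 1, B := 0, invol := fun _ => rfl,
      flip := fun u v => by simp,
      nondeg := fun v _ => Subsingleton.elim _ _ }
  obtain ⟨W, _, _, _, φ, T, hσ, hε, hT, hTr, hdim, hfix, hb⟩ :=
    exists_self_sym hq hrp hr2 hev ψ rfl rfl e s he hst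
  rw [Module.finrank_fin_fun] at hdim hfix
  rw [zero_add] at hdim
  have hfix0 := Submodule.finrank_eq_zero.1 hfix
  have hfree : ∀ v, T v = v → v = 0 := fun v hv => by
    have h : v ∈ fixSpace T := mem_fixSpace.2 hv
    rwa [hfix0, Submodule.mem_bot] at h
  obtain ⟨R, hR, hRT, hTI⟩ := exists_quad_of_free φ hσ hε hT hfree
  refine ⟨W, _, _, inferInstance, R, T, hR, hRT, hTr, hfree, hdim, ?_, fun U hUi hUt => ?_⟩
  · let g : O R := hR.ofLinear T hRT
    have hlin : linHom R g = T := LinearMap.ext fun v => rfl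
    have hg : g ^ r = 1 := linHom_injective (by rw [map_pow, map_one, hlin, hTr])
    have hr2' : r ≠ 2 := by omega
    obtain ⟨u, hu, hus⟩ := free_shape hR hr2' (cast_prime_ne_zero (p := p) hrp) g hg hfree
    have hii : ii (Nat.card F) r = orderOf (q : ZMod r) := by rw [ii, Nat.card_eq_fintype_card, hq]
    rw [cc_even (hii ▸ hev), hii, hdim] at hu
    rw [hus, ee, if_pos (hii ▸ hev),
      Nat.eq_of_mul_eq_mul_right (orderOf_pos_of_ne (r := r) hq hrp) hu]
  · have hUR : (polarForm hR).TI U := fun v hv u hu => by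
      show polar R u v = 0
      rw [polar, hUt _ (U.add_mem hu hv), hUt _ hu, hUt _ hv, sub_zero, sub_zero]
    have hmove : moveSpace r T = ⊤ := by
      have h := split_finrank hrp hTr (inv_top T)
      rw [top_inf_eq, top_inf_eq, hfix0, finrank_bot, zero_add] at h
      exact Submodule.eq_top_of_finrank_eq (by rw [← h, finrank_top])
    have := hb U hUi (hTI U hUR)
    rwa [hmove, inf_top_eq] at this

end Cfsg.Agent.Linear.Elusive.Forms
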