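import Cfsg.Agent.Linear.Elusive.Forms.SympModels

/-!
Witness isometries of symmetric forms.
-/

set_option autoImplicit false
set_option linter.unusedSectionVars false

namespace Cfsg.Agent.Linear.Elusive.Forms

open Polynomial Module

universe u v w

variable {F : Type u} [Field F] [Fintype F] {p q r : ℕ} [Fact p.Prime] [CharP F p] [Fact r.Prime]

theorem finrank_ker_one {W : Type v} [AddCommGroup W] [Module F W] [FiniteDimensional F W] (g : F[X])
    (hg : g.eval 1 ≠ 0) : finrank F (LinearMap.ker (aeval (1 : End F W) g)) = 0 := by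
  rw [← map_one (algebraMap F (End F W)), aeval_algebraMap_apply, Submodule.finrank_eq_zero,
    LinearMap.ker_eq_bot']
  intro v hv
  rw [coe_aeval_eq_eval, Module.algebraMap_end_apply, smul_eq_zero] at hv
  exact hv.resolve_left hg

theorem finrank_fix_one {W : Type v} [AddCommGroup W] [Module F W] [FiniteDimensional F W] :
    finrank F (LinearMap.ker (aeval (1 : End F W) (X - 1 : F[X]))) = finrank F W := by
  rw [map_sub, aeval_X, map_one, sub_self, LinearMap.ker_zero, finrank_top]

/-- Blocks on which the isometry acts irreducibly. -/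
theorem exists_self_sym (hq : Fintype.card F = q) (hrp : r ≠ p) (hr2 : 2 < r)
    (hev : Even (orderOf (q : ZMod r))) {W : Type u} [AddCommGroup W] [Module F W] [FiniteDimensional F W] (ψ : RForm F W)
    (hψσ : ψ.σ = RingHom.id F) (hψε : ψ.ε = 1) (e s : ℕ) (he : 1 ≤ e)
    (hst : s + 1 ≤ (r - 1) / orderOf (q : ZMod r)) :
    ∃ (V : Type u) (_ : AddCommGroup V) (_ : Module F V) (_ : FiniteDimensional F V) (φ : RForm F V)
      (T : End F V), φ.σ = RingHom.id F ∧ φ.ε = 1 ∧ φ.Iso T ∧ T ^ r = 1 ∧
      finrank F V = finrank F W + (e + s) * orderOf (q : ZMod r) ∧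
      finrank F ↥(fixSpace T) = finrank F W ∧
      ∀ U : Submodule F V, Inv T U → φ.TI U →
        2 * finrank F ↥(U ⊓ moveSpace r T) ≤ e * orderOf (q : ZMod r) := by
  classical
  have hj0 := orderOf_pos_of_ne (r := r) hq hrp
  have hhalf := exists_half hq hrp hev
  have hroots := exists_roots (r := r) hq hrp
  obtain ⟨j, hj⟩ : ∃ j, j = orderOf (q : ZMod r) := ⟨_, rfl⟩
  rw [← hj] at hj0 hhalf hroots hev hst ⊢
  obtain ⟨E, _, _, _, hE, a, har, ha1, hinj⟩ := hroots
  obtain ⟨h, hh⟩ := hev
  haveI : Module.Finite F E := Module.Finite.of_finite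
  haveI : CharP E p := charP_of_injective_algebraMap (algebraMap F E).injective p
  obtain ⟨k, -, hk⟩ := FiniteField.card F p
  rw [show j / 2 = h by omega, ← hq, hk, ← pow_mul] at hhalf
  let τ := iterateFrobenius E p ((k : ℕ) * h)
  have hτd : ∀ z : E, τ z = z ^ Fintype.card F ^ h := fun z => by
    rw [iterateFrobenius_def, hk, ← pow_mul]
  have hcF : ∀ x : F, x ^ Fintype.card F ^ h = x := fun x => FiniteField.pow_card_pow _ x
  have hτ : ∀ x : F, τ (algebraMap F E x) = algebraMap F E ((RingHom.id F) x) := fun x => by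
    rw [hτd, ← map_pow, hcF]
    rfl
  have htr : ∀ z : E, (RingHom.id F) (Algebra.trace F E z) = Algebra.trace F E (τ z) := fun z => by
    rw [iterateFrobenius_def, trace_pow_char, pow_mul p, ← hk, hcF]
    rfl
  have hττ : ∀ z : E, τ (τ z) = z := fun z => by
    haveI : Fintype E := Fintype.ofFinite E
    rw [hτd, hτd, ← pow_mul, ← pow_add, ← hh, ← hE,
      ← Module.card_eq_pow_finrank (K := F) (V := E), FiniteField.pow_card]
  have hτinv : ∀ i, a i * τ (a i) = 1 := fun i => by
    obtain ⟨l, hl⟩ := hhalf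
    rw [iterateFrobenius_def, ← pow_succ', hl, pow_mul, har, one_pow]
  let i0 : Fin ((r - 1) / j) := ⟨0, by omega⟩
  let cl : Fin e ⊕ Fin s → Fin ((r - 1) / j) :=
    Sum.elim (fun _ => i0) fun x => ⟨(x : ℕ) + 1, by have := x.isLt; omega⟩
  let A : Fin e ⊕ Fin s → E := fun x => a (cl x)
  let φ := prodForm (selfForm (ι := Fin e ⊕ Fin s) (RingHom.id F) 1 τ (fun _ => rfl)
    hτ htr hττ 1 one_ne_zero (by simp)) ψ hψσ.symm hψε.symm
  let T := LinearMap.prodMap (mulEnd (F := F) A) (1 : End F W)
  have hT : φ.Iso T := iso_prodForm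
    (iso_selfForm _ _ _ _ _ _ _ _ _ _ fun x => hτinv (cl x)) iso_one
  have hTr : T ^ r = 1 := by
    rw [prodMap_pow', mulEnd_pow, one_pow]
    refine LinearMap.ext fun x => Prod.ext (funext fun i => ?_) rfl
    simp [mulEnd_apply, A, har]
  have hker : ∀ g : F[X], g ∣ cyclotomic r F →
      finrank F (LinearMap.ker (aeval T g)) = j * Nat.card {x // aeval (A x) g = 0} := fun g hg => by
    rw [aeval_prodMap, finrank_ker_prodMap, finrank_ker_one g (eval_one_ne_zero hrp hg),
      add_zero, aeval_mulEnd, finrank_ker_mulEnd, hE]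
  refine ⟨_, _, _, inferInstance, φ, T, rfl, rfl, hT, hTr, ?_, ?_, fun U hUi hUt => ?_⟩
  · rw [Module.finrank_prod, Module.finrank_pi_fintype, Finset.sum_const, Finset.card_univ, smul_eq_mul,
      Fintype.card_sum, Fintype.card_fin, Fintype.card_fin, hE, add_comm]
  · rw [fixSpace, aeval_prodMap, finrank_ker_prodMap, finrank_fix_one,
      finrank_fix_move_part fun x => ha1 (cl x), zero_add]
  · have hroot : aeval (a i0) (cyclotomic r F) = 0 := by
      have h0 : aeval (a i0) ((X - 1 : F[X]) * cyclotomic r F) = 0 := by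
        rw [X_sub_one_mul_cyclotomic, map_sub, map_pow, aeval_X, map_one, har, sub_self]
      rw [map_mul, mul_eq_zero, map_sub, aeval_X, map_one, sub_eq_zero] at h0
      exact h0.resolve_left (ha1 i0)
    have hgs := minpoly.irreducible (Algebra.IsIntegral.isIntegral (R := F) (a i0))
    obtain ⟨P, hP⟩ := minpoly.dvd F (a i0) hroot
    have hiff : ∀ (g : F[X]) x, Irreducible g → aeval (a x) g = 0 → Associated (minpoly F (a x)) g :=
      fun g x hg h0 => (minpoly.irreducible (Algebra.IsIntegral.isIntegral (a x))).associated_of_dvd hg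
        (minpoly.dvd F (a x) h0)
    have hsame : ∀ x y, Associated (minpoly F (a x)) (minpoly F (a y)) → x = y := fun x y h =>
      hinj (eq_of_monic_of_associated (minpoly.monic (Algebra.IsIntegral.isIntegral _))
        (minpoly.monic (Algebra.IsIntegral.isIntegral _)) h)
    have hb := ti_move_le hq hrp hT hTr (s := Fintype.card F ^ h) ⟨(k : ℕ) * h, by rw [hk, pow_mul]⟩
      (fun x => (hcF x).symm) (by rw [hk, ← pow_mul]; exact hhalf) hP (fun g hg hgP => by
        rw [hker g (hgP.trans ⟨_, by rw [hP, mul_comm]⟩), ← hj]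
        refine (Nat.mul_le_mul_left _ ?_).trans (mul_one _).le
        rw [Finite.card_le_one_iff_subsingleton]
        refine ⟨fun ⟨x, hx⟩ ⟨y, hy⟩ => Subtype.ext ?_⟩
        have hx' := hiff g _ hg hx
        have hxy := hsame _ _ (hx'.trans (hiff g _ hg hy).symm)
        have hne : cl x ≠ i0 := fun h0 => by
          rw [h0] at hx'
          have hsq : Squarefree (minpoly F (a i0) * P) :=
            hP ▸ (separable_pow_sub_one (F := F) hrp).squarefree.squarefree_of_dvd
              ⟨X - 1, (cyclotomic_prime_mul_X_sub_one F r).symm⟩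
          exact hgs.not_isUnit (hsq _ (mul_dvd_mul_left _ (hx'.dvd.trans hgP)))
        rcases x with x | x <;> rcases y with y | y <;> simp [cl, i0, Fin.ext_iff] at hxy hne ⊢
        omega) hUi hUt
    refine hb.trans ?_
    rw [hker _ ⟨P, hP⟩, mul_comm]
    refine Nat.mul_le_mul_right _ ?_
    refine (Nat.card_le_card_of_injective
      (fun x : {x // aeval (A x) (minpoly F (a i0)) = 0} =>
        (Sum.elim id (fun _ => (⟨0, he⟩ : Fin e)) x.1 : Fin e)) ?_).trans (Nat.card_fin e).le
    rintro ⟨x, hx⟩ ⟨y, hy⟩ hxy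
    have hx' := hsame _ _ (hiff _ _ hgs hx)
    have hy' := hsame _ _ (hiff _ _ hgs hy)
    rcases x with x | x <;> rcases y with y | y <;>
      simp [cl, i0, Fin.ext_iff] at hxy hx' hy' ⊢
    omega

/-- Hyperbolic pairs of irreducible summands. -/
theorem exists_pair_sym (hq : Fintype.card F = q) (hrp : r ≠ p) {W : Type u} [AddCommGroup W] [Module F W]
    [FiniteDimensional F W] (ψ : RForm F W) (hψσ : ψ.σ = RingHom.id F) (hψε : ψ.ε = 1) (N : ℕ) :
    ∃ (V : Type u) (_ : AddCommGroup V) (_ : Module F V) (_ : FiniteDimensional F V) (φ : RForm F V)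
      (T : End F V), φ.σ = RingHom.id F ∧ φ.ε = 1 ∧ φ.Iso T ∧ T ^ r = 1 ∧
      finrank F V = finrank F W + 2 * N * orderOf (q : ZMod r) ∧ finrank F ↥(fixSpace T) = finrank F W := by
  classical
  obtain ⟨E, _, _, _, hE, a, har, ha1, -⟩ := exists_roots (r := r) hq hrp
  have hr2 := (Fact.out : r.Prime).two_le
  have hj0 := orderOf_pos_of_ne (r := r) hq hrp
  have hne : (q : ZMod r) ≠ 0 := fun h =>
    not_dvd_q (F := F) hq hrp ((ZMod.natCast_eq_zero_iff q r).1 h)
  let i0 : Fin ((r - 1) / orderOf (q : ZMod r)) := ⟨0,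
    Nat.div_pos (Nat.le_of_dvd (by omega) (ZMod.orderOf_dvd_card_sub_one hne)) hj0⟩
  haveI : Module.Finite F E := Module.Finite.of_finite
  have ha0 : a i0 ≠ 0 := fun h => by
    have := har i0
    rw [h, zero_pow (by omega)] at this
    exact zero_ne_one this
  let A : Fin N ⊕ Fin N → E := Sum.elim (fun _ => a i0) fun _ => (a i0)⁻¹
  have hA : ∀ x, A x ^ r = 1 ∧ A x ≠ 1 := by
    rintro (x | x)
    · exact ⟨har i0, ha1 i0⟩
    · exact ⟨by simp [A, har], fun h => ha1 i0 (inv_eq_one.1 h)⟩
  refine ⟨_, _, _, inferInstance, prodForm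
    (pairForm (E := E) (ι := Fin N) (RingHom.id F) 1 (RingHom.id E) (fun _ => rfl) (fun _ => rfl)
      (by simp)) ψ hψσ.symm hψε.symm,
    LinearMap.prodMap (mulEnd (F := F) A) (1 : End F W),
    rfl, rfl, iso_prodForm (iso_pairForm _ _ _ _ _ _ fun _ => by simp [A, ha0]) iso_one, ?_, ?_, ?_⟩
  · rw [prodMap_pow', mulEnd_pow, one_pow]
    refine LinearMap.ext fun x => Prod.ext (funext fun i => ?_) rfl
    simp [mulEnd_apply, (hA i).1]
  · rw [Module.finrank_prod, Module.finrank_pi_fintype, Finset.sum_const, Finset.card_univ,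
      smul_eq_mul, Fintype.card_sum, Fintype.card_fin, hE, ← two_mul, add_comm]
  · rw [fixSpace, aeval_prodMap, finrank_ker_prodMap, finrank_fix_one,
      finrank_fix_move_part fun x => (hA x).2, zero_add]

end Cfsg.Agent.Linear.Elusive.Forms
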