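import Cfsg.Agent.Linear.Elusive.Forms.Models
import Cfsg.Agent.Linear.Elusive.Forms.Bound
import Cfsg.Agent.Symplectic.AltStd

/-!
Witnesses for the symplectic groups.
-/

set_option autoImplicit false
set_option linter.unusedSectionVars false

namespace Cfsg.Agent.Linear.Elusive.Forms

open Polynomial Module

universe u v w

variable {F : Type u} [Field F] [Fintype F] {p q r : ℕ} [Fact p.Prime] [CharP F p] [Fact r.Prime]

theorem trace_eq_zero_of_frob {E : Type u} [Field E] [Algebra F E] [Finite E] {h : ℕ}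
    (hE : finrank F E = 2 * h) {z : E} (hz : z ^ Fintype.card F ^ h = -z) :
    Algebra.trace F E z = 0 := by
  haveI : Module.Finite F E := Module.Finite.of_finite
  obtain ⟨p, hp⟩ := CharP.exists F
  haveI : Fact p.Prime := ⟨CharP.char_is_prime F p⟩
  haveI : CharP E p := charP_of_injective_algebraMap (algebraMap F E).injective p
  obtain ⟨k, -, hk⟩ := FiniteField.card F p
  apply (algebraMap F E).injective
  rw [map_zero, FiniteField.algebraMap_trace_eq_sum_pow, hE, two_mul, Finset.sum_range_add,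
    ← Finset.sum_add_distrib]
  refine Finset.sum_eq_zero fun l _ => ?_
  rw [Nat.card_eq_fintype_card, pow_add, pow_mul, hz, hk, ← pow_mul,
    ← iterateFrobenius_def (R := E) p ((k : ℕ) * l) (-z), map_neg, iterateFrobenius_def, add_neg_cancel]

theorem exists_half (hq : Fintype.card F = q) (hrp : r ≠ p)
    (hev : Even (orderOf (q : ZMod r))) :
    r ∣ q ^ (orderOf (q : ZMod r) / 2) + 1 := by
  have h0 := orderOf_pos_of_ne (r := r) hq hrp
  obtain ⟨h, hh⟩ := hev
  rw [hh, show (h + h) / 2 = h by omega, ← ZMod.natCast_eq_zero_iff]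
  push_cast
  have h1 : ((q : ZMod r) ^ h - 1) * ((q : ZMod r) ^ h + 1) = 0 := by
    rw [show ((q : ZMod r) ^ h - 1) * ((q : ZMod r) ^ h + 1) = (q : ZMod r) ^ (h + h) - 1 by ring,
      ← hh, pow_orderOf_eq_one, sub_self]
  exact (mul_eq_zero.1 h1).resolve_left fun hc => by
    have := Nat.le_of_dvd (by omega) (orderOf_dvd_of_pow_eq_one (sub_eq_zero.1 hc))
    omega

/-- The standard hyperbolic form. -/
noncomputable def hypForm (F : Type u) [Field F] [Finite F] (f : ℕ) :
    RForm F (Fin f ⊕ Fin f → F) :=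
  pairForm (RingHom.id F) (-1) (RingHom.id F) (fun _ => rfl) (fun _ => rfl) (by simp)

theorem hypForm_alt (f : ℕ) (x : Fin f ⊕ Fin f → F) : (hypForm F f).B x x = 0 := by
  show ∑ k, (Algebra.trace F F (x (.inl k) * x (.inr k)) +
    (-1) * Algebra.trace F F (x (.inl k) * x (.inr k))) = 0
  simp

theorem finrank_ker_fix_part {ι : Type w} [Fintype ι] (g : F[X]) (hg : g.eval 1 ≠ 0) :
    finrank F (LinearMap.ker (aeval (mulEnd (F := F) (fun _ : ι => (1 : F))) g)) = 0 := by
  rw [aeval_mulEnd, finrank_ker_mulEnd]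
  exact mul_eq_zero_of_right _ (Nat.card_eq_zero.2 (Or.inl ⟨fun k => hg (by simpa using k.2)⟩))

theorem finrank_fix_fix_part {ι : Type w} [Fintype ι] :
    finrank F (LinearMap.ker (aeval (mulEnd (F := F) (fun _ : ι => (1 : F))) (X - 1 : F[X]))) =
      Fintype.card ι := by
  rw [aeval_mulEnd, finrank_ker_mulEnd, Module.finrank_self, one_mul,
    Nat.card_congr (Equiv.subtypeUnivEquiv fun _ => by simp), Nat.card_eq_fintype_card]

theorem finrank_fix_move_part {E : Type u} [Field E] [Algebra F E] [Finite E] {ι : Type w}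
    [Fintype ι] {a : ι → E} (ha : ∀ k, a k ≠ 1) :
    finrank F (LinearMap.ker (aeval (mulEnd (F := F) a) (X - 1 : F[X]))) = 0 := by
  rw [aeval_mulEnd, finrank_ker_mulEnd]
  exact mul_eq_zero_of_right _ (Nat.card_eq_zero.2 (Or.inl ⟨fun k => ha k.1 (by
    simpa [sub_eq_zero] using k.2)⟩))

theorem eval_one_ne_zero (hrp : r ≠ p) {g : F[X]} (hg : g ∣ cyclotomic r F) : g.eval 1 ≠ 0 :=
  fun h => cast_ne_zero (F := F) (p := p) hrp (by
    obtain ⟨c, hc⟩ := hg
    rw [← eval_one_cyclotomic_prime (R := F) (p := r), hc, eval_mul, h, zero_mul])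

/-- Blocks on which the isometry acts irreducibly. -/
theorem exists_self_model (hq : Fintype.card F = q) (hrp : r ≠ p) (hr2 : 2 < r)
    (hev : Even (orderOf (q : ZMod r))) (f e s : ℕ) (he : 1 ≤ e)
    (hst : s + 1 ≤ (r - 1) / orderOf (q : ZMod r)) :
    ∃ (V : Type u) (_ : AddCommGroup V) (_ : Module F V) (_ : FiniteDimensional F V) (φ : RForm F V)
      (T : End F V), φ.σ = RingHom.id F ∧ (∀ x, φ.B x x = 0) ∧ φ.Iso T ∧ T ^ r = 1 ∧
      finrank F V = 2 * f + (e + s) * orderOf (q : ZMod r) ∧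
      finrank F ↥(fixSpace T) = 2 * f ∧
      ∀ U : Submodule F V, Inv T U → φ.TI U →
        2 * finrank F ↥(U ⊓ moveSpace r T) ≤ e * orderOf (q : ZMod r) := by
  classical
  have hj0 := orderOf_pos_of_ne (r := r) hq hrp
  have hhalf := exists_half hq hrp hev
  have hroots := exists_roots (r := r) hq hrp
  obtain ⟨j, hj⟩ : ∃ j, j = orderOf (q : ZMod r) := ⟨_, rfl⟩
  rw [← hj] at hj0 hhalf hroots hev hst ⊢
  obtain ⟨E, _, _, _, hE, a, har, ha1, hinj⟩ := hroots
  obtain ⟨h, hh⟩ := hev
  haveI : Module.Finite F E := Module.Finite.of_finite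
  haveI : CharP E p := charP_of_injective_algebraMap (algebraMap F E).injective p
  obtain ⟨k, -, hk⟩ := FiniteField.card F p
  rw [show j / 2 = h by omega, ← hq, hk, ← pow_mul] at hhalf
  let τ := iterateFrobenius E p ((k : ℕ) * h)
  have hτd : ∀ z : E, τ z = z ^ Fintype.card F ^ h := fun z => by
    rw [iterateFrobenius_def, hk, ← pow_mul]
  have hcF : ∀ x : F, x ^ Fintype.card F ^ h = x := fun x => FiniteField.pow_card_pow _ x
  have hτ : ∀ x : F, τ (algebraMap F E x) = algebraMap F E ((RingHom.id F) x) := fun x => by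
    rw [hτd, ← map_pow, hcF]
    rfl
  have htr : ∀ z : E, (RingHom.id F) (Algebra.trace F E z) = Algebra.trace F E (τ z) := fun z => by
    rw [iterateFrobenius_def, trace_pow_char, pow_mul p, ← hk, hcF]
    rfl
  have hττ : ∀ z : E, τ (τ z) = z := fun z => by
    haveI : Fintype E := Fintype.ofFinite E
    rw [hτd, hτd, ← pow_mul, ← pow_add, ← hh, ← hE,
      ← Module.card_eq_pow_finrank (K := F) (V := E), FiniteField.pow_card]
  have hτinv : ∀ i, a i * τ (a i) = 1 := fun i => by
    obtain ⟨l, hl⟩ := hhalf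
    rw [iterateFrobenius_def, ← pow_succ', hl, pow_mul, har, one_pow]
  let i0 : Fin ((r - 1) / j) := ⟨0, by omega⟩
  set c := a i0 - τ (a i0) with hcdef
  have hc : c ≠ 0 := fun h0 => by
    have h2 : a i0 ^ 2 = 1 := by
      have h3 : a i0 = τ (a i0) := sub_eq_zero.1 h0
      rw [pow_two]
      conv_lhs => arg 2; rw [h3]
      exact hτinv i0
    exact ha1 i0 (_root_.orderOf_eq_one_iff.1 (Nat.dvd_one.1 (by
      have h4 : r.gcd 2 = 1 := (Nat.coprime_primes Fact.out Nat.prime_two).2 (by omega)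
      rw [← h4]
      exact Nat.dvd_gcd (orderOf_dvd_of_pow_eq_one (har i0)) (orderOf_dvd_of_pow_eq_one h2))))
  have hcε : algebraMap F E (-1) * τ c = c := by
    rw [hcdef, map_sub, hττ, map_neg, map_one]
    ring
  let cl : Fin e ⊕ Fin s → Fin ((r - 1) / j) :=
    Sum.elim (fun _ => i0) fun x => ⟨(x : ℕ) + 1, by have := x.isLt; omega⟩
  let A : Fin e ⊕ Fin s → E := fun x => a (cl x)
  let φ := prodForm (hypForm F f) (selfForm (ι := Fin e ⊕ Fin s) (RingHom.id F) (-1) τ (fun _ => rfl)
    hτ htr hττ c hc hcε) rfl rfl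
  let T := LinearMap.prodMap (mulEnd (F := F) (fun _ : Fin f ⊕ Fin f => (1 : F))) (mulEnd (F := F) A)
  have hT : φ.Iso T := iso_prodForm (iso_pairForm _ _ _ _ _ _ fun _ => by simp)
    (iso_selfForm _ _ _ _ _ _ _ _ _ _ fun x => hτinv (cl x))
  have hTr : T ^ r = 1 := by
    rw [prodMap_pow', mulEnd_pow, mulEnd_pow]
    refine LinearMap.ext fun x => Prod.ext (funext fun i => ?_) (funext fun i => ?_)
    · simp [mulEnd_apply]
    · simp [mulEnd_apply, A, har]
  have hker : ∀ g : F[X], g ∣ cyclotomic r F →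
      finrank F (LinearMap.ker (aeval T g)) = j * Nat.card {x // aeval (A x) g = 0} := fun g hg => by
    rw [aeval_prodMap, finrank_ker_prodMap, finrank_ker_fix_part g (eval_one_ne_zero hrp hg),
      zero_add, aeval_mulEnd, finrank_ker_mulEnd, hE]
  refine ⟨_, _, _, inferInstance, φ, T, rfl, fun x => ?_, hT, hTr, ?_, ?_, fun U hUi hUt => ?_⟩
  · show (hypForm F f).B x.1 x.1 + ∑ i, Algebra.trace F E (c * x.2 i * τ (x.2 i)) = 0
    rw [hypForm_alt, zero_add]
    refine Finset.sum_eq_zero fun i _ => trace_eq_zero_of_frob (h := h) (by omega) ?_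
    rw [← hτd, map_mul, map_mul, hττ]
    rw [map_neg, map_one] at hcε
    linear_combination -(τ (x.2 i) * x.2 i) * hcε
  · rw [Module.finrank_prod, Module.finrank_fintype_fun_eq_card, Module.finrank_pi_fintype,
      Finset.sum_const, Finset.card_univ, smul_eq_mul, Fintype.card_sum, Fintype.card_sum,
      Fintype.card_fin, Fintype.card_fin, Fintype.card_fin, hE, two_mul]
  · rw [fixSpace, aeval_prodMap, finrank_ker_prodMap, finrank_fix_fix_part,
      finrank_fix_move_part fun x => ha1 (cl x), Fintype.card_sum, Fintype.card_fin, two_mul, add_zero]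
  · have hroot : aeval (a i0) (cyclotomic r F) = 0 := by
      have h0 : aeval (a i0) ((X - 1 : F[X]) * cyclotomic r F) = 0 := by
        rw [X_sub_one_mul_cyclotomic, map_sub, map_pow, aeval_X, map_one, har, sub_self]
      rw [map_mul, mul_eq_zero, map_sub, aeval_X, map_one, sub_eq_zero] at h0
      exact h0.resolve_left (ha1 i0)
    have hgs := minpoly.irreducible (Algebra.IsIntegral.isIntegral (R := F) (a i0))
    obtain ⟨P, hP⟩ := minpoly.dvd F (a i0) hroot
    have hiff : ∀ (g : F[X]) x, Irreducible g → aeval (a x) g = 0 → Associated (minpoly F (a x)) g :=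
      fun g x hg h0 => (minpoly.irreducible (Algebra.IsIntegral.isIntegral (a x))).associated_of_dvd hg
        (minpoly.dvd F (a x) h0)
    have hsame : ∀ x y, Associated (minpoly F (a x)) (minpoly F (a y)) → x = y := fun x y h =>
      hinj (eq_of_monic_of_associated (minpoly.monic (Algebra.IsIntegral.isIntegral _))
        (minpoly.monic (Algebra.IsIntegral.isIntegral _)) h)
    have hb := ti_move_le hq hrp hT hTr (s := Fintype.card F ^ h) ⟨(k : ℕ) * h, by rw [hk, pow_mul]⟩
      (fun x => (hcF x).symm) (by rw [hk, ← pow_mul]; exact hhalf) hP (fun g hg hgP => by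
        rw [hker g (hgP.trans ⟨_, by rw [hP, mul_comm]⟩), ← hj]
        refine (Nat.mul_le_mul_left _ ?_).trans (mul_one _).le
        rw [Finite.card_le_one_iff_subsingleton]
        refine ⟨fun ⟨x, hx⟩ ⟨y, hy⟩ => Subtype.ext ?_⟩
        have hx' := hiff g _ hg hx
        have hxy := hsame _ _ (hx'.trans (hiff g _ hg hy).symm)
        have hne : cl x ≠ i0 := fun h0 => by
          rw [h0] at hx'
          have hsq : Squarefree (minpoly F (a i0) * P) :=
            hP ▸ (separable_pow_sub_one (F := F) hrp).squarefree.squarefree_of_dvd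
              ⟨X - 1, (cyclotomic_prime_mul_X_sub_one F r).symm⟩
          exact hgs.not_isUnit (hsq _ (mul_dvd_mul_left _ (hx'.dvd.trans hgP)))
        rcases x with x | x <;> rcases y with y | y <;> simp [cl, i0, Fin.ext_iff] at hxy hne ⊢
        omega) hUi hUt
    refine hb.trans ?_
    rw [hker _ ⟨P, hP⟩, mul_comm]
    refine Nat.mul_le_mul_right _ ?_
    refine (Nat.card_le_card_of_injective
      (fun x : {x // aeval (A x) (minpoly F (a i0)) = 0} =>
        (Sum.elim id (fun _ => (⟨0, he⟩ : Fin e)) x.1 : Fin e)) ?_).trans (Nat.card_fin e).le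
    rintro ⟨x, hx⟩ ⟨y, hy⟩ hxy
    have hx' := hsame _ _ (hiff _ _ hgs hx)
    have hy' := hsame _ _ (hiff _ _ hgs hy)
    rcases x with x | x <;> rcases y with y | y <;>
      simp [cl, i0, Fin.ext_iff] at hxy hx' hy' ⊢
    omega

/-- Hyperbolic pairs of irreducible summands. -/
theorem exists_pair_model (hq : Fintype.card F = q) (hrp : r ≠ p) (f N : ℕ) :
    ∃ (V : Type u) (_ : AddCommGroup V) (_ : Module F V) (_ : FiniteDimensional F V) (φ : RForm F V)
      (T : End F V), φ.σ = RingHom.id F ∧ (∀ x, φ.B x x = 0) ∧ φ.Iso T ∧ T ^ r = 1 ∧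
      finrank F V = 2 * f + 2 * N * orderOf (q : ZMod r) ∧ finrank F ↥(fixSpace T) = 2 * f := by
  classical
  obtain ⟨E, _, _, _, hE, a, har, ha1, -⟩ := exists_roots (r := r) hq hrp
  have hr2 := (Fact.out : r.Prime).two_le
  have hj0 := orderOf_pos_of_ne (r := r) hq hrp
  have hne : (q : ZMod r) ≠ 0 := fun h =>
    not_dvd_q (F := F) hq hrp ((ZMod.natCast_eq_zero_iff q r).1 h)
  let i0 : Fin ((r - 1) / orderOf (q : ZMod r)) := ⟨0,
    Nat.div_pos (Nat.le_of_dvd (by omega) (ZMod.orderOf_dvd_card_sub_one hne)) hj0⟩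
  haveI : Module.Finite F E := Module.Finite.of_finite
  have ha0 : a i0 ≠ 0 := fun h => by
    have := har i0
    rw [h, zero_pow (by omega)] at this
    exact zero_ne_one this
  let A : Fin N ⊕ Fin N → E := Sum.elim (fun _ => a i0) fun _ => (a i0)⁻¹
  have hA : ∀ x, A x ^ r = 1 ∧ A x ≠ 1 := by
    rintro (x | x)
    · exact ⟨har i0, ha1 i0⟩
    · exact ⟨by simp [A, har], fun h => ha1 i0 (inv_eq_one.1 h)⟩
  refine ⟨_, _, _, inferInstance, prodForm (hypForm F f)
    (pairForm (E := E) (ι := Fin N) (RingHom.id F) (-1) (RingHom.id E) (fun _ => rfl) (fun _ => rfl)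
      (by simp)) rfl rfl,
    LinearMap.prodMap (mulEnd (F := F) (fun _ : Fin f ⊕ Fin f => (1 : F))) (mulEnd (F := F) A),
    rfl, fun x => ?_, iso_prodForm (iso_pairForm _ _ _ _ _ _ fun _ => by simp)
      (iso_pairForm _ _ _ _ _ _ fun _ => by simp [A, ha0]), ?_, ?_, ?_⟩
  · show (hypForm F f).B x.1 x.1 + ∑ k, (Algebra.trace F E (x.2 (.inl k) * x.2 (.inr k)) +
      (-1) * Algebra.trace F E (x.2 (.inl k) * x.2 (.inr k))) = 0
    rw [hypForm_alt]
    simp
  · rw [prodMap_pow', mulEnd_pow, mulEnd_pow]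
    refine LinearMap.ext fun x => Prod.ext (funext fun i => ?_) (funext fun i => ?_)
    · simp [mulEnd_apply]
    · simp [mulEnd_apply, (hA i).1]
  · rw [Module.finrank_prod, Module.finrank_fintype_fun_eq_card, Module.finrank_pi_fintype,
      Finset.sum_const, Finset.card_univ, smul_eq_mul, Fintype.card_sum, Fintype.card_sum,
      Fintype.card_fin, Fintype.card_fin, hE, two_mul, two_mul]
  · rw [fixSpace, aeval_prodMap, finrank_ker_prodMap, finrank_fix_fix_part,
      finrank_fix_move_part fun x => (hA x).2, Fintype.card_sum, Fintype.card_fin, two_mul, add_zero]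

/-- An isometry of a non-degenerate alternating form as a symplectic matrix. -/
theorem exists_symplectic {V : Type v} [AddCommGroup V] [Module F V] [FiniteDimensional F V]
    (φ : RForm F V) (hσ : φ.σ = RingHom.id F) (halt : ∀ x, φ.B x x = 0) {d : ℕ}
    (hdim : finrank F V = 2 * d) {T : End F V} (hT : φ.Iso T) :
    ∃ (x : ↥(Matrix.symplecticGroup (Fin d) F)) (e : V ≃ₗ[F] (Fin d ⊕ Fin d → F)),
      (∀ u v, Cfsg.sympForm d F (e u) (e v) = φ.B u v) ∧
      ∀ v, Matrix.toLin' (x : Matrix (Fin d ⊕ Fin d) (Fin d ⊕ Fin d) F) (e v) = e (T v) := by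
  let B : LinearMap.BilinForm F V := LinearMap.mk₂ F (fun u v => φ.B u v)
    (fun a b c => by rw [map_add, LinearMap.add_apply])
    (fun a b c => by rw [map_smul, LinearMap.smul_apply])
    (fun a b c => map_add _ _ _)
    (fun a b c => by rw [LinearMap.map_smulₛₗ, show φ.σ a = a by rw [hσ]; rfl])
  obtain ⟨d', e, hd', he⟩ := Symplectic.exists_std_equiv (B := B) halt
    ⟨fun v h => φ.nondeg v h, fun v h => φ.nondeg' h⟩
  obtain rfl : d' = d := by omega
  let L : End F (Fin d' ⊕ Fin d' → F) := e.toLinearMap ∘ₗ T ∘ₗ e.symm.toLinearMap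
  refine ⟨⟨LinearMap.toMatrix' L, (Symplectic.mem_symplectic_iff_form _).mpr fun u v => ?_⟩, e, he,
    fun v => ?_⟩
  · rw [LinearMap.toMatrix'_mulVec, LinearMap.toMatrix'_mulVec]
    show Cfsg.sympForm d' F (e (T (e.symm u))) (e (T (e.symm v))) = _
    rw [he]
    show φ.B (T _) (T _) = _
    rw [hT, show φ.B (e.symm u) (e.symm v) = B (e.symm u) (e.symm v) from rfl, ← he,
      e.apply_symm_apply, e.apply_symm_apply]
  · rw [Matrix.toLin'_toMatrix']
    simp [L]

end Cfsg.Agent.Linear.Elusive.Forms
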