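import Cfsg.Agent.Linear.Elusive.Forms.Symp
import Cfsg.Agent.Linear.Elusive.Forms.AltUnip
import Cfsg.Agent.H73.Imprim.SympMain
import Cfsg.Agent.H72.OrthTypeFix

/-!
Non-degenerate subspaces fixed by elements of prime order of the symplectic groups.
-/

set_option autoImplicit false
set_option linter.unusedSectionVars false

namespace Cfsg.Agent.Linear.Elusive.Forms

open Polynomial Module
open scoped Pointwise Matrix

universe u v

variable {F : Type u} [Field F] [Fintype F] {p q r : ℕ} [Fact p.Prime] [CharP F p] [Fact r.Prime]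
  {d m : ℕ}

local notation "𝕍" => (Fin d ⊕ Fin d → F)

theorem sp_nd_iff {W : Submodule F 𝕍} :
    (∀ u ∈ W, u ≠ 0 → ∃ v ∈ W, Cfsg.sympForm d F u v ≠ 0) ↔ (spForm F d).Nd W := by
  simp only [← spForm_apply]
  exact RForm.nd_iff.symm

theorem sp_nd_ND {W : Submodule F 𝕍} : (spForm F d).Nd W ↔ H73.Imprim.ND (Symplectic.spB d F) W :=
  RForm.nd_iff

/-- The number of non-degenerate subspaces of dimension `2 a`. -/
theorem card_nd_mul {a : ℕ} (had : a ≤ d) :
    ∃ Y : ℕ, Y ≠ 0 ∧ Nat.card {W : Submodule F 𝕍 // finrank F ↥W = 2 * a ∧ (spForm F d).Nd W} *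
      (Fintype.card F ^ (a ^ 2) * (∏ j ∈ Finset.range a, (Fintype.card F ^ (2 * (j + 1)) - 1)) *
        (Fintype.card F ^ ((d - a) ^ 2) * ∏ j ∈ Finset.range (d - a), (Fintype.card F ^ (2 * (j + 1)) - 1))) =
      Fintype.card F ^ (d ^ 2) * Y ∧ Y = ∏ j ∈ Finset.range d, (Fintype.card F ^ (2 * (j + 1)) - 1) := by
  classical
  have hA := Symplectic.spB_alt d F
  have hB := Symplectic.spB_nondeg d F
  have hV : finrank F 𝕍 = 2 * d := H73.Imprim.finrank_space
  have hq1 : 1 < Fintype.card F := Fintype.one_lt_card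
  refine ⟨_, Finset.prod_ne_zero_iff.2 fun j _ => ?_, ?_, rfl⟩
  · have := Nat.one_lt_pow (show 2 * (j + 1) ≠ 0 by omega) hq1
    omega
  obtain ⟨W0, -, hW0n, -, hW0d⟩ := attain (T := (1 : End F 𝕍)) (φ := spForm F d) iso_one RForm.nd_top
    (inv_top _) 2 (fun A' _ hn _ hne => exists_scalar_plane spForm_alt hn hne
      (T := (1 : End F 𝕍)) (c := 1) fun v _ => by rw [Module.End.one_apply, one_smul]) a
    (by rw [finrank_top, hV]; omega)
  set G := Symplectic.Isom (Symplectic.spB d F)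
  have hsm : ∀ (g : G) (W : Submodule F 𝕍), g • W = W.map g.1.toLinearMap := fun g W => rfl
  have horb : MulAction.orbit G W0 =
      {W : Submodule F 𝕍 | finrank F W = 2 * a ∧ (spForm F d).Nd W} := by
    ext W
    constructor
    · rintro ⟨g, rfl⟩
      show finrank F ↥(W0.map g.1.toLinearMap) = 2 * a ∧ _
      refine ⟨by rw [LinearEquiv.finrank_map_eq, hW0d, mul_comm], RForm.nd_iff.2 ?_⟩
      rintro _ ⟨u, hu, rfl⟩ hu0
      obtain ⟨v, hv, huv⟩ := RForm.nd_iff.1 hW0n u hu fun e => hu0 (by rw [e, map_zero])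
      exact ⟨g.1 v, ⟨v, hv, rfl⟩, by
        show Symplectic.spB d F (g.1 u) (g.1 v) ≠ 0
        rw [Symplectic.mem_isom.1 g.2]; exact huv⟩
    · rintro ⟨hWd, hWn⟩
      have hP := (sp_nd_ND.1 hW0n).restrict hA
      have hP' := (sp_nd_ND.1 hWn).restrict hA
      obtain ⟨e1, he1⟩ := Symplectic.exists_alt_equiv (fun x : W0 => hA (x : 𝕍)) hP
        (fun x : W => hA (x : 𝕍)) hP' (by rw [hW0d, hWd, mul_comm])
      obtain ⟨e2, he2⟩ := Symplectic.exists_alt_equiv
        (fun x : (Symplectic.spB d F).orthogonal W0 => hA (x : 𝕍))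
        (Symplectic.restrict_orth_nondeg hA.isRefl hB hP)
        (fun x : (Symplectic.spB d F).orthogonal W => hA (x : 𝕍))
        (Symplectic.restrict_orth_nondeg hA.isRefl hB hP')
        (by rw [Symplectic.finrank_orth hA.isRefl hB hP, Symplectic.finrank_orth hA.isRefl hB hP',
          hW0d, hWd, mul_comm])
      obtain ⟨e, he, hea, -⟩ := Symplectic.exists_isometry_sum hA.isRefl hB hA.isRefl hB hP hP' e1 he1 e2 he2
      refine ⟨⟨e, he⟩, ?_⟩
      show W0.map e.toLinearMap = W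
      refine Submodule.eq_of_le_of_finrank_eq ?_ (by rw [LinearEquiv.finrank_map_eq, hW0d, hWd, mul_comm])
      rintro _ ⟨x, hx, rfl⟩
      show e x ∈ W
      rw [show e x = e ((⟨x, hx⟩ : W0) : 𝕍) from rfl, hea]
      exact SetLike.coe_mem _
  have hS : ∀ g : G, g ∈ MulAction.stabilizer G W0 ↔ ∀ x, x ∈ W0 ↔ g.1 x ∈ W0 := by
    intro g
    rw [MulAction.mem_stabilizer_iff, hsm]
    constructor
    · intro h x
      conv_rhs => rw [← h]
      exact ⟨fun hx => Submodule.mem_map_of_mem hx, fun ⟨y, hy, e⟩ => g.1.injective e ▸ hy⟩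
    · intro h
      refine Submodule.eq_of_le_of_finrank_eq ?_ (LinearEquiv.finrank_map_eq _ _)
      rintro _ ⟨x, hx, rfl⟩
      exact (h x).1 hx
  obtain ⟨ψ⟩ := Symplectic.exists_stabilizer_mulEquiv hA.isRefl hB ((sp_nd_ND.1 hW0n).restrict hA) _ hS
  have h1 : Nat.card {W : Submodule F 𝕍 // finrank F ↥W = 2 * a ∧ (spForm F d).Nd W} =
      (MulAction.stabilizer G W0).index := by
    rw [MulAction.index_stabilizer, horb]
    rfl
  have h2 := (MulAction.stabilizer G W0).index_mul_card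
  rw [← h1, Nat.card_congr ψ.toEquiv, Nat.card_prod,
    Symplectic.card_isom_alt (fun x : W0 => hA (x : 𝕍)) ((sp_nd_ND.1 hW0n).restrict hA),
    Symplectic.card_isom_alt (fun x : (Symplectic.spB d F).orthogonal W0 => hA (x : 𝕍))
      (Symplectic.restrict_orth_nondeg hA.isRefl hB ((sp_nd_ND.1 hW0n).restrict hA)),
    Symplectic.finrank_orth hA.isRefl hB ((sp_nd_ND.1 hW0n).restrict hA),
    Symplectic.card_isom_alt hA hB, hW0d, hV, show a * 2 / 2 = a by omega,
    show (2 * d - a * 2) / 2 = d - a by omega, show 2 * d / 2 = d by omega] at h2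
  exact h2

/-- A prime divisor of the number of non-degenerate subspaces. -/
theorem symp_nd_count (hq : Fintype.card F = q) (hrp : r ≠ p) {a : ℕ} (had : a ≤ d)
    (hrΩ : r ∣ Nat.card {W : Submodule F 𝕍 // finrank F ↥W = 2 * a ∧ (spForm F d).Nd W}) :
    ∃ S, d - a < S ∧ S ≤ d ∧ orderOf (q : ZMod r) ∣ 2 * S := by
  obtain ⟨Y, -, hY, hYp⟩ := card_nd_mul (F := F) had
  obtain ⟨N', hN'⟩ := hrΩ
  rw [hN', hYp, hq] at hY
  have hr := (Fact.out : r.Prime)
  have hrq := not_dvd_q (F := F) hq hrp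
  have h1 : 1 < q := hq ▸ Fintype.one_lt_card
  rw [← Finset.prod_range_mul_prod_Ico (fun j => q ^ (2 * (j + 1)) - 1) (show d - a ≤ d by omega)] at hY
  set A := ∏ j ∈ Finset.range a, (q ^ (2 * (j + 1)) - 1)
  set B := ∏ j ∈ Finset.range (d - a), (q ^ (2 * (j + 1)) - 1)
  set C := ∏ j ∈ Finset.Ico (d - a) d, (q ^ (2 * (j + 1)) - 1)
  have hB : B ≠ 0 := Finset.prod_ne_zero_iff.2 fun j _ => by
    have := Nat.one_lt_pow (show 2 * (j + 1) ≠ 0 by omega) h1
    omega
  have h2 : r * (N' * (q ^ a ^ 2 * A) * q ^ (d - a) ^ 2) = q ^ d ^ 2 * C :=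
    Nat.eq_of_mul_eq_mul_right (Nat.pos_of_ne_zero hB) (by linear_combination hY)
  rcases hr.dvd_mul.1 ⟨_, h2.symm⟩ with h | h
  · exact absurd (hr.dvd_of_dvd_pow h) hrq
  · obtain ⟨j, hj, hdj⟩ := (hr.prime.dvd_finsetProd_iff _).1 h
    rw [Finset.mem_Ico] at hj
    exact ⟨j + 1, by omega, by omega, (dvd_pow_sub_one_iff h1.le _).1 hdj⟩

/-- The property in question, for an endomorphism. -/
def NdFix (m : ℕ) (T : End F 𝕍) : Prop :=
  ∃ W : Submodule F 𝕍, finrank F ↥W = m ∧ (spForm F d).Nd W ∧ Inv T W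

theorem NdFix.of_smul {T : End F 𝕍} {z : F} (hz : z ≠ 0) (h : NdFix m (z • T)) : NdFix m T := by
  obtain ⟨W, h1, h2, h3⟩ := h
  exact ⟨W, h1, h2, (Inv.smul_iff hz).1 h3⟩

/-- All elements of order `r` modulo scalars. -/
def AllNdFix (F : Type u) [Field F] (r d m : ℕ) : Prop :=
  ∀ x : ↥(Matrix.symplecticGroup (Fin d) F),
    (∃ z : F, ((x ^ r : ↥(Matrix.symplecticGroup (Fin d) F)) : Matrix (Fin d ⊕ Fin d) (Fin d ⊕ Fin d) F) = z • (1 : Matrix (Fin d ⊕ Fin d) (Fin d ⊕ Fin d) F)) →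
    (∀ z : F, (x : Matrix (Fin d ⊕ Fin d) (Fin d ⊕ Fin d) F) ≠ z • (1 : Matrix (Fin d ⊕ Fin d) (Fin d ⊕ Fin d) F)) →
    ∃ W : Submodule F (Fin d ⊕ Fin d → F), finrank F ↥W = m ∧ (∀ u ∈ W, u ≠ 0 → ∃ v ∈ W, Cfsg.sympForm d F u v ≠ 0) ∧
      W.map (Matrix.toLin' (x : Matrix (Fin d ⊕ Fin d) (Fin d ⊕ Fin d) F)) ≤ W

theorem allNdFix_of (h : ∀ T : End F 𝕍, (spForm F d).Iso T → ∀ z : F, z * z = 1 → T ^ r = z • (1 : End F 𝕍) →
    NdFix m T) (hd : 1 ≤ d) : AllNdFix F r d m := by
  rintro x ⟨z, hz⟩ -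
  obtain ⟨hz2, hTr⟩ := scalar_sq hd x r hz
  obtain ⟨W, h1, h2, h3⟩ := h _ (iso_of_mem x) z hz2 hTr
  exact ⟨W, h1, sp_nd_iff.2 h2, h3⟩

theorem AllNdFix.fix (hall : AllNdFix F r d m) (hd : 1 ≤ d) (hrz : Odd r ∨ p = 2) {T : End F 𝕍}
    (hT : (spForm F d).Iso T) (hTr : T ^ r = 1) (hT1 : T ≠ 1) : NdFix m T := by
  let x : ↥(Matrix.symplecticGroup (Fin d) F) := ⟨LinearMap.toMatrix' T, (Symplectic.mem_symplectic_iff_form _).mpr fun u v => by
    rw [LinearMap.toMatrix'_mulVec, LinearMap.toMatrix'_mulVec, ← spForm_apply, ← spForm_apply]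
    exact hT u v⟩
  have hxT : Matrix.toLin' (x : Matrix (Fin d ⊕ Fin d) (Fin d ⊕ Fin d) F) = T := Matrix.toLin'_toMatrix' T
  obtain ⟨W, h1, h2, h3⟩ := hall x ⟨1, by
    rw [one_smul, SubmonoidClass.coe_pow]
    refine Matrix.toLin'.injective ?_
    rw [Matrix.toLin'_pow, hxT, hTr, Matrix.toLin'_one]
    rfl⟩ fun z hz => by
      apply hT1
      obtain ⟨hz2, -⟩ := scalar_sq hd x 1 (z := z) (by rw [pow_one]; exact hz)
      have hTz : T = z • (1 : End F 𝕍) := by rw [← hxT, hz, map_smul, Matrix.toLin'_one]; rfl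
      haveI : Nonempty (Fin d ⊕ Fin d) := ⟨Sum.inl ⟨0, hd⟩⟩
      have hzr : z ^ r = 1 := by
        obtain ⟨v, hv⟩ := exists_ne (0 : 𝕍)
        refine smul_left_injective F hv ?_
        have h' := LinearMap.congr_fun hTr v
        rw [hTz, _root_.smul_pow, one_pow] at h'
        simpa using h'
      suffices z = 1 by rw [hTz, this, one_smul]
      rcases mul_self_eq_one_iff.1 hz2 with h' | h'
      · exact h'
      rcases hrz with ho | hp
      · rw [h', ho.neg_one_pow] at hzr
        rw [h', hzr]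
      · subst hp
        rw [h', CharTwo.neg_eq]
  exact ⟨W, h1, sp_nd_iff.1 h2, by rwa [hxT] at h3⟩

/-- A model isometry as an endomorphism of the standard space. -/
theorem exists_std_of_model {V : Type v} [AddCommGroup V] [Module F V] [FiniteDimensional F V]
    (φ : RForm F V) (hσ : φ.σ = RingHom.id F) (halt : ∀ x, φ.B x x = 0)
    (hdim : finrank F V = 2 * d) {T : End F V} (hT : φ.Iso T) :
    ∃ (T' : End F 𝕍) (e : V ≃ₗ[F] 𝕍), (spForm F d).Iso T' ∧ (∀ v, T' (e v) = e (T v)) ∧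
      ∀ W : Submodule F 𝕍, (spForm F d).Nd W → φ.Nd (W.map e.symm.toLinearMap) := by
  obtain ⟨x, e, he, hx⟩ := exists_symplectic φ hσ halt hdim hT
  refine ⟨_, e, iso_of_mem x, hx, fun W hW => RForm.nd_iff.2 ?_⟩
  rintro _ ⟨u, hu, rfl⟩ hu0
  obtain ⟨v, hv, huv⟩ := RForm.nd_iff.1 hW u hu fun h => hu0 (by rw [h, map_zero])
  refine ⟨e.symm v, ⟨v, hv, rfl⟩, ?_⟩
  rw [LinearEquiv.coe_coe, ← he, e.apply_symm_apply, e.apply_symm_apply, ← spForm_apply]
  exact huv

theorem not_all_of_model_nd (hd : 1 ≤ d) (hrz : Odd r ∨ p = 2) {V : Type v} [AddCommGroup V] [Module F V]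
    [FiniteDimensional F V] (φ : RForm F V) (hσ : φ.σ = RingHom.id F) (halt : ∀ x, φ.B x x = 0)
    (hdim : finrank F V = 2 * d) {T : End F V} (hT : φ.Iso T) (hTr : T ^ r = 1) (hT1 : T ≠ 1)
    (hno : ∀ U : Submodule F V, Inv T U → φ.Nd U → finrank F U ≠ m) : ¬ AllNdFix F r d m := by
  intro hall
  obtain ⟨T', e, hT', he, hnd⟩ := exists_std_of_model φ hσ halt hdim hT
  have hpow : ∀ k v, (T' ^ k) (e v) = e ((T ^ k) v) := by
    intro k
    induction k with
    | zero => exact fun v => rfl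
    | succ k ih => intro v; rw [pow_succ, pow_succ, Module.End.mul_apply, Module.End.mul_apply, he, ih]
  obtain ⟨W, hWm, hWn, hWi⟩ := hall.fix hd hrz hT'
    (LinearMap.ext fun w => by
      obtain ⟨v, rfl⟩ := e.surjective w
      rw [hpow, hTr]
      rfl)
    (fun h => hT1 (LinearMap.ext fun v => e.injective (by rw [← he, h]; rfl)))
  refine hno (W.map e.symm.toLinearMap) (inv_of_forall ?_) (hnd W hWn)
    (by rw [LinearEquiv.finrank_map_eq, hWm])
  rintro _ ⟨w, hw, rfl⟩
  refine ⟨T' w, hWi.mem hw, e.injective ?_⟩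
  rw [← he, LinearEquiv.coe_coe, e.apply_symm_apply, e.apply_symm_apply]

/-! ### The unipotent case -/

theorem unip_nilpotent {V : Type v} [AddCommGroup V] [Module F V] {T : End F V} (hT : T ^ p = 1) :
    (T - 1) ^ p = 0 := by
  rcases subsingleton_or_nontrivial V with hV | hV
  · exact LinearMap.ext fun v => Subsingleton.elim _ _
  haveI : CharP (End F V) p := charP_of_injective_algebraMap (algebraMap F (End F V)).injective p
  rw [sub_pow_char_of_commute p (Commute.one_right T), hT, one_pow, sub_self]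

theorem normalize_odd {T : End F 𝕍} (hT : (spForm F d).Iso T) {z : F} (hz : z * z = 1) {k : ℕ}
    (hk : Odd k) (hTk : T ^ k = z • (1 : End F 𝕍)) :
    z ≠ 0 ∧ (spForm F d).Iso (z • T) ∧ (z • T) ^ k = 1 := by
  refine ⟨fun h => zero_ne_one (by rw [← hz, h, mul_zero]), fun u v => ?_, ?_⟩
  · show (spForm F d).B (z • T u) (z • T v) = _
    rw [spForm_smul, hT, hz, one_mul]
  · obtain ⟨l, rfl⟩ := hk
    rw [_root_.smul_pow, hTk, smul_smul, ← pow_succ, show 2 * l + 1 + 1 = 2 * (l + 1) by ring, pow_mul,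
      pow_two, hz, one_pow, one_smul]

theorem symp_nd_unip (hd : 1 ≤ d) (hm : Even m) (hmd : m ≤ 2 * d) (hp : p ≠ 2) :
    AllNdFix F p d m ↔ ∀ μ : Multiset ℕ, (∀ a ∈ μ, 0 < a ∧ a ≤ p) → (∀ a : ℕ, Odd a → Even (μ.count a)) →
      μ.sum = 2 * d → ∃ ν : Multiset ℕ, ν ≤ μ ∧ ν.sum = m ∧ ∀ a : ℕ, Odd a → Even (ν.count a) := by
  classical
  have hp' : Odd p := (Fact.out : p.Prime).odd_of_ne_two hp
  have h2 : (2 : F) ≠ 0 := H72.OrthTypeFix.two_ne_zero' hp
  have key : ∀ {V : Type u} [AddCommGroup V] [Module F V] [FiniteDimensional F V] (φ : RForm F V)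
      (_ : φ.σ = RingHom.id F) (_ : ∀ x, φ.B x x = 0) (T : End F V) (_ : φ.Iso T) (_ : T ^ p = 1),
      ∀ A : Submodule F V, φ.Nd A → A.map (T - 1) ≤ A →
        (∀ a, (if Odd a then 2 else 1) ∣ (H99.blockParts (T - 1) A p).count a) ∧
        ∀ ν : Multiset ℕ, ν ≤ H99.blockParts (T - 1) A p → (∀ a, (if Odd a then 2 else 1) ∣ ν.count a) →
          ∃ W ≤ A, φ.Nd W ∧ W.map (T - 1) ≤ W ∧ finrank F W = ν.sum := by
    intro V _ _ _ φ hσ halt T hT hTp
    have hN : φ.Iso (1 + (T - 1)) := by rwa [add_sub_cancel]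
    exact exists_unip_sub hN (unip_nilpotent hTp) _ (fun e => by split <;> omega)
      fun A hAi e he _ hAe hβ => alt_select halt hσ h2 hN A hAi e he hAe hβ
  constructor
  · intro hall μ hμ hev hsum
    by_contra hno
    push Not at hno
    obtain ⟨f, hf, hf1⟩ : ∃ f ∈ μ, 1 < f := by
      by_contra h
      push Not at h
      have hrep : μ = Multiset.replicate μ.card 1 :=
        Multiset.eq_replicate_card.2 fun a ha => by have := (hμ a ha).1; have := h a ha; omega
      have hcard : μ.card = 2 * d := by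
        rw [hrep, Multiset.sum_replicate, smul_eq_mul, mul_one] at hsum
        exact hsum
      obtain ⟨a, ha1, ha⟩ := hno (Multiset.replicate m 1)
        (by rw [hrep, hcard, Multiset.replicate_le_replicate]; exact hmd) (by simp)
      rw [Multiset.count_replicate] at ha
      split at ha
      · exact ha hm
      · exact ha Even.zero
    set dd : Fin μ.toList.length → ℕ := μ.toList.get with hdd
    have hmap : Finset.univ.val.map dd = μ := by
      rw [Fin.univ_val_map, hdd, List.ofFn_get, Multiset.coe_toList]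
    have hdμ : ∀ k, dd k ∈ μ := fun k => by
      rw [← hmap]; exact Multiset.mem_map_of_mem _ (Finset.mem_univ k)
    obtain ⟨G, hG, hGa, hGi⟩ := H72.UnipotentForm.exists_alt_form (F := F) (d := dd) fun j hj => by
      have := hev j hj
      rw [← hmap, Multiset.count_map, ← Finset.filter_val, Finset.card_val] at this
      simpa [eq_comm] using this
    have hBa : ∀ v, Matrix.toBilin' G v v = 0 := fun v => by rw [Matrix.toBilin'_apply']; exact hGa v
    have hBn : (Matrix.toBilin' G).Nondegenerate :=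
      LinearMap.BilinForm.nondegenerate_toBilin'_of_det_ne_zero' G hG
    let φ : RForm F (Arith.JordanCent.Idx dd → F) :=
      { σ := RingHom.id F
        ε := -1
        B := Matrix.toBilin' G
        invol := fun _ => rfl
        flip := fun u v => by
          rw [RingHom.id_apply, neg_one_mul]
          exact Symplectic.alt_swap hBa v u
        nondeg := hBn.1 }
    set T : End F (Arith.JordanCent.Idx dd → F) := H72.UnipotentForm.jEnd dd with hTdef
    have hT : φ.Iso T := H72.UnipotentForm.inv_of_eq hGi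
    have hshift : T - 1 = H99.shiftEnd (Pi.basisFun F (Arith.JordanCent.Idx dd)) :=
      H72.OrthTypeFix.jEnd_eq_shiftEnd dd
    have hdp : ∀ k, 0 < dd k ∧ dd k ≤ p := fun k => hμ _ (hdμ k)
    have hTp : T ^ p = 1 := by
      rcases subsingleton_or_nontrivial (Arith.JordanCent.Idx dd → F) with hV | hV
      · exact LinearMap.ext fun v => Subsingleton.elim _ _
      haveI : CharP (End F (Arith.JordanCent.Idx dd → F)) p :=
        charP_of_injective_algebraMap (algebraMap F _).injective p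
      have h0 : (T - 1) ^ p = 0 := by
        rw [hshift]; exact H99.shiftEnd_pow_eq_zero _ fun k => (hdp k).2
      rw [sub_pow_char_of_commute p (Commute.one_right T), one_pow, sub_eq_zero] at h0
      exact h0
    refine not_all_of_model_nd hd (Or.inl hp') φ rfl hBa ?_ hT hTp ?_ ?_ hall
    · rw [Module.finrank_fintype_fun_eq_card, Fintype.card_sigma, ← hsum]
      conv_rhs => rw [← hmap]
      simp only [Fintype.card_fin]
      rfl
    · intro h1
      obtain ⟨k, hk⟩ : ∃ k, dd k = f := by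
        rw [← hmap, Multiset.mem_map] at hf
        exact hf.imp fun k hk => hk.2
      have hb := H99.shiftEnd_pow_apply (Pi.basisFun F (Arith.JordanCent.Idx dd)) ⟨k, ⟨0, (hdp k).1⟩⟩ 1
      rw [← hshift, h1, sub_self, pow_one, LinearMap.zero_apply,
        dif_pos (by show 0 + 1 < dd k; omega)] at hb
      exact Module.Basis.ne_zero _ _ hb.symm
    · intro U hUi hUn hUd
      have hUi' : U.map (T - 1) ≤ U :=
        Inv.one_add_iff.1 (by rw [add_sub_cancel]; exact hUi : Inv (1 + (T - 1)) U)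
      have hN : φ.Iso (1 + (T - 1)) := by rwa [add_sub_cancel]
      have hle := blockParts_le_top hN hUn hUi' p
      rw [hshift] at hle
      conv_rhs at hle => rw [H99.blockParts_shiftEnd _ hdp, hmap]
      rw [← hshift] at hle
      obtain ⟨a, ha, hne⟩ := hno _ hle
        (by rw [H99.sum_blockParts _ _ hUi' p (unip_nilpotent hTp), hUd])
      have := (key φ rfl hBa T hT hTp U hUn hUi').1 a
      rw [if_pos ha] at this
      exact hne (even_iff_two_dvd.2 this)
  · intro hcond
    refine allNdFix_of (fun T hT z hz hTp => ?_) hd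
    obtain ⟨hz0, hT', hTp'⟩ := normalize_odd hT hz hp' hTp
    obtain ⟨hdvd, hsub⟩ := key (spForm F d) rfl spForm_alt (z • T) hT' hTp' ⊤ RForm.nd_top le_top
    obtain ⟨ν, hν, hνm, hνe⟩ := hcond (H99.blockParts (z • T - 1) ⊤ p)
      (fun a ha => H99.mem_blockParts _ _ ha)
      (fun a ha => by have := hdvd a; rw [if_pos ha] at this; exact even_iff_two_dvd.2 this)
      (by rw [H99.sum_blockParts _ _ le_top p (unip_nilpotent hTp'), finrank_top,
        H73.Imprim.finrank_space])
    obtain ⟨W, -, hWn, hWi, hWd⟩ := hsub ν hν fun a => by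
      split_ifs with ha
      · exact even_iff_two_dvd.1 (hνe a ha)
      · exact one_dvd _
    refine NdFix.of_smul hz0 ⟨W, hWd.trans hνm, hWn, ?_⟩
    have := (Inv.one_add_iff.2 hWi : Inv (1 + (z • T - 1)) W)
    rwa [add_sub_cancel] at this

theorem symp_nd_char_two (hd : 1 ≤ d) (hm : Even m) (hmd : m ≤ 2 * d) (hp : p = 2) :
    AllNdFix F 2 d m ↔ ((2 * d) % 4 = 2 ∨ m % 4 = 0) := by
  subst hp
  constructor
  · intro hall
    by_contra hno
    push Not at hno
    obtain ⟨h, hh⟩ : ∃ h, d = 2 * h := ⟨d / 2, by omega⟩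
    let V := (Fin h ⊕ Fin h → F) × (Fin h ⊕ Fin h → F)
    let ω := Symplectic.spB h F
    have hωa : ∀ x, ω x x = 0 := Symplectic.spB_alt h F
    have hωs : ∀ x y, ω y x = ω x y := fun x y => by
      rw [Symplectic.alt_swap hωa y x, CharTwo.neg_eq]
    let B : LinearMap.BilinForm F V := LinearMap.mk₂ F (fun x y => ω x.1 y.2 + ω x.2 y.1)
      (fun a b c => by show ω (a.1 + b.1) c.2 + ω (a.2 + b.2) c.1 = _; simp only [map_add, LinearMap.add_apply]; ring)
      (fun a b c => by show ω (a • b.1) c.2 + ω (a • b.2) c.1 = _; simp only [map_smul, LinearMap.smul_apply, smul_eq_mul]; ring)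
      (fun a b c => by show ω a.1 (b.2 + c.2) + ω a.2 (b.1 + c.1) = _; simp only [map_add]; ring)
      (fun a b c => by show ω b.1 (a • c.2) + ω b.2 (a • c.1) = _; simp only [map_smul, smul_eq_mul]; ring)
    have hBa : ∀ x, B x x = 0 := fun x => by
      show ω x.1 x.2 + ω x.2 x.1 = 0
      rw [hωs x.1 x.2]
      exact CharTwo.add_self_eq_zero _
    let φ : RForm F V :=
      { σ := RingHom.id F
        ε := -1
        B := B
        invol := fun _ => rfl
        flip := fun u v => by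
          rw [RingHom.id_apply, neg_one_mul]
          exact Symplectic.alt_swap hBa v u
        nondeg := fun x hx => by
          refine Prod.ext ((Symplectic.spB_nondeg h F).1 _ fun b => ?_) ((Symplectic.spB_nondeg h F).1 _ fun a => ?_)
          · have : ω x.1 b + ω x.2 0 = 0 := hx (0, b)
            rwa [map_zero, add_zero] at this
          · have : ω x.1 0 + ω x.2 a = 0 := hx (a, 0)
            rwa [map_zero, zero_add] at this }
    let N : End F V := LinearMap.prod 0 (LinearMap.fst F _ _)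
    have hNa : ∀ x : V, N x = (0, x.1) := fun x => rfl
    have hN2 : N ^ 2 = 0 := LinearMap.ext fun x => by
      rw [pow_two, Module.End.mul_apply, hNa, hNa]; rfl
    have hN : φ.Iso (1 + N) := fun u v => by
      show ω (u.1 + 0) (v.2 + v.1) + ω (u.2 + u.1) (v.1 + 0) = ω u.1 v.2 + ω u.2 v.1
      simp only [map_add, LinearMap.add_apply, add_zero]
      linear_combination CharTwo.add_self_eq_zero (ω u.1 v.1)
    refine not_all_of_model_nd (r := 2) hd (Or.inr rfl) φ rfl hBa ?_ hN ?_ ?_ (fun U hUi hUn hUd => ?_) hall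
    · simp [V, hh]; ring
    · have h1 : (1 + N) ^ 2 = 1 + 2 • N + N ^ 2 := by
        rw [(Commute.one_left N).add_sq]; simp [two_nsmul, two_mul]
      rw [h1, hN2, add_zero, add_eq_left]
      refine LinearMap.ext fun x => ?_
      rw [two_nsmul, LinearMap.add_apply, LinearMap.zero_apply]
      refine Prod.ext ?_ ?_ <;> funext i <;> exact CharTwo.add_self_eq_zero _
    · intro h1
      have h0 := LinearMap.congr_fun h1 ((Pi.single (Sum.inl ⟨0, by omega⟩) 1, 0) : V)
      rw [LinearMap.add_apply, Module.End.one_apply, hNa, add_eq_left] at h0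
      exact one_ne_zero (α := F) (by simpa using congrFun (congrArg Prod.snd h0) (Sum.inl ⟨0, by omega⟩))
    · have := two_dvd_four hBa hN hN2 (fun v => by
        show ω 0 v.2 + ω v.1 v.1 = 0
        rw [map_zero, LinearMap.zero_apply, zero_add, hωa])
        (fun x hx => by
          rw [LinearMap.mem_ker, hNa] at hx
          exact ⟨(x.2, 0), by rw [hNa]; exact Prod.ext (congrArg Prod.snd hx).symm rfl⟩)
        U hUn (Inv.one_add_iff.1 hUi)
      omega
  · intro hcond
    refine allNdFix_of (fun T hT z hz hTp => ?_) hd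
    have hz1 : z = 1 := by
      rcases mul_self_eq_one_iff.1 hz with h | h
      · exact h
      · rw [h, CharTwo.neg_eq]
    rw [hz1, one_smul] at hTp
    have hN : (spForm F d).Iso (1 + (T - 1)) := by rwa [add_sub_cancel]
    obtain ⟨W, -, hWn, hWi, hWd⟩ := two_attain spForm_alt hN (unip_nilpotent hTp) ⊤ RForm.nd_top le_top m hm
      (by rw [finrank_top, H73.Imprim.finrank_space]; exact hmd)
      (by rw [finrank_top, H73.Imprim.finrank_space]; omega)
    refine ⟨W, hWd, hWn, ?_⟩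
    have := (Inv.one_add_iff.2 hWi : Inv (1 + (T - 1)) W)
    rwa [add_sub_cancel] at this

/-! ### Semisimple elements -/

theorem symp_nd_two (hd : 1 ≤ d) (hm : Even m) (hmd : m ≤ 2 * d) (hp : p ≠ 2) : AllNdFix F 2 d m := by
  haveI : Fact (Nat.Prime 2) := ⟨Nat.prime_two⟩
  refine allNdFix_of (fun T hT z hz hT2 => ?_) hd
  have h2 : (2 : F) ≠ 0 := H72.OrthTypeFix.two_ne_zero' hp
  obtain ⟨k, rfl⟩ := hm
  have hV : finrank F 𝕍 = 2 * d := H73.Imprim.finrank_space
  rcases mul_self_eq_one_iff.1 hz with rfl | rfl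
  · rw [one_smul] at hT2
    obtain ⟨hA, hB⟩ := nd_fixSpace (r := 2) (Ne.symm hp) hT hT2
    have hneg : ∀ v ∈ moveSpace 2 T, T v = (-1 : F) • v := fun v hv => by
      rw [moveSpace, LinearMap.mem_ker, cyclotomic_two, map_add, aeval_X, map_one,
        LinearMap.add_apply, Module.End.one_apply] at hv
      rw [neg_one_smul]
      exact eq_neg_of_add_eq_zero_left hv
    have hsum := split_finrank (r := 2) (Ne.symm hp) hT2 (inv_top T)
    rw [top_inf_eq, top_inf_eq, finrank_top, hV] at hsum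
    have hev : ∀ {A : Submodule F 𝕍}, (spForm F d).Nd A → 2 ∣ finrank F A := fun h =>
      (sp_nd_ND.1 h).even (Symplectic.spB_alt d F)
    obtain ⟨a, ha⟩ := hev hA
    obtain ⟨b, hb⟩ := hev hB
    obtain ⟨Uf, hUf, hUfn, -, hUfd⟩ := attain hT hA (inv_ker_aeval T _) 2
      (fun A' hle hn _ hne => exists_scalar_plane spForm_alt hn hne
        (c := 1) fun v hv => by rw [one_smul]; exact mem_fixSpace.1 (hle hv)) (min k a) (by omega)
    obtain ⟨Um, hUm, hUmn, hUmi, hUmd⟩ := attain hT hB (inv_ker_aeval T _) 2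
      (fun A' hle hn _ hne => exists_scalar_plane spForm_alt hn hne fun v hv => hneg v (hle hv))
      (k - min k a) (by omega)
    obtain ⟨h1, h3, h4⟩ := exists_nd_space (r := 2) (Ne.symm hp) hT hUf hUfn hUm hUmn hUmi
    exact ⟨_, by omega, h1, h3⟩
  · have hTT : ∀ v, T (T v) = -v := fun v => by
      rw [← Module.End.mul_apply, ← pow_two, hT2]
      simp
    obtain ⟨W, -, hWn, hWi, hWd⟩ := attain hT RForm.nd_top (inv_top T) 2 (fun A' _ hn hi hne => by
      obtain ⟨v, hv, hvT⟩ : ∃ v ∈ A', (spForm F d).B v (T v) ≠ 0 := by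
        by_contra hno
        push Not at hno
        obtain ⟨u, hu, hu0⟩ := A'.exists_mem_ne_zero_of_ne_bot hne
        refine hu0 (hn.eq_zero hu fun w hw => ?_)
        have hw' : T w ∈ A' := hi.mem hw
        have h1 := hno (u + T w) (add_mem hu hw')
        have hw0 : (spForm F d).B (T w) w = 0 := by
          rw [RForm.alt_swap spForm_alt w (T w), hno w hw, neg_zero]
        simp only [map_add, LinearMap.add_apply, hno u hu, zero_add, add_zero, hTT, map_neg,
          hT w u, hw0, neg_zero] at h1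
        rw [RForm.alt_swap spForm_alt w u] at h1
        exact (mul_eq_zero.1 (show (2 : F) * (spForm F d).B w u = 0 by linear_combination h1)).resolve_left h2
      obtain ⟨h1, h3⟩ := exists_plane_alt spForm_alt hvT
      refine ⟨_, Submodule.span_le.2 (Set.pair_subset hv (hi.mem hv)), h1, ?_, h3⟩
      rw [Inv, Submodule.map_span, Submodule.span_le]
      rintro _ ⟨x, hx, rfl⟩
      rcases hx with rfl | rfl
      · exact Submodule.subset_span (by simp)
      · rw [SetLike.mem_coe, hTT]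
        exact Submodule.neg_mem _ (Submodule.subset_span (by simp))) k (by rw [finrank_top, hV]; omega)
    exact ⟨W, by omega, hWn, hWi⟩

theorem symp_nd_odd (hq : Fintype.card F = q) (hrp : r ≠ p) (hr : 2 < r) (hd : 1 ≤ d) (hm : Even m)
    (hm0 : 1 ≤ m) (hmd : m ≤ d) {c : ℕ}
    (hc : c = if Even (orderOf (q : ZMod r)) then orderOf (q : ZMod r) else 2 * orderOf (q : ZMod r))
    (hrΩ : r ∣ Nat.card {W : Submodule F 𝕍 // finrank F ↥W = m ∧ (spForm F d).Nd W}) :
    AllNdFix F r d m ↔ (c ≤ m ∧ m % c ≤ (2 * d) % c) := by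
  have hrodd : Odd r := (Fact.out : r.Prime).odd_of_ne_two (by omega)
  have hi0 := orderOf_pos_of_ne (r := r) hq hrp
  have hA := Symplectic.spB_alt d F
  have hB := Symplectic.spB_nondeg d F
  have hc0 : 0 < c := by rw [hc]; split <;> omega
  have hV : finrank F 𝕍 = 2 * d := H73.Imprim.finrank_space
  obtain ⟨a, rfl⟩ := hm
  obtain ⟨S, hS1, hS2, hS3⟩ := symp_nd_count (d := d) hq hrp (a := a) (by omega) (by rwa [two_mul])
  have hcS : c ∣ 2 * S := by
    rcases Nat.even_or_odd (orderOf (q : ZMod r)) with h | h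
    · rwa [hc, if_pos h]
    · rw [hc, if_neg (Nat.not_even_iff_odd.2 h)]
      exact (Nat.coprime_two_left.2 h).mul_dvd_of_dvd_of_dvd (dvd_mul_right 2 S) hS3
  have hcd : c ≤ 2 * d := (Nat.le_of_dvd (by omega) hcS).trans (by omega)
  have hce : 2 ∣ c := H73.Imprim.two_dvd_c hc
  have hsmall : c ≤ a + a ∨ (2 * d) % c < a + a := by
    by_contra h
    push Not at h
    obtain ⟨l, hl⟩ := hcS
    have e1 := Nat.div_add_mod (2 * d) c
    have e2 := Nat.mod_lt (2 * d) hc0
    have hl' : l ≤ 2 * d / c := by rw [Nat.le_div_iff_mul_le hc0, mul_comm]; omega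
    have e3 : c * l ≤ c * (2 * d / c) := Nat.mul_le_mul_left c hl'
    omega
  constructor
  · intro hall
    by_contra hno
    have hk : (2 * d) % c < (a + a) % c := by
      by_cases hcm : c ≤ a + a
      · exact not_le.1 fun h => hno ⟨hcm, h⟩
      · rw [Nat.mod_eq_of_lt (not_le.1 hcm)]
        exact hsmall.resolve_left hcm
    obtain ⟨T, hiso, hTr, hT1, hfix⟩ := H73.Imprim.exists_symp_witness (d := d) hq hrp hc
      (s := (2 * d) / c) (Nat.div_pos hcd hc0) (Nat.div_mul_le_self _ c)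
    have hT : (spForm F d).Iso T := hiso
    obtain ⟨W, hWm, hWn, hWi⟩ := hall.fix hd (Or.inl hrodd) hT hTr hT1
    obtain ⟨l, hl⟩ := H73.Imprim.dvd_move hq hA hrp hiso hTr hc (sp_nd_ND.1 hWn) hWi
    have hsp := split_finrank hrp hTr hWi
    rw [hl, hWm] at hsp
    have hle : finrank F ↥(W ⊓ fixSpace T) ≤ finrank F ↥(fixSpace T) := Submodule.finrank_mono inf_le_right
    have e1 := Nat.div_add_mod' (2 * d) c
    rw [hsp, Nat.add_mul_mod_self_left] at hk
    have := Nat.mod_le (finrank F ↥(W ⊓ fixSpace T)) c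
    omega
  · rintro ⟨hcm, hk⟩
    refine allNdFix_of (fun T hT z hz hTr => ?_) hd
    obtain ⟨hz0, hT', hTr'⟩ := normalize_odd hT hz hrodd hTr
    refine NdFix.of_smul hz0 ?_
    generalize z • T = T at hT' hTr'
    obtain ⟨hfn, hmn⟩ := nd_fixSpace hrp hT' hTr'
    obtain ⟨j, hj⟩ := H73.Imprim.dvd_move hq hA hrp hT' hTr' hc (H73.Imprim.nd_top hB) (inv_top T)
    rw [top_inf_eq] at hj
    have hsum := split_finrank hrp hTr' (inv_top T)
    rw [top_inf_eq, top_inf_eq, finrank_top, hV, hj] at hsum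
    have hfk : (2 * d) % c ≤ finrank F ↥(fixSpace T) := by
      rw [hsum, Nat.add_mul_mod_self_left]
      exact Nat.mod_le _ _
    have hsl : min j ((a + a) / c) * c ≤ a + a :=
      (Nat.mul_le_mul_right c (min_le_right _ _)).trans (Nat.div_mul_le_self _ c)
    obtain ⟨Um, hUm, hUmn, hUmi, hUmd⟩ := attain hT' hmn (inv_ker_aeval T _) c
      (fun A' hle hn hi hne => by
        obtain ⟨U, h1, h2, h3, h4⟩ := H73.Imprim.exists_block hq hA hB (by omega) hrp hT' hTr' hc
          (sp_nd_ND.1 hn) hi hle hne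
        exact ⟨U, h1, sp_nd_ND.2 h2, h3, h4⟩)
      (min j ((a + a) / c)) (by
        rw [show finrank F ↥(moveSpace r T) = j * c by rw [hj, mul_comm]]
        exact Nat.mul_le_mul_right c (min_le_left _ _))
    obtain ⟨g, hg⟩ : 2 ∣ a + a - min j ((a + a) / c) * c :=
      Nat.dvd_sub ⟨a, (two_mul a).symm⟩ (hce.mul_left _)
    have hroom : a + a - min j ((a + a) / c) * c ≤ finrank F ↥(fixSpace T) := by
      rcases le_total j ((a + a) / c) with h | h
      · rw [min_eq_left h, mul_comm]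
        omega
      · rw [min_eq_right h]
        have := Nat.div_add_mod' (a + a) c
        omega
    obtain ⟨Uf, hUf, hUfn, -, hUfd⟩ := attain hT' hfn (inv_ker_aeval T _) 2
      (fun A' hle hn _ hne => exists_scalar_plane spForm_alt hn hne
        (c := 1) fun v hv => by rw [one_smul]; exact mem_fixSpace.1 (hle hv)) g (by omega)
    obtain ⟨h1, h3, h4⟩ := exists_nd_space hrp hT' hUf hUfn hUm hUmn hUmi
    exact ⟨_, by omega, h1, h3⟩

/-- The criterion. -/
theorem symp_nd_iff (hq : Fintype.card F = q) (hm : 2 ≤ m) (hme : Even m) (hmd : m < d)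
    (hrΩ : r ∣ Nat.card {W : Submodule F 𝕍 // finrank F ↥W = m ∧
      (∀ u ∈ W, u ≠ 0 → ∃ v ∈ W, Cfsg.sympForm d F u v ≠ 0)})
    (i c : ℕ) (hi : i = orderOf (q : ZMod r)) (hc : c = if Even i then i else 2 * i) :
    AllNdFix F r d m ↔
    ((r = p ∧ 2 < p ∧ (∀ μ : Multiset ℕ, (∀ a ∈ μ, 0 < a ∧ a ≤ p) → (∀ a : ℕ, Odd a → Even (μ.count a)) → μ.sum = 2 * d →
        ∃ ν : Multiset ℕ, ν ≤ μ ∧ ν.sum = m ∧ ∀ a : ℕ, Odd a → Even (ν.count a))) ∨
     (r = p ∧ p = 2 ∧ ((2 * d) % 4 = 2 ∨ m % 4 = 0)) ∨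
     (r = 2 ∧ p ≠ 2) ∨
     (r ≠ p ∧ 2 < r ∧ c ≤ m ∧ m % c ≤ (2 * d) % c)) := by
  have hd : 1 ≤ d := by omega
  have hp2 := (Fact.out : p.Prime).two_le
  have hr2 := (Fact.out : r.Prime).two_le
  rcases eq_or_ne r p with rfl | hrp
  · rcases eq_or_ne r 2 with rfl | h2
    · rw [symp_nd_char_two hd hme (by omega) rfl]
      constructor
      · exact fun h => Or.inr (Or.inl ⟨rfl, rfl, h⟩)
      · rintro (⟨-, h, -⟩ | ⟨-, -, h⟩ | ⟨-, h⟩ | ⟨h, -⟩)
        · omega
        · exact h
        · exact absurd rfl h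
        · exact absurd rfl h
    · rw [symp_nd_unip hd hme (by omega) h2]
      constructor
      · exact fun h => Or.inl ⟨rfl, by omega, h⟩
      · rintro (⟨-, -, h⟩ | ⟨-, h, -⟩ | ⟨h, -⟩ | ⟨h, -⟩)
        · exact h
        · exact absurd h h2
        · exact absurd h h2
        · exact absurd rfl h
  rcases eq_or_ne r 2 with rfl | h2
  · exact iff_of_true (symp_nd_two hd hme (by omega) (Ne.symm hrp)) (Or.inr (Or.inr (Or.inl ⟨rfl, Ne.symm hrp⟩)))
  · subst hi
    rw [symp_nd_odd hq hrp (by omega) hd hme (by omega) hmd.le hc (by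
      simpa only [sp_nd_iff] using hrΩ)]
    constructor
    · exact fun h => Or.inr (Or.inr (Or.inr ⟨hrp, by omega, h⟩))
    · rintro (⟨h, -⟩ | ⟨h, -⟩ | ⟨h, -⟩ | ⟨-, -, h⟩)
      · exact absurd h hrp
      · exact absurd h hrp
      · exact absurd h h2
      · exact h

end Cfsg.Agent.Linear.Elusive.Forms
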