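import Cfsg.Agent.Linear.Elusive.Forms.UnitaryModels
import Cfsg.Agent.Linear.Elusive.Forms.NdSub
import Cfsg.Agent.Unitary.Stab

/-!
The number of non-degenerate subspaces of a Hermitian space.
-/

set_option autoImplicit false
set_option linter.unusedSectionVars false

namespace Cfsg.Agent.Linear.Elusive.Forms

open Module
open scoped Matrix

universe u

variable {F : Type u} [Field F] [Fintype F] {p q r : ℕ} [Fact p.Prime] [CharP F p] [Fact r.Prime]
  {n m : ℕ}

theorem herm_nd_iff (hF : Fintype.card F = q ^ 2) {W : Submodule F (Fin n → F)} :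
    (∀ u ∈ W, u ≠ 0 → ∃ v ∈ W, Cfsg.hermForm n F q u v ≠ 0) ↔ (stdHerm hF (Fin n)).Nd W := by
  simp only [← stdHerm_apply hF]
  exact RForm.nd_iff.symm

theorem herm_nd_nondeg {W : Submodule F (Fin n → F)} :
    (∀ u ∈ W, u ≠ 0 → ∃ v ∈ W, Cfsg.hermForm n F q u v ≠ 0) ↔ Unitary.Nondeg q W := by
  refine forall_congr' fun u => imp_congr_right fun _ => ⟨fun h hall => ?_, fun h hu => ?_⟩
  · by_contra hu
    obtain ⟨v, hv, huv⟩ := h hu
    exact huv (hall v hv)
  · by_contra hno
    push Not at hno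
    exact hu (h hno)

/-- Non-degenerate subspaces of dimension `m`. -/
abbrev NdSubU (n : ℕ) (F : Type u) [Field F] (q m : ℕ) : Type u :=
  {W : Submodule F (Fin n → F) // finrank F ↥W = m ∧ Unitary.Nondeg q W}

open Unitary in
/-- The action of the unitary group. -/
@[reducible] noncomputable def ndAction (n : ℕ) (F : Type u) [Field F] [Fintype F] (q m : ℕ) :
    MulAction (Cfsg.GU n F q) (NdSubU n F q m) where
  smul g W := ⟨W.1.map (gmat g).mulVecLin, by
    refine ⟨(LinearEquiv.finrank_eq (Submodule.equivMapOfInjective (gmat g).mulVecLin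
      (gap_injective g) W.1).symm).trans W.2.1, ?_⟩
    rintro _ ⟨u, hu, rfl⟩ h
    have := W.2.2 u hu fun v hv => (herm_gap g u v).symm.trans (h _ ⟨v, hv, rfl⟩)
    rw [this, map_zero]⟩
  one_smul W := by
    apply Subtype.ext
    show W.1.map (gmat (1 : Cfsg.GU n F q)).mulVecLin = W.1
    rw [show gmat (1 : Cfsg.GU n F q) = 1 from rfl, Matrix.mulVecLin_one, Submodule.map_id]
  mul_smul g g' W := by
    apply Subtype.ext
    show W.1.map (gmat (g * g')).mulVecLin = (W.1.map (gmat g').mulVecLin).map (gmat g).mulVecLin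
    rw [← Submodule.map_comp, show gmat (g * g') = gmat g * gmat g' from rfl, Matrix.mulVecLin_mul]

open Unitary in
theorem card_nd_unitary_mul (hF : Fintype.card F = q ^ 2) (hmn : m ≤ n) :
    Nat.card (NdSubU n F q m) * (Nat.card (Cfsg.GU m F q) * Nat.card (Cfsg.GU (n - m) F q)) =
      Nat.card (Cfsg.GU n F q) := by
  classical
  obtain ⟨W0, -, hW0n, -, hW0d⟩ : ∃ W0 : Submodule F (Fin n → F), True ∧ Nondeg q W0 ∧ True ∧
      finrank F ↥W0 = m := by
    let f : Fin m → Fin n → F := fun i => Pi.single (Fin.castLE hmn i) 1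
    have hf : ON q f := fun i j => by
      rw [on_std hF]
      simp
    exact ⟨_, trivial, hf.nondeg, trivial, by rw [hf.finrank_span, Fintype.card_fin]⟩
  let W : NdSubU n F q m := ⟨W0, hW0d, hW0n⟩
  let := ndAction n F q m
  have htrans : MulAction.orbit (Cfsg.GU n F q) W = Set.univ := by
    refine Set.eq_univ_iff_forall.2 fun W' => ?_
    obtain ⟨f, hf, hfs⟩ := exists_ON_basis hF W.1 W.2.2
    obtain ⟨f', hf', hfs'⟩ := exists_ON_basis hF W'.1 W'.2.2
    have hk : finrank F ↥W.1 = finrank F ↥W'.1 := W.2.1.trans W'.2.1.symm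
    obtain ⟨g, hg⟩ := exists_GU_map_ON hF hf
      (f' := fun i => f' (Fin.cast hk i)) (fun i j => by rw [hf']; simp)
    refine ⟨g, Subtype.ext ?_⟩
    show W.1.map (gmat g).mulVecLin = W'.1
    refine Submodule.eq_of_le_of_finrank_eq ?_ ?_
    · rw [← hfs, Submodule.map_span, Submodule.span_le]
      rintro _ ⟨_, ⟨i, rfl⟩, rfl⟩
      show gmat g *ᵥ f i ∈ W'.1
      rw [hg i]
      exact hfs'.le (Submodule.subset_span ⟨_, rfl⟩)
    · rw [← hk]
      exact (Submodule.equivMapOfInjective (gmat g).mulVecLin (gap_injective g) W.1).symm.finrank_eq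
  have hstab : MulAction.stabilizer (Cfsg.GU n F q) W =
      (Cfsg.stabilizing (Cfsg.glToMat (Fin n) F) (W.1 : Set (Fin n → F))).subgroupOf (Cfsg.GU n F q) := by
    ext g
    rw [MulAction.mem_stabilizer_iff, mem_stab_iff_map, Subtype.ext_iff]
    rfl
  obtain ⟨ψ⟩ := exists_stab_equiv hF W.1 W.2.2 W.2.1
  rw [← Nat.card_prod (Cfsg.GU m F q), ← Nat.card_congr ψ.toEquiv, ← hstab, ← Nat.card_prod,
    ← Nat.card_congr (MulAction.orbitProdStabilizerEquivGroup (Cfsg.GU n F q) W), Nat.card_prod,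
    Nat.card_prod, htrans, Nat.card_congr (Equiv.Set.univ _)]

/-- A prime divisor of the number of non-degenerate subspaces. -/
theorem unitary_nd_count (hF : Fintype.card F = q ^ 2) (hrp : r ≠ p) (hmn : m ≤ n)
    (hrΩ : r ∣ Nat.card {W : Submodule F (Fin n → F) // finrank F ↥W = m ∧
      (∀ u ∈ W, u ≠ 0 → ∃ v ∈ W, Cfsg.hermForm n F q u v ≠ 0)}) :
    ∃ s, n - m < s ∧ s ≤ n ∧ (q : ZMod r) ^ s = (-1) ^ s := by
  have hq0 : 0 < q := Unitary.q_pos hF
  have hrq : ¬ r ∣ q := fun h => not_dvd_q (F := F) hF hrp (h.trans (dvd_pow_self q two_ne_zero))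
  simp only [herm_nd_nondeg] at hrΩ
  obtain ⟨N', hN'⟩ := hrΩ
  have h := card_nd_unitary_mul (F := F) hF hmn
  rw [show Nat.card (NdSubU n F q m) = r * N' from hN', Unitary.card_GU hF, Unitary.card_GU hF,
    Unitary.card_GU hF,
    ← Finset.prod_range_mul_prod_Ico (fun i => Unitary.guFactor q i) (show n - m ≤ n by omega)] at h
  set A := ∏ i ∈ Finset.range m, Unitary.guFactor q i
  set B := ∏ i ∈ Finset.range (n - m), Unitary.guFactor q i
  set C := ∏ i ∈ Finset.Ico (n - m) n, Unitary.guFactor q i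
  have hfac : ∀ i, 0 < Unitary.guFactor q i := fun i => by
    unfold Unitary.guFactor
    split_ifs
    · omega
    · have := Nat.one_lt_pow (show i + 1 ≠ 0 by omega) (show 1 < q by
        have := Unitary.two_le_q hF; omega)
      omega
  have h2 : r * (N' * q ^ (m * (m - 1) / 2) * A * q ^ ((n - m) * (n - m - 1) / 2)) =
      q ^ (n * (n - 1) / 2) * C :=
    Nat.eq_of_mul_eq_mul_right (Finset.prod_pos fun i _ => hfac i : 0 < B) (by linear_combination h)
  rcases (Fact.out : r.Prime).dvd_mul.1 ⟨_, h2.symm⟩ with hd | hd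
  · exact absurd ((Fact.out : r.Prime).dvd_of_dvd_pow hd) hrq
  obtain ⟨i, hi, hri⟩ := ((Fact.out : r.Prime).prime.dvd_finsetProd_iff _).1 hd
  rw [Finset.mem_Ico] at hi
  refine ⟨i + 1, by omega, by omega, ?_⟩
  have := congrArg (Int.cast : ℤ → ZMod r) (Unitary.guFactor_cast hq0 i)
  push_cast at this
  rw [(ZMod.natCast_eq_zero_iff _ r).2 hri] at this
  linear_combination -this

end Cfsg.Agent.Linear.Elusive.Forms
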