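import Cfsg.Agent.Linear.Elusive.Forms.UnitaryTools
import Cfsg.Agent.Linear.Elusive.Forms.Symp

/-!
Involutions of the projective unitary groups.
-/

set_option autoImplicit false
set_option linter.unusedSectionVars false

namespace Cfsg.Agent.Linear.Elusive.Forms

open Polynomial Module

universe u

variable {F : Type u} [Field F] [Fintype F] {p q : ℕ} [Fact p.Prime] [CharP F p] {n m : ℕ}
  (hF : Fintype.card F = q ^ 2)
include hF

theorem q_odd (hp2 : p ≠ 2) : q % 2 = 1 := by
  obtain ⟨k, hp, hk⟩ := FiniteField.card F p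
  obtain ⟨e, he⟩ := exists_q_pow (p := p) hF
  rw [he]
  exact Nat.odd_iff.1 (Odd.pow (hp.odd_of_ne_two hp2))

/-- A scalar multiple of an involution fixes isotropic spaces of every dimension below half. -/
theorem unitary_two (hp2 : p ≠ 2) (hn : 1 ≤ n) (hmn : 2 * m ≤ n)
    (hcond : 2 * m < n ∨ padicValNat 2 (q + 1) ≤ padicValNat 2 n)
    {T : End F (Fin n → F)} (hT : (stdHerm hF (Fin n)).Iso T) (hdet : LinearMap.det T = 1) {z : F}
    (hT2 : T ^ 2 = z • (1 : End F (Fin n → F))) :
    ∃ W : Submodule F (Fin n → F),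
      finrank F W = m ∧ (stdHerm hF (Fin n)).TI W ∧ Inv T W := by
  classical
  haveI : Fact (Nat.Prime 2) := ⟨Nat.prime_two⟩
  have hodd := q_odd (p := p) hF hp2
  have hq1 := Unitary.two_le_q hF
  have h2 : ((2 : ℕ) : F) ≠ 0 := cast_ne_zero (F := F) (Ne.symm hp2)
  push_cast at h2
  have hz := scalar_norm (r := 2) hF hn hT hT2
  have hd2 : 2 ∣ Fintype.card F - 1 := by
    rw [card_sub_one hF]; exact Dvd.dvd.mul_right (by omega) _
  obtain ⟨e, he⟩ : ∃ e : F, e ^ 2 = z := by
    refine exists_root_of_pow hd2 (fun h => by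
      rw [h, zero_pow (Nat.succ_ne_zero q)] at hz; exact zero_ne_one hz) ?_
    obtain ⟨l, hl⟩ : 2 ∣ q - 1 := by omega
    rw [card_sub_one hF, hl, mul_left_comm, Nat.mul_div_cancel_left _ two_pos, pow_mul, hz, one_pow]
  have he0 : e ≠ 0 := fun h => by
    rw [h, zero_pow two_ne_zero] at he
    rw [← he, zero_pow (Nat.succ_ne_zero q)] at hz
    exact zero_ne_one hz
  set S := e⁻¹ • T
  have hS2 : S ^ 2 = 1 := by
    rw [_root_.smul_pow, hT2, smul_smul, ← he, ← mul_pow, inv_mul_cancel₀ he0, one_pow, one_smul]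
  have hinv : ∀ W, Inv S W → Inv T W := fun W h => (Inv.smul_iff (inv_ne_zero he0)).1 h
  have hneg : ∀ v ∈ moveSpace 2 S, S v = -v := fun v hv => by
    rw [moveSpace, LinearMap.mem_ker, cyclotomic_two, map_add, aeval_X, map_one,
      LinearMap.add_apply, Module.End.one_apply] at hv
    exact eq_neg_of_add_eq_zero_left hv
  have hAinv : ∀ U ≤ fixSpace S, Inv S U := fun U hU => by
    rintro _ ⟨v, hv, rfl⟩; rw [mem_fixSpace.1 (hU hv)]; exact hv
  have hBinv : ∀ U ≤ moveSpace 2 S, Inv S U := fun U hU => by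
    rintro _ ⟨v, hv, rfl⟩; rw [hneg v (hU hv)]; exact U.neg_mem hv
  have hsum := split_finrank (r := 2) (Ne.symm hp2) hS2 (inv_top S)
  rw [top_inf_eq, top_inf_eq, finrank_top, Module.finrank_fin_fun] at hsum
  have hee : e ^ (q + 1) = 1 ∨ e ^ (q + 1) = -1 :=
    sq_eq_one_iff.1 (by rw [← pow_mul, mul_comm, pow_mul, he, hz])
  rcases hee with h1 | h1
  · have hS : (stdHerm hF (Fin n)).Iso S := iso_smul hF hT (e := e⁻¹) (by rw [inv_pow, h1, _root_.inv_one])
    obtain ⟨hA, hB⟩ := nd_fixSpace (r := 2) (Ne.symm hp2) hS hS2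
    obtain ⟨k, hk⟩ := exists_q_pow (p := p) hF
    obtain ⟨W1, hW1, ht1, hd1⟩ := exists_ti_herm (φ := stdHerm hF (Fin n)) (q₀ := q) ⟨k, hk⟩
      (by rw [hF, pow_two]) (fun x => rfl) hA
    obtain ⟨W2, hW2, ht2, hd2'⟩ := exists_ti_herm (φ := stdHerm hF (Fin n)) (q₀ := q) ⟨k, hk⟩
      (by rw [hF, pow_two]) (fun x => rfl) hB
    have hu1 := ht1.two_mul_le hA hW1
    have hu2 := ht2.two_mul_le hB hW2
    have hle : m ≤ finrank F W1 + finrank F W2 := by
      by_contra hlt
      push Not at hlt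
      have hBodd : finrank F ↥(moveSpace 2 S) % 2 = 1 := by omega
      have hcond' : padicValNat 2 (q + 1) ≤ padicValNat 2 n := hcond.resolve_left (by omega)
      -- the determinant is `-e ^ n`
      have hsplit := isCompl_iff.2 ⟨disjoint_spaces (F := F) (r := 2) (Ne.symm hp2) S,
        codisjoint_iff.2 (Submodule.eq_top_of_finrank_eq (by
          rw [finrank_sup_eq (disjoint_spaces (Ne.symm hp2) S) le_rfl le_rfl, Module.finrank_fin_fun]
          omega))⟩
      let Φ := Submodule.prodEquivOfIsCompl _ _ hsplit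
      have hconj : S = Φ.toLinearMap ∘ₗ
          (LinearMap.prodMap (LinearMap.id : End F ↥(fixSpace S))
            ((-1 : F) • (LinearMap.id : End F ↥(moveSpace 2 S)))) ∘ₗ Φ.symm.toLinearMap := by
        refine LinearMap.ext fun v => ?_
        obtain ⟨⟨a, b⟩, rfl⟩ := Φ.surjective v
        simp only [LinearMap.comp_apply, LinearEquiv.coe_coe, LinearEquiv.symm_apply_apply]
        show S ((a : Fin n → F) + b) = (a : Fin n → F) + ((-1 : F) • b : ↥(moveSpace 2 S))
        rw [map_add, mem_fixSpace.1 a.2, hneg _ b.2, Submodule.coe_smul, neg_one_smul]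
      have hdS : LinearMap.det S = -1 := by
        rw [hconj, LinearMap.det_conj, LinearMap.det_prodMap, LinearMap.det_id, one_mul,
          LinearMap.det_smul, LinearMap.det_id, mul_one, (Nat.odd_iff.2 hBodd).neg_one_pow]
      have hdS' : LinearMap.det S = e⁻¹ ^ n := by
        rw [LinearMap.det_smul, hdet, mul_one, Module.finrank_fin_fun]
      have hen : e ^ n = -1 := by
        rw [← inv_inv (e ^ n), ← inv_pow, ← hdS', hdS, inv_neg, _root_.inv_one]
      obtain ⟨c, hc⟩ := pow_padicValNat_dvd (p := 2) (n := q + 1)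
      have hc2 : ¬ 2 ∣ c := fun ⟨c', hc'⟩ => by
        refine pow_succ_padicValNat_not_dvd (p := 2) (Nat.succ_ne_zero q) ⟨c', ?_⟩
        rw [hc', ← mul_assoc, ← pow_succ] at hc
        exact hc
      obtain ⟨a, ha⟩ : 2 ^ padicValNat 2 (q + 1) ∣ n := (pow_dvd_pow 2 hcond').trans pow_padicValNat_dvd
      have h3 : e ^ (n * c) = 1 := by
        rw [ha, mul_right_comm, ← hc, pow_mul, h1, one_pow]
      rw [pow_mul, hen, (Nat.odd_iff.2 (by omega) : Odd c).neg_one_pow] at h3
      exact h2 (by linear_combination -h3)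
    obtain ⟨U1, hU1, hUd1⟩ := exists_sub W1 (a := min m (finrank F W1)) (min_le_right _ _)
    obtain ⟨U2, hU2, hUd2⟩ := exists_sub W2 (a := m - min m (finrank F W1)) (by omega)
    refine ⟨U1 ⊔ U2, ?_, ?_, hinv _ ?_⟩
    · rw [finrank_sup_eq (disjoint_spaces (Ne.symm hp2) S) (hU1.trans hW1) (hU2.trans hW2), hUd1, hUd2]
      omega
    · exact (ht1.mono hU1).sup (ht2.mono hU2) (RForm.le_perp_iff.1 ((hU2.trans hW2).trans
        ((move_le_perp_fix (Ne.symm hp2) hS).trans (RForm.perp_anti (hU1.trans hW1)))))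
    · exact (hAinv _ (hU1.trans hW1)).sup (hBinv _ (hU2.trans hW2))
  · -- a similitude with multiplier `-1`
    have hS : ∀ u v, (stdHerm hF (Fin n)).B (S u) (S v) = -(stdHerm hF (Fin n)).B u v := fun u v => by
      rw [LinearMap.smul_apply, LinearMap.smul_apply, stdHerm_smul, hT u v, ← pow_succ', inv_pow, h1,
        inv_neg, _root_.inv_one, neg_one_mul]
    have hti : ∀ c : F, c * c ^ q = 1 → ∀ U : Submodule F (Fin n → F), (∀ v ∈ U, S v = c • v) →
        (stdHerm hF (Fin n)).TI U := fun c hc U hU v hv u hu => by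
      have h3 := hS u v
      rw [hU u hu, hU v hv, stdHerm_smul, hc, one_mul] at h3
      have h4 : (2 : F) * (stdHerm hF (Fin n)).B u v = 0 := by linear_combination h3
      exact (mul_eq_zero.1 h4).resolve_left h2
    have htA := hti 1 (by simp) (fixSpace S) fun v hv => by rw [mem_fixSpace.1 hv, one_smul]
    have htB := hti (-1) (by rw [(Nat.odd_iff.2 hodd).neg_one_pow]; ring) (moveSpace 2 S)
      fun v hv => by rw [hneg v hv, neg_one_smul]
    have hb1 := htA.two_mul_le RForm.nd_top le_top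
    have hb2 := htB.two_mul_le RForm.nd_top le_top
    rw [finrank_top, Module.finrank_fin_fun] at hb1 hb2
    obtain ⟨U, hU, hUd⟩ := exists_sub (fixSpace S) (a := m) (by omega)
    exact ⟨U, hUd, htA.mono hU, hinv _ (hAinv U hU)⟩

/-- An involution without fixed maximal isotropic subspaces. -/
theorem unitary_two_witness (hp2 : p ≠ 2) (hm : 1 ≤ m) (hn : n = 2 * m)
    (hv : padicValNat 2 n < padicValNat 2 (q + 1)) :
    ¬ ∀ x : Matrix.SpecialLinearGroup (Fin n) F, x ∈ Cfsg.SU n F q →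
      (∃ z : F, ((x ^ 2 : Matrix.SpecialLinearGroup (Fin n) F) : Matrix (Fin n) (Fin n) F) = z • (1 : Matrix (Fin n) (Fin n) F)) →
      (∀ z : F, (x : Matrix (Fin n) (Fin n) F) ≠ z • (1 : Matrix (Fin n) (Fin n) F)) →
      ∃ W : Submodule F (Fin n → F), finrank F ↥W = m ∧ (∀ u ∈ W, ∀ v ∈ W, Cfsg.hermForm n F q u v = 0) ∧
        W.map (Matrix.toLin' (x : Matrix (Fin n) (Fin n) F)) ≤ W := by
  classical
  haveI : Fact (Nat.Prime 2) := ⟨Nat.prime_two⟩
  have hodd := q_odd (p := p) hF hp2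
  have h2 : ((2 : ℕ) : F) ≠ 0 := cast_ne_zero (F := F) (Ne.symm hp2)
  push_cast at h2
  set v := padicValNat 2 n
  have hdvd : 2 ^ (v + 1) ∣ q + 1 := (pow_dvd_pow 2 hv).trans pow_padicValNat_dvd
  obtain ⟨e, he0, heo⟩ := exists_orderOf_of_dvd (F := F) (hdvd.trans (succ_dvd hF))
  have he1 : e ^ (q + 1) = 1 := orderOf_dvd_iff_pow_eq_one.1 (heo.symm ▸ hdvd)
  obtain ⟨a, ha⟩ := pow_padicValNat_dvd (p := 2) (n := n)
  have haodd : Odd a := by
    rw [← Nat.not_even_iff_odd, even_iff_two_dvd]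
    rintro ⟨a', rfl⟩
    exact pow_succ_padicValNat_not_dvd (p := 2) (show n ≠ 0 by omega) ⟨a', by rw [pow_succ, mul_assoc]; exact ha⟩
  have hen : e ^ n = -1 := by
    have h4 : (e ^ 2 ^ v) ^ 2 = 1 := by rw [← pow_mul, ← pow_succ, ← heo, pow_orderOf_eq_one]
    rcases sq_eq_one_iff.1 h4 with h5 | h5
    · have := orderOf_dvd_of_pow_eq_one h5
      rw [heo, Nat.pow_dvd_pow_iff_le_right (by norm_num)] at this
      omega
    · rw [ha, pow_mul, h5, haodd.neg_one_pow]
  obtain ⟨i0, hi0⟩ : ∃ i0 : Fin n, (i0 : ℕ) = 0 := ⟨⟨0, by omega⟩, rfl⟩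
  let b : Fin n → F := fun k => if k = i0 then -1 else 1
  let a' : Fin n → F := fun k => e * b k
  have hb2 : ∀ k, b k ^ 2 = 1 := fun k => by simp only [b]; split <;> simp
  have hbn : ∀ k, b k ^ (q + 1) = 1 := fun k => by
    obtain ⟨l, hl⟩ : 2 ∣ q + 1 := by omega
    rw [hl, pow_mul, hb2, one_pow]
  have hdet : (Matrix.diagonal a').det = 1 := by
    rw [Matrix.det_diagonal, Finset.prod_mul_distrib, Finset.prod_const, Finset.card_univ,
      Fintype.card_fin, hen, Finset.prod_ite_eq' Finset.univ i0 (fun _ => (-1 : F)),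
      if_pos (Finset.mem_univ _)]
    ring
  refine not_all_of_matrix (r := 2) hF (preserves_diagonal hF a' fun k => by
    rw [mul_pow, he1, hbn, one_mul]) hdet (z := e ^ 2) ?_ (fun c hc => ?_) fun U hUi hUt hUm => ?_
  · rw [Matrix.diagonal_pow, Matrix.smul_one_eq_diagonal]
    congr 1
    funext k
    simp [a', mul_pow, hb2]
  · rw [Matrix.smul_one_eq_diagonal] at hc
    have h0 := congrFun (Matrix.diagonal_injective hc) i0
    have h1 := congrFun (Matrix.diagonal_injective hc) ⟨1, by omega⟩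
    simp only [a', b, if_pos rfl, ↓reduceIte, if_neg (show (⟨1, by omega⟩ : Fin n) ≠ i0 from fun h => by
      rw [Fin.ext_iff, hi0] at h; exact one_ne_zero h)] at h0 h1
    exact mul_ne_zero he0 h2 (by linear_combination h1 - h0)
  · have hT := iso_stdHerm hF (Fin n) (a := b) fun k => by rw [← pow_succ', hbn]
    have hT2 : mulEnd (F := F) b ^ 2 = 1 := by
      rw [mulEnd_pow]
      exact LinearMap.ext fun x => funext fun i => by simp [mulEnd_apply, hb2]
    have hUb : Inv (mulEnd (F := F) b) U := by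
      have : Matrix.toLin' (Matrix.diagonal a') = e • mulEnd (F := F) b := by
        rw [toLin_diagonal]
        exact LinearMap.ext fun x => funext fun k => by simp [mulEnd_apply, a', mul_assoc]
      rw [this] at hUi
      exact (Inv.smul_iff he0).1 hUi
    obtain ⟨hA, hB⟩ := nd_fixSpace (r := 2) (Ne.symm hp2) hT hT2
    have hfix : finrank F ↥(moveSpace 2 (mulEnd (F := F) b)) = 1 := by
      rw [moveSpace, cyclotomic_two, aeval_mulEnd, finrank_ker_mulEnd, Module.finrank_self, one_mul,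
        Nat.card_eq_one_iff_unique]
      refine ⟨⟨fun x y => Subtype.ext ?_⟩, ⟨⟨i0, by simp [b]⟩⟩⟩
      have key : ∀ k, aeval (b k) (X + 1 : F[X]) = 0 → k = i0 := fun k hk => by
        by_contra hne
        simp only [map_add, aeval_X, map_one, b, if_neg hne] at hk
        exact h2 (by linear_combination hk)
      rw [key _ x.2, key _ y.2]
    have hsplit := split_finrank (r := 2) (Ne.symm hp2) hT2 hUb
    have hu1 := (hUt.mono inf_le_left).two_mul_le hA (inf_le_right : U ⊓ fixSpace (mulEnd (F := F) b) ≤ _)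
    have hu2 := (hUt.mono inf_le_left).two_mul_le hB (inf_le_right : U ⊓ moveSpace 2 (mulEnd (F := F) b) ≤ _)
    have htot := split_finrank (r := 2) (Ne.symm hp2) hT2 (inv_top (mulEnd (F := F) b))
    rw [top_inf_eq, top_inf_eq, finrank_top, Module.finrank_fin_fun] at htot
    omega

end Cfsg.Agent.Linear.Elusive.Forms
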