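import Cfsg.Agent.Linear.Elusive.Forms.UnitaryOdd
import Cfsg.Agent.Linear.Elusive.Forms.UnitaryTwo

/-!
Totally isotropic subspaces fixed by elements of prime order of the unitary groups.
-/

set_option autoImplicit false
set_option linter.unusedSectionVars false

namespace Cfsg.Agent.Linear.Elusive.Forms

open Polynomial Module

universe u

variable {F : Type u} [Field F] [Fintype F] {p q r : ℕ} [Fact p.Prime] [CharP F p] [Fact r.Prime]
  {n m : ℕ} (hF : Fintype.card F = q ^ 2)
include hF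

/-- Distinct non-trivial eigenvalues: a diagonal witness. -/
theorem diag_witness (hrp : r ≠ p) (hr2 : 2 < r) (hrq : r ∣ q + 1) (h f : ℕ) (hn : n = h + h + f)
    (hh : 1 ≤ h) (hhr : 2 * h < r) (hf : f < 2 * m) :
    ¬ ∀ x : Matrix.SpecialLinearGroup (Fin n) F, x ∈ Cfsg.SU n F q →
      (∃ z : F, ((x ^ r : Matrix.SpecialLinearGroup (Fin n) F) : Matrix (Fin n) (Fin n) F) = z • (1 : Matrix (Fin n) (Fin n) F)) →
      (∀ z : F, (x : Matrix (Fin n) (Fin n) F) ≠ z • (1 : Matrix (Fin n) (Fin n) F)) →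
      ∃ W : Submodule F (Fin n → F), finrank F ↥W = m ∧ (∀ u ∈ W, ∀ v ∈ W, Cfsg.hermForm n F q u v = 0) ∧
        W.map (Matrix.toLin' (x : Matrix (Fin n) (Fin n) F)) ≤ W := by
  classical
  subst hn
  obtain ⟨ζ, hζ0, hζr, hζ1⟩ := exists_orderOf_eq (F := F) (hrq.trans (succ_dvd hF))
  have hord : orderOf ζ = r := orderOf_eq_prime hζr hζ1
  have hne1 : ∀ k, 0 < k → k < r → ζ ^ k ≠ 1 := fun k h1 h2 h3 => by
    have := Nat.le_of_dvd h1 (hord ▸ orderOf_dvd_of_pow_eq_one h3)
    omega
  have hinj' : ∀ k l, k < r → l < r → ζ ^ k = ζ ^ l → k = l := fun k l h1 h2 h3 =>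
    pow_injOn_Iio_orderOf (by rw [Set.mem_Iio, hord]; exact h1) (by rw [Set.mem_Iio, hord]; exact h2) h3
  let A : (Fin h ⊕ Fin h) ⊕ Fin f → F :=
    Sum.elim (Sum.elim (fun k => ζ ^ ((k : ℕ) + 1)) fun k => ζ ^ (r - ((k : ℕ) + 1))) fun _ => 1
  let eqv : (Fin h ⊕ Fin h) ⊕ Fin f ≃ Fin (h + h + f) :=
    (Equiv.sumCongr finSumFinEquiv (Equiv.refl _)).trans finSumFinEquiv
  let a : Fin (h + h + f) → F := fun k => A (eqv.symm k)
  have hAr : ∀ x, A x ^ r = 1 := by
    rintro ((k | k) | k) <;> simp only [A, Sum.elim_inl, Sum.elim_inr, one_pow] <;>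
      rw [← pow_mul, mul_comm, pow_mul, hζr, one_pow]
  obtain ⟨l, hl⟩ := hrq
  have hinj : ∀ x y, A x ≠ 1 → A x = A y → x = y := by
    rintro ((k | k) | k) ((k' | k') | k') hk he <;>
      simp only [A, Sum.elim_inl, Sum.elim_inr] at hk he <;>
      (try exact absurd he hk) <;> (try exact absurd rfl hk) <;>
      (try (have := k.isLt; have := k'.isLt; have := hinj' _ _ (by omega) (by omega) he;
            first
              | (simp [Fin.ext_iff]; omega)
              | omega))
  have hone : ∀ x, A x = 1 → ∃ k, x = Sum.inr k := by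
    rintro ((k | k) | k) he <;> simp only [A, Sum.elim_inl, Sum.elim_inr] at he
    · have := k.isLt; exact absurd he (hne1 _ (by omega) (by omega))
    · have := k.isLt; exact absurd he (hne1 _ (by omega) (by omega))
    · exact ⟨k, rfl⟩
  have hprod : ∏ k, a k = 1 := by
    rw [Equiv.prod_comp eqv.symm A, Fintype.prod_sum_type, Fintype.prod_sum_type,
      ← Finset.prod_mul_distrib]
    simp only [A, Sum.elim_inl, Sum.elim_inr, Finset.prod_const_one, mul_one]
    refine Finset.prod_eq_one fun k _ => ?_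
    have := k.isLt
    rw [← pow_add, show (k : ℕ) + 1 + (r - ((k : ℕ) + 1)) = r by omega, hζr]
  refine not_all_of_matrix (r := r) hF
    (preserves_diagonal hF a fun k => by rw [hl, pow_mul, hAr, one_pow])
    (by rw [Matrix.det_diagonal, hprod]) (z := 1) ?_ (fun c hc => ?_) fun U hUi hUt hUm => ?_
  · rw [Matrix.diagonal_pow, one_smul, ← Matrix.diagonal_one]
    congr 1
    funext k
    exact hAr _
  · rw [Matrix.smul_one_eq_diagonal] at hc
    have h0 := congrFun (Matrix.diagonal_injective hc) (eqv (Sum.inl (Sum.inl ⟨0, hh⟩)))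
    have h1 := congrFun (Matrix.diagonal_injective hc) (eqv (Sum.inl (Sum.inr ⟨0, hh⟩)))
    simp only [a, A, Equiv.symm_apply_apply, Sum.elim_inl, Sum.elim_inr] at h0 h1
    have := hinj' _ _ (by omega) (by omega) (h0.trans h1.symm)
    omega
  · rw [toLin_diagonal] at hUi
    have hb := diag_bound hF hrp ⟨l, hl⟩ (a := a) (fun k => hAr _) (fun k k' h1 h2 =>
      eqv.symm.injective (hinj _ _ h1 h2)) hUi hUt
    have hle : Nat.card {k // a k = 1} ≤ f := by
      refine le_trans (Nat.card_le_card_of_injective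
        (fun x : {k // a k = 1} => (hone _ x.2).choose) ?_) (Nat.card_fin f).le
      rintro ⟨x, hx⟩ ⟨y, hy⟩ hxy
      refine Subtype.ext (eqv.symm.injective ?_)
      rw [(hone _ hx).choose_spec, (hone _ hy).choose_spec]
      exact congrArg Sum.inr hxy
    omega

/-- An element all of whose invariant subspaces have dimension divisible by `r`. -/
theorem bad_element (hrp : r ≠ p) (hr2 : 2 < r) (hrq : r ∣ q + 1) (hn : 1 ≤ n)
    (hv : padicValNat r (q + 1) < padicValNat r n) :
    ∃ (M : Matrix (Fin n) (Fin n) F) (z : F), Unitary.Preserves q M ∧ M.det = 1 ∧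
      M ^ r = z • (1 : Matrix (Fin n) (Fin n) F) ∧ (∀ c : F, M ≠ c • (1 : Matrix (Fin n) (Fin n) F)) ∧
      ∀ U : Submodule F (Fin n → F), Inv (Matrix.toLin' M) U → r ∣ finrank F U := by
  classical
  set v := padicValNat r (q + 1) with hvdef
  have hvd : r ^ v ∣ q + 1 := pow_padicValNat_dvd
  obtain ⟨z, hz0, hzo⟩ := exists_orderOf_of_dvd (F := F) (hvd.trans (succ_dvd hF))
  have hz1 : z ^ (q + 1) = 1 := orderOf_dvd_iff_pow_eq_one.1 (hzo.symm ▸ hvd)
  have hnv : r ^ (v + 1) ∣ n := (pow_dvd_pow r hv).trans pow_padicValNat_dvd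
  obtain ⟨k', hk'⟩ := hnv
  obtain ⟨N, hN, hzN⟩ : ∃ N, n = r * N ∧ z ^ N = 1 :=
    ⟨r ^ v * k', by rw [hk', pow_succ]; ring, by rw [pow_mul, ← hzo, pow_orderOf_eq_one, one_pow]⟩
  have hnr : ∀ e : F, e ^ r ≠ z := fun e he => by
    have he0 : e ≠ 0 := fun h => by
      rw [h, zero_pow (Fact.out : r.Prime).ne_zero] at he
      exact hz0 he.symm
    obtain ⟨l, hl⟩ := hrq.trans (succ_dvd hF)
    have h1 : z ^ l = 1 := by
      rw [← he, ← pow_mul, ← hl, FiniteField.pow_card_sub_one_eq_one e he0]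
    have h2 : r ^ (v + 1) ∣ Fintype.card F - 1 := by
      rw [hl, pow_succ']
      exact mul_dvd_mul_left r (hzo ▸ orderOf_dvd_of_pow_eq_one h1)
    rw [card_sub_one hF] at h2
    have h3 := (((Fact.out : r.Prime).coprime_iff_not_dvd.2 (not_dvd_pred hF hr2 hrq)).pow_left (v + 1)).dvd_of_dvd_mul_right h2
    have := (padicValNat_dvd_iff_le (show q + 1 ≠ 0 from Nat.succ_ne_zero q)).1 h3
    omega
  have hirr : Irreducible (X ^ r - Polynomial.C z) :=
    X_pow_sub_C_irreducible_of_prime (Fact.out : r.Prime) hnr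
  haveI : Fact (Irreducible (X ^ r - Polynomial.C z)) := ⟨hirr⟩
  haveI := (AdjoinRoot.powerBasis hirr.ne_zero).finite
  haveI : Finite (AdjoinRoot (X ^ r - Polynomial.C z)) := Module.finite_of_finite F
  haveI : CharP (AdjoinRoot (X ^ r - Polynomial.C z)) p :=
    charP_of_injective_algebraMap (algebraMap F _).injective p
  haveI : Fintype (AdjoinRoot (X ^ r - Polynomial.C z)) := Fintype.ofFinite _
  have hE : finrank F (AdjoinRoot (X ^ r - Polynomial.C z)) = r :=
    ((AdjoinRoot.powerBasis hirr.ne_zero).finrank).trans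
      ((AdjoinRoot.powerBasis_dim hirr.ne_zero).trans natDegree_X_pow_sub_C)
  obtain ⟨e, he⟩ := exists_q_pow (p := p) hF
  have hodd : Odd r := (Fact.out : r.Prime).odd_of_ne_two (by omega)
  have hqr : ∀ x : F, x ^ q ^ r = x ^ q := fun x => by
    obtain ⟨l, hl⟩ := hodd
    rw [hl, pow_succ, pow_mul q, ← hF, pow_mul, FiniteField.pow_card_pow]
  let τ := iterateFrobenius (AdjoinRoot (X ^ r - Polynomial.C z)) p (e * r)
  have hτd : ∀ x, τ x = x ^ q ^ r := fun x => by rw [iterateFrobenius_def, he, ← pow_mul]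
  have hτ : ∀ x : F, τ (algebraMap F _ x) = algebraMap F _ (conj hF x) := fun x => by
    rw [hτd, ← map_pow, hqr, conj_apply]
  have htr : ∀ x, conj hF (Algebra.trace F (AdjoinRoot (X ^ r - Polynomial.C z)) x) =
      Algebra.trace F (AdjoinRoot (X ^ r - Polynomial.C z)) (τ x) := fun x => by
    rw [iterateFrobenius_def, trace_pow_char, pow_mul p, ← he, hqr, conj_apply]
  have hττ : ∀ x, τ (τ x) = x := fun x => by
    have hc : q ^ r * q ^ r = Fintype.card (AdjoinRoot (X ^ r - Polynomial.C z)) := by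
      rw [Module.card_eq_pow_finrank (K := F) (V := AdjoinRoot (X ^ r - Polynomial.C z)), hE, hF,
        ← pow_mul, ← pow_add, two_mul]
    rw [hτd, hτd, ← pow_mul, hc, FiniteField.pow_card]
  set α := AdjoinRoot.root (X ^ r - Polynomial.C z)
  have hαr : α ^ r = algebraMap F _ z := by
    have h := AdjoinRoot.mk_self (f := X ^ r - Polynomial.C z)
    rw [map_sub, map_pow, AdjoinRoot.mk_X, AdjoinRoot.mk_C, sub_eq_zero] at h
    exact h
  have hsum : r * (q + 1) ∣ q ^ r + 1 := by
    have h1 : ((∑ l ∈ Finset.range r, (-(q : ℤ)) ^ l)) * ((q : ℤ) + 1) = (q : ℤ) ^ r + 1 := by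
      have := geom_sum_mul (-(q : ℤ)) r
      rw [hodd.neg_pow] at this
      linear_combination -this
    have h2 : (r : ℤ) ∣ ∑ l ∈ Finset.range r, (-(q : ℤ)) ^ l := by
      rw [← ZMod.intCast_zmod_eq_zero_iff_dvd]
      push_cast
      have hq1 : -(q : ZMod r) = 1 := by
        have : ((q + 1 : ℕ) : ZMod r) = 0 := (ZMod.natCast_eq_zero_iff _ r).2 hrq
        push_cast at this
        linear_combination -this
      simp [hq1]
    rw [← Int.natCast_dvd_natCast]
    push_cast
    rw [← h1]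
    exact mul_dvd_mul_right h2 _
  have hα : α * τ α = 1 := by
    obtain ⟨l, hl⟩ := hsum
    rw [hτd, ← pow_succ', hl, mul_assoc, pow_mul, hαr, ← map_pow, pow_mul, hz1, one_pow, map_one]
  let T : End F (Fin N → AdjoinRoot (X ^ r - Polynomial.C z)) := mulEnd fun _ => α
  let φ := selfForm (ι := Fin N) (conj hF) 1 τ (conj_conj hF) hτ htr hττ 1 one_ne_zero (by simp)
  have hT : φ.Iso T := iso_selfForm _ _ _ _ _ _ _ _ _ _ fun _ => hα
  have hTr : T ^ r = z • (1 : End F _) := by
    rw [mulEnd_pow]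
    refine LinearMap.ext fun x => funext fun i => ?_
    rw [mulEnd_apply, hαr, LinearMap.smul_apply, Module.End.one_apply, Pi.smul_apply, Algebra.smul_def]
  have hkill : aeval T (X ^ r - Polynomial.C z) = 0 := by
    rw [map_sub, map_pow, aeval_X, aeval_C, hTr, Algebra.algebraMap_eq_smul_one, sub_self]
  have hdim : finrank F (Fin N → AdjoinRoot (X ^ r - Polynomial.C z)) = n := by
    rw [Module.finrank_pi_fintype, Finset.sum_const, Finset.card_univ, Fintype.card_fin, smul_eq_mul,
      hE, hN, mul_comm]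
  obtain ⟨M, E, hM, hMd, hE', hME⟩ := exists_unitary hF φ rfl rfl hdim hT
  have hdet : M.det = 1 := by
    obtain ⟨k, hk, hkd⟩ := det_of_irreducible hirr (monic_X_pow_sub_C z (Fact.out : r.Prime).ne_zero) hkill
    rw [hdim, natDegree_X_pow_sub_C, hN] at hk
    have hkN : k = N := (Nat.eq_of_mul_eq_mul_left (Fact.out : r.Prime).pos hk).symm
    rw [hMd, hkd, natDegree_X_pow_sub_C, coeff_sub, coeff_X_pow, coeff_C_zero,
      if_neg (Fact.out : r.Prime).ne_zero.symm, zero_sub, hodd.neg_one_pow, neg_mul_neg, one_mul, hkN, hzN]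
  have hkM : aeval (Matrix.toLin' M) (X ^ r - Polynomial.C z) = 0 := by
    have hpow : ∀ k v, (Matrix.toLin' M ^ k) (E v) = E ((T ^ k) v) := by
      intro k
      induction k with
      | zero => exact fun v => rfl
      | succ k ih => intro v; rw [pow_succ, pow_succ, Module.End.mul_apply, Module.End.mul_apply, hME, ih]
    refine LinearMap.ext fun w => ?_
    obtain ⟨v, rfl⟩ := E.surjective w
    rw [map_sub, map_pow, aeval_X, aeval_C, LinearMap.sub_apply, hpow, hTr,
      Module.algebraMap_end_apply, LinearMap.smul_apply, Module.End.one_apply, map_smul, sub_self,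
      LinearMap.zero_apply]
  refine ⟨M, z, hM, hdet, ?_, fun c hc => ?_, fun U hUi => ?_⟩
  · refine Matrix.toLin'.injective ?_
    rw [Matrix.toLin'_pow, map_smul, Matrix.toLin'_one]
    rw [map_sub, map_pow, aeval_X, aeval_C, sub_eq_zero, Algebra.algebraMap_eq_smul_one] at hkM
    exact hkM
  · refine hnr c ?_
    rw [map_sub, map_pow, aeval_X, aeval_C, sub_eq_zero, Algebra.algebraMap_eq_smul_one, hc,
      map_smul, Matrix.toLin'_one] at hkM
    haveI : Nonempty (Fin n) := ⟨⟨0, hn⟩⟩
    obtain ⟨v, hv'⟩ := exists_ne (0 : Fin n → F)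
    refine smul_left_injective F hv' ?_
    have := LinearMap.congr_fun hkM v
    rw [show (c • (LinearMap.id : End F (Fin n → F))) = c • (1 : End F (Fin n → F)) from rfl,
      _root_.smul_pow, one_pow] at this
    simpa using this
  · have hu := uniform_of_irreducible hirr
    rw [natDegree_X_pow_sub_C] at hu
    have := dvd_finrank hu (A := U) hUi (fun v _ => by rw [hkM, LinearMap.zero_apply])
    exact this


/-- A scalar `r`-th power which is not an `r`-th power: an irreducible witness. -/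
theorem bad_witness (hrp : r ≠ p) (hr2 : 2 < r) (hrq : r ∣ q + 1) (hn : 1 ≤ n) (hrm : ¬ r ∣ m)
    (hv : padicValNat r (q + 1) < padicValNat r n) :
    ¬ ∀ x : Matrix.SpecialLinearGroup (Fin n) F, x ∈ Cfsg.SU n F q →
      (∃ z : F, ((x ^ r : Matrix.SpecialLinearGroup (Fin n) F) : Matrix (Fin n) (Fin n) F) = z • (1 : Matrix (Fin n) (Fin n) F)) →
      (∀ z : F, (x : Matrix (Fin n) (Fin n) F) ≠ z • (1 : Matrix (Fin n) (Fin n) F)) →
      ∃ W : Submodule F (Fin n → F), finrank F ↥W = m ∧ (∀ u ∈ W, ∀ v ∈ W, Cfsg.hermForm n F q u v = 0) ∧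
        W.map (Matrix.toLin' (x : Matrix (Fin n) (Fin n) F)) ≤ W := by
  obtain ⟨M, z, hM, hdet, hpow, hns, hno⟩ := bad_element (n := n) hF hrp hr2 hrq hn hv
  exact not_all_of_matrix hF hM hdet hpow hns fun U hUi _ hUm => hrm (hUm ▸ hno U hUi)

/-- The criterion. -/
theorem unitary_iff (hn : 3 ≤ n) (hm : 1 ≤ m) (hmn : 2 * m ≤ n)
    (hrΩ : r ∣ Nat.card {W : Submodule F (Fin n → F) // finrank F ↥W = m ∧
      (∀ u ∈ W, ∀ v ∈ W, Cfsg.hermForm n F q u v = 0)})
    (i b c : ℕ) (hi : i = orderOf (q : ZMod r)) (hb : b = if Even i then i / 2 else i)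
    (hc : c = if i % 4 = 0 then i else if i % 4 = 2 then i / 2 else 2 * i) :
    (∀ x : Matrix.SpecialLinearGroup (Fin n) F, x ∈ Cfsg.SU n F q →
      (∃ z : F, ((x ^ r : Matrix.SpecialLinearGroup (Fin n) F) : Matrix (Fin n) (Fin n) F) = z • (1 : Matrix (Fin n) (Fin n) F)) →
      (∀ z : F, (x : Matrix (Fin n) (Fin n) F) ≠ z • (1 : Matrix (Fin n) (Fin n) F)) →
      ∃ W : Submodule F (Fin n → F), finrank F ↥W = m ∧ (∀ u ∈ W, ∀ v ∈ W, Cfsg.hermForm n F q u v = 0) ∧
        W.map (Matrix.toLin' (x : Matrix (Fin n) (Fin n) F)) ≤ W) ↔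
    ((r = 2 ∧ p ≠ 2 ∧ (2 * m < n ∨ padicValNat 2 (q + 1) ≤ padicValNat 2 n)) ∨
     (r ≠ p ∧ 2 < r ∧ b ≤ m ∧ 2 * (m % b) ≤ n % c ∧
       (i % 4 ≠ 2 ∨ (i % 4 = 2 ∧ (r - 1) / b + 2 * (m / b) ≤ n / b ∧
         (2 < i ∨ (i = 2 ∧ (r ∣ m ∨ padicValNat r n ≤ padicValNat r (q + 1)))))))) := by
  obtain ⟨hrq, s, hs1, hs2, hs3⟩ := unitary_count hF hmn hrΩ
  have hrp : r ≠ p := fun h => hrq (by
    obtain ⟨e, he⟩ := exists_q_pow (p := p) hF
    have he0 : e ≠ 0 := fun h0 => by
      rw [h0, pow_zero] at he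
      have := Unitary.two_le_q hF
      omega
    rw [h, he]
    exact dvd_pow_self p he0)
  have hsuff : ∀ x : Matrix.SpecialLinearGroup (Fin n) F, x ∈ Cfsg.SU n F q → ∀ z : F,
      ((x ^ r : Matrix.SpecialLinearGroup (Fin n) F) : Matrix (Fin n) (Fin n) F) = z • (1 : Matrix (Fin n) (Fin n) F) →
      (stdHerm hF (Fin n)).Iso (Matrix.toLin' (x : Matrix (Fin n) (Fin n) F)) ∧
      LinearMap.det (Matrix.toLin' (x : Matrix (Fin n) (Fin n) F)) = 1 ∧
      Matrix.toLin' (x : Matrix (Fin n) (Fin n) F) ^ r = z • (1 : End F (Fin n → F)) := fun x hx z hz =>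
    ⟨iso_of_preserves hF hx, by rw [LinearMap.det_toLin']; exact x.2, by
      rw [← Matrix.toLin'_pow, ← Matrix.SpecialLinearGroup.coe_pow, hz, map_smul, Matrix.toLin'_one]
      rfl⟩
  rcases eq_or_ne r 2 with hr2 | hr2
  · subst hr2
    constructor
    · intro hall
      refine Or.inl ⟨rfl, fun h => hrp h.symm, ?_⟩
      by_contra hno
      push Not at hno
      exact unitary_two_witness hF (fun h => hrp h.symm) hm (by omega) hno.2 hall
    · rintro (⟨-, hp2, hcond⟩ | ⟨-, h, -⟩)
      · rintro x hx ⟨z, hz⟩ -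
        obtain ⟨hT, hdet, hT2⟩ := hsuff x hx z hz
        obtain ⟨W, h1, h2, h3⟩ := unitary_two hF hp2 (by omega) hmn hcond hT hdet hT2
        exact ⟨W, h1, (witness_iff hF W).1 ⟨h2, h3⟩⟩
      · omega
  have hr : 2 < r := by have := (Fact.out : r.Prime).two_le; omega
  have hi0 : 0 < i := by
    have hne : (q : ZMod r) ≠ 0 := fun h => hrq ((ZMod.natCast_eq_zero_iff q r).1 h)
    rw [hi]
    exact Nat.pos_of_dvd_of_pos (ZMod.orderOf_dvd_card_sub_one hne) (by omega)
  have hb0 : 0 < b := by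
    rw [hb]; split
    · rename_i h; rw [Nat.even_iff] at h; omega
    · omega
  have hcs := dvd_of_neg_pow hr hi hc hs3
  have hcn : c ≤ n := (Nat.le_of_dvd (by omega) hcs).trans hs2
  have hsmall : ¬ 2 * m ≤ n % c := fun h => no_multiple h hs1 hs2 hcs
  have him : 2 * (m % b) ≤ n % c → b ≤ m := fun h => by
    by_contra hlt
    rw [Nat.mod_eq_of_lt (by omega)] at h
    exact hsmall h
  constructor
  · intro hall
    refine Or.inr ⟨hrp, hr, ?_⟩
    have hord : orderOf ((q ^ 2 : ℕ) : ZMod r) = b := by rw [orderOf_sq i hi, ← hb]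
    have hnt : ∀ (V : Type u) [AddCommGroup V] [Module F V] [FiniteDimensional F V] (T : End F V),
        finrank F V ≠ finrank F ↥(fixSpace T) → T ≠ 1 := by
      intro V _ _ _ T h h1
      apply h
      rw [show fixSpace T = ⊤ from eq_top_iff.2 fun v _ => mem_fixSpace.2 (by rw [h1]; rfl), finrank_top]
    have hrq1 : i ≠ 2 → ¬ r ∣ q + 1 := fun h hd => by
      apply h
      have hm1 : (q : ZMod r) = -1 := by
        have := (ZMod.natCast_eq_zero_iff (q + 1) r).2 hd
        push_cast at this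
        linear_combination this
      rw [hi, hm1]
      exact orderOf_eq_prime (by ring) (neg_one_ne_one hr)
    have hdm := Nat.div_add_mod n c
    have hc0 : 0 < c := by rw [hc]; split_ifs <;> omega
    have hn1 : 1 ≤ n / c := Nat.div_pos hcn hc0
    have hl : 2 * (m % b) ≤ n % c := by
      by_contra hl
      have hbound : ∀ (V : Type u) [AddCommGroup V] [Module F V] [FiniteDimensional F V]
          (φ : RForm F V) (T : End F V), φ.Iso T → T ^ r = 1 →
          finrank F ↥(fixSpace T) = n % c → ∀ U : Submodule F V, Inv T U → φ.TI U → finrank F U ≠ m := by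
        intro V _ _ _ φ T hT hTr hfix U hUi hUt hUm
        obtain ⟨a, b', hab, ha, -⟩ := ti_parts (q := q ^ 2) hF hrp hT hTr hUi hUt
        rw [hord, hUm] at hab
        have : m % b = a % b := by rw [hab, Nat.add_mul_mod_self_right]
        have := Nat.mod_le a b
        omega
      by_cases h4 : i % 4 = 2
      · have hcb : c = i / 2 := by rw [hc, if_neg (by omega), if_pos h4]
        have hbi : b = i / 2 := by rw [hb, if_pos (by rw [Nat.even_iff]; omega)]
        have hi2 : i ≠ 2 := fun h => hl (by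
          rw [show b = 1 by omega, Nat.mod_one]; exact Nat.zero_le _)
        obtain ⟨V, _, _, _, φ, T, hσ, hε, hT, hTr, hdim, hfix, -⟩ :=
          exists_self_herm hF hrp hr i hi h4 (n % c) (n / c) 0 hn1 (by
            rw [← hbi, ← hord]
            have hne : ((q ^ 2 : ℕ) : ZMod r) ≠ 0 := fun h =>
              not_dvd_q (F := F) hF hrp ((ZMod.natCast_eq_zero_iff _ r).1 h)
            exact Nat.div_pos (Nat.le_of_dvd (by omega) (ZMod.orderOf_dvd_card_sub_one hne))
              (by rw [hord]; exact hb0))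
        rw [add_zero, ← hcb, mul_comm (n / c)] at hdim
        have := Nat.mul_le_mul_left c hn1
        exact not_all_of_model_herm hF (by omega) (hrq1 hi2) φ hσ hε (by omega) hT hTr
          (hnt V T (by omega)) (hbound V φ T hT hTr hfix) hall
      · have hcb : c = 2 * b := by
          rw [hb, hc]
          by_cases h0 : i % 4 = 0
          · rw [if_pos h0, if_pos (by rw [Nat.even_iff]; omega)]; omega
          · rw [if_neg h0, if_neg h4, if_neg (by rw [Nat.even_iff]; omega)]
        obtain ⟨V, _, _, _, φ, T, hσ, hε, hT, hTr, hdim, hfix⟩ :=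
          exists_pair_herm hF hrp (r := r) (n % c) (n / c)
        rw [hord, mul_right_comm, ← hcb] at hdim
        have := Nat.mul_le_mul_left c hn1
        exact not_all_of_model_herm hF (by omega) (hrq1 (by omega)) φ hσ hε (by omega) hT hTr
          (hnt V T (by omega)) (hbound V φ T hT hTr hfix) hall
    refine ⟨him hl, hl, ?_⟩
    by_contra hno
    push Not at hno
    obtain ⟨h4, hno⟩ := hno
    have hcb : c = b := by
      rw [hc, hb, if_neg (by omega), if_pos h4, if_pos (by rw [Nat.even_iff]; omega)]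
    have hbi : b = i / 2 := by rw [hb, if_pos (by rw [Nat.even_iff]; omega)]
    subst hcb
    have hm' : 1 ≤ m / c := Nat.div_pos (him hl) hc0
    have hn2 : 2 ≤ n / c := by
      rw [Nat.le_div_iff_mul_le hc0]
      have := him hl
      omega
    by_cases hi2 : i = 2
    · have hrq2 : r ∣ q + 1 := by
        have := half_dvd hr hi hi0 (by rw [Nat.even_iff]; omega)
        rwa [hi2, show 2 / 2 = 1 from rfl, pow_one] at this
      have hc1 : c = 1 := by omega
      by_cases hlt : n / c < (r - 1) / c + 2 * (m / c)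
      · rw [hc1, Nat.div_one, Nat.div_one, Nat.div_one] at hlt
        rcases Nat.lt_or_ge n (r - 1) with h1 | h1
        · exact diag_witness hF hrp hr hrq2 (n / 2) (n - 2 * (n / 2)) (by omega) (by omega) (by omega)
            (by omega) hall
        · have hrodd := Nat.odd_iff.1 ((Fact.out : r.Prime).odd_of_ne_two hr2)
          exact diag_witness hF hrp hr hrq2 ((r - 1) / 2) (n - (r - 1)) (by omega) (by omega) (by omega)
            (by omega) hall
      · obtain ⟨-, hbad⟩ := hno h4 (by omega)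
        obtain ⟨hrm, hv⟩ := hbad hi2
        exact bad_witness hF hrp hr hrq2 (by omega) hrm hv hall
    · have hlt : n / c < (r - 1) / c + 2 * (m / c) := by
        by_contra hge
        obtain ⟨h2i, -⟩ := hno h4 (by omega)
        omega
      have ht1 : 1 ≤ (r - 1) / c := by
        rw [← hord]
        have hne : ((q ^ 2 : ℕ) : ZMod r) ≠ 0 := fun h =>
          not_dvd_q (F := F) hF hrp ((ZMod.natCast_eq_zero_iff _ r).1 h)
        exact Nat.div_pos (Nat.le_of_dvd (by omega) (ZMod.orderOf_dvd_card_sub_one hne))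
          (by rw [hord]; exact hc0)
      obtain ⟨t, ht⟩ : ∃ t, t = (r - 1) / c := ⟨_, rfl⟩
      rw [← ht] at hlt ht1
      have hkl := Nat.mod_lt n hc0
      rw [mul_comm] at hdm
      obtain ⟨f, e, se, he, hse, hsum, hf, hbig⟩ : ∃ f e se, 1 ≤ e ∧ se + 1 ≤ t ∧
          f + (e + se) * c = n ∧ f < 2 * c ∧ e < 2 * (m / c) := by
        rcases Nat.lt_or_ge (n / c) t with h1 | h1
        · refine ⟨n % c, 1, n / c - 1, le_rfl, by omega, ?_, by omega, by omega⟩
          rw [show 1 + (n / c - 1) = n / c by omega]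
          omega
        rcases Nat.even_or_odd (n / c - t) with h2 | h2
        · obtain ⟨w, hw⟩ := h2
          refine ⟨n % c, w + w + 1, t - 1, by omega, by omega, ?_, by omega, by omega⟩
          rw [show w + w + 1 + (t - 1) = n / c by omega]
          omega
        · obtain ⟨w, hw⟩ := h2
          refine ⟨n % c + c, 2 * w + 1, t - 1, by omega, by omega, ?_, by omega, by omega⟩
          rw [show 2 * w + 1 + (t - 1) = n / c - 1 by omega, Nat.sub_mul, one_mul]
          have := Nat.mul_le_mul_right c (show 1 ≤ n / c by omega)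
          omega
      obtain ⟨V, _, _, _, φ, T, hσ, hε, hT, hTr, hdim, hfix, hbd⟩ :=
        exists_self_herm hF hrp hr i hi h4 f e se he (by rw [← hbi]; omega)
      rw [← hbi] at hdim hbd
      refine not_all_of_model_herm hF (by omega) (hrq1 hi2) φ hσ hε (by omega) hT hTr
        (hnt V T ?_) ?_ hall
      · have := Nat.mul_le_mul_right c (show 1 ≤ e + se by omega)
        omega
      · intro U hUi hUt hUm
        obtain ⟨a, b', hab, ha, hb', -⟩ := ti_parts (q := q ^ 2) hF hrp hT hTr hUi hUt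
        have h2 := hbd U hUi hUt
        rw [hb', hord, ← mul_assoc] at h2
        have h3 := Nat.le_of_mul_le_mul_right h2 hc0
        rw [hord, hUm] at hab
        have ha' : a < c := by omega
        have : m / c = b' := by
          rw [hab, Nat.add_mul_div_right _ _ hc0, Nat.div_eq_of_lt ha', zero_add]
        omega
  · rintro (⟨h, -⟩ | ⟨-, -, -, hl, hcond⟩)
    · exact absurd h hr2
    rintro x hx ⟨z, hz⟩ -
    obtain ⟨hT, hdet, hTr⟩ := hsuff x hx z hz
    obtain ⟨W, h1, h2, h3⟩ := unitary_odd hF hrp hr (by omega) hmn i b c hi hb hc hl hcond hT hdet hTr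
    exact ⟨W, h1, (witness_iff hF W).1 ⟨h2, h3⟩⟩

end Cfsg.Agent.Linear.Elusive.Forms
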