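import Cfsg.Agent.Linear.Elusive.Forms.SympModels
import Cfsg.Agent.Linear.Elusive.Count
import Cfsg.Agent.Unitary.TISubspaces
import Cfsg.Agent.H33.Hermitian

/-!
Arithmetic and witnesses for the unitary groups.
-/

set_option autoImplicit false
set_option linter.unusedSectionVars false

namespace Cfsg.Agent.Linear.Elusive.Forms

open Polynomial Module

universe u v w

variable {F : Type u} [Field F] [Fintype F] {p q r : ℕ} [Fact p.Prime] [CharP F p] [Fact r.Prime]
  {n m : ℕ}

theorem exists_q_pow (hF : Fintype.card F = q ^ 2) : ∃ e, q = p ^ e := by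
  obtain ⟨k, hp, hk⟩ := FiniteField.card F p
  have : q ∣ p ^ (k : ℕ) := by rw [← hk, hF]; exact dvd_pow_self q two_ne_zero
  obtain ⟨e, -, he⟩ := (Nat.dvd_prime_pow hp).1 this
  exact ⟨e, he⟩

theorem sum_range_two_mul_add (m a : ℕ) :
    (2 * m + a) * (2 * m + a - 1) / 2 = a * (a - 1) / 2 + m * (m + 2 * a) + m * (m - 1) := by
  rw [← Finset.sum_range_id, ← Finset.sum_range_id, show 2 * m + a = a + 2 * m by ring,
    Finset.sum_range_add, Finset.sum_add_distrib, Finset.sum_const, Finset.card_range, smul_eq_mul,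
    Finset.sum_range_id (2 * m), mul_assoc 2 m (2 * m - 1), Nat.mul_div_cancel_left _ two_pos]
  rcases m with _ | m
  · simp
  · simp only [Nat.add_sub_cancel, show 2 * (m + 1) - 1 = 2 * m + 1 by omega]
    ring

theorem prod_sub_eq (Q m : ℕ) :
    (∏ l : Fin m, (Q ^ m - Q ^ (l : ℕ))) = Q ^ (m * (m - 1) / 2) * ∏ l : Fin m, (Q ^ (m - l) - 1) := by
  rw [← Finset.sum_range_id, ← Finset.prod_pow_eq_pow_sum,
    ← Fin.prod_univ_eq_prod_range, ← Finset.prod_mul_distrib]
  refine Finset.prod_congr rfl fun l _ => ?_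
  rw [Nat.mul_sub, mul_one, ← pow_add, Nat.add_sub_cancel' l.isLt.le]

/-- A divisor of the number of totally isotropic subspaces divides one of `q ^ s - (-1) ^ s`. -/
theorem unitary_count (hF : Fintype.card F = q ^ 2) (hmn : 2 * m ≤ n)
    (hrΩ : r ∣ Nat.card {W : Submodule F (Fin n → F) // finrank F ↥W = m ∧
      (∀ u ∈ W, ∀ v ∈ W, Cfsg.hermForm n F q u v = 0)}) :
    ¬ r ∣ q ∧ ∃ s, n - 2 * m < s ∧ s ≤ n ∧ (q : ZMod r) ^ s = (-1) ^ s := by
  have hq0 : 0 < q := Unitary.q_pos hF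
  have h := Unitary.card_TIFrame hF hmn
  rw [Unitary.card_TIFrame_eq hF, Unitary.card_GU hF, Unitary.card_GU hF,
    show Unitary.glCard q m = ∏ l : Fin m, ((q ^ 2) ^ m - (q ^ 2) ^ (l : ℕ)) from rfl,
    prod_sub_eq] at h
  obtain ⟨a, rfl⟩ : ∃ a, n = 2 * m + a := ⟨n - 2 * m, by omega⟩
  rw [show 2 * m + a - 2 * m = a by omega, sum_range_two_mul_add,
    show 2 * (2 * m + a) - 3 * m = m + 2 * a by omega,
    ← Finset.prod_range_mul_prod_Ico (fun i => Unitary.guFactor q i) (show a ≤ 2 * m + a by omega),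
    ← pow_mul, show 2 * (m * (m - 1) / 2) = m * (m - 1) from
      Nat.mul_div_cancel' (even_iff_two_dvd.1 (Nat.even_mul_pred_self m))] at h
  set Ω := Nat.card (Unitary.TISub (2 * m + a) F q m)
  set G := ∏ l : Fin m, ((q ^ 2) ^ (m - (l : ℕ)) - 1)
  set L := ∏ i ∈ Finset.range a, Unitary.guFactor q i
  set H := ∏ i ∈ Finset.Ico a (2 * m + a), Unitary.guFactor q i
  have hfac : ∀ i, 0 < Unitary.guFactor q i := fun i => by
    unfold Unitary.guFactor
    split_ifs
    · omega
    · have := Nat.one_lt_pow (show i + 1 ≠ 0 by omega) (show 1 < q by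
        have := Unitary.two_le_q hF; omega)
      omega
  have hL : 0 < L := Finset.prod_pos fun i _ => hfac i
  have h2 : q ^ (a * (a - 1) / 2 + m * (m + 2 * a) + m * (m - 1)) * L * (Ω * G) =
      q ^ (a * (a - 1) / 2 + m * (m + 2 * a) + m * (m - 1)) * L * H := by
    rw [pow_add, pow_add] at *
    linear_combination h
  have h3 : Ω * G = H := Nat.eq_of_mul_eq_mul_left (Nat.mul_pos (pow_pos hq0 _) hL) h2
  have h4 : r ∣ H := h3 ▸ hrΩ.mul_right _
  obtain ⟨i, hi, hri⟩ := ((Fact.out : r.Prime).prime.dvd_finsetProd_iff _).1 h4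
  rw [Finset.mem_Ico] at hi
  have h5 : (q : ZMod r) ^ (i + 1) = (-1) ^ (i + 1) := by
    have := congrArg (Int.cast : ℤ → ZMod r) (Unitary.guFactor_cast hq0 i)
    push_cast at this
    rw [(ZMod.natCast_eq_zero_iff _ r).2 hri] at this
    linear_combination -this
  refine ⟨fun hd => ?_, i + 1, by omega, by omega, h5⟩
  rw [(ZMod.natCast_eq_zero_iff q r).2 hd, zero_pow (Nat.succ_ne_zero i)] at h5
  exact pow_ne_zero _ (neg_ne_zero.2 one_ne_zero) h5.symm

/-- The multiplicative order of `q ^ 2`. -/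
theorem orderOf_sq (i : ℕ) (hi : i = orderOf (q : ZMod r)) :
    orderOf ((q ^ 2 : ℕ) : ZMod r) = if Even i then i / 2 else i := by
  push_cast
  rw [orderOf_pow' _ two_ne_zero, ← hi]
  split_ifs with h
  · rw [Nat.gcd_eq_right (even_iff_two_dvd.1 h)]
  · rw [(Nat.coprime_two_right.2 (Nat.not_even_iff_odd.1 h)).gcd_eq_one, Nat.div_one]

theorem neg_one_ne_one (hr2 : 2 < r) : (-1 : ZMod r) ≠ 1 := fun h => by
  have h2 : ((2 : ℕ) : ZMod r) = 0 := by push_cast; linear_combination -h
  have := Nat.le_of_dvd two_pos ((ZMod.natCast_eq_zero_iff 2 r).1 h2)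
  omega

theorem half_dvd {i : ℕ} (hr2 : 2 < r) (hi : i = orderOf (q : ZMod r)) (h0 : 0 < i) (hev : Even i) :
    r ∣ q ^ (i / 2) + 1 := by
  rw [← ZMod.natCast_eq_zero_iff]
  push_cast
  have h1 : ((q : ZMod r) ^ (i / 2)) * ((q : ZMod r) ^ (i / 2)) = 1 := by
    rw [← pow_add, show i / 2 + i / 2 = i by obtain ⟨l, hl⟩ := hev; omega, hi, pow_orderOf_eq_one]
  rcases mul_self_eq_one_iff.1 h1 with h2 | h2
  · have := Nat.le_of_dvd (by obtain ⟨l, hl⟩ := hev; omega) (orderOf_dvd_of_pow_eq_one h2)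
    obtain ⟨l, hl⟩ := hev
    omega
  · rw [h2, neg_add_cancel]

theorem dvd_of_neg_pow {i c s : ℕ} (hr2 : 2 < r) (hi : i = orderOf (q : ZMod r))
    (hc : c = if i % 4 = 0 then i else if i % 4 = 2 then i / 2 else 2 * i)
    (h : (q : ZMod r) ^ s = (-1) ^ s) : c ∣ s := by
  have h2 : i ∣ 2 * s := by
    rw [hi]
    refine orderOf_dvd_of_pow_eq_one ?_
    rw [mul_comm, pow_mul, h, ← pow_mul, mul_comm, pow_mul, neg_one_sq, one_pow]
  have hodd : i % 2 = 1 → i ∣ s := fun ho => (Nat.coprime_two_right.2 (Nat.odd_iff.2 ho)).dvd_of_dvd_mul_left h2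
  rw [hc]
  split_ifs with h4 h4'
  · obtain ⟨l, hl⟩ := h2
    obtain ⟨j, hj⟩ : 4 ∣ i := Nat.dvd_of_mod_eq_zero h4
    have hs : Even s := by rw [hj] at hl; exact ⟨j * l, by linarith⟩
    rw [hs.neg_one_pow] at h
    exact hi ▸ orderOf_dvd_of_pow_eq_one h
  · obtain ⟨l, hl⟩ := h2
    refine ⟨l, ?_⟩
    have e : 2 * (i / 2 * l) = i * l := by
      rw [← mul_assoc, Nat.mul_div_cancel' (by omega : 2 ∣ i)]
    omega
  · have his := hodd (by omega)
    obtain ⟨l, hl⟩ := his
    have h1 : (-1 : ZMod r) ^ s = 1 := by rw [← h, hl, pow_mul, hi, pow_orderOf_eq_one, one_pow]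
    have hs : Even s := by
      by_contra ho
      rw [(Nat.not_even_iff_odd.1 ho).neg_one_pow] at h1
      exact neg_one_ne_one hr2 h1
    refine (Nat.coprime_two_left.2 (Nat.odd_iff.2 (by omega))).mul_dvd_of_dvd_of_dvd
      (even_iff_two_dvd.1 hs) ⟨l, hl⟩

theorem twist_exp {i : ℕ} (hr2 : 2 < r) (hi : i = orderOf (q : ZMod r)) (h4 : i % 4 ≠ 2) (l : ℕ) :
    ¬ r ∣ q * (q ^ 2) ^ l + 1 := by
  intro h
  rw [← ZMod.natCast_eq_zero_iff] at h
  push_cast at h
  have h1 : (q : ZMod r) ^ (2 * l + 1) = -1 := by linear_combination h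
  have h2 : i ∣ 2 * (2 * l + 1) := by
    rw [hi]
    refine orderOf_dvd_of_pow_eq_one ?_
    rw [mul_comm, pow_mul, h1, neg_one_sq]
  rcases Nat.even_or_odd i with he | ho
  · obtain ⟨j, hj⟩ : 4 ∣ i := by rw [Nat.even_iff] at he; omega
    obtain ⟨k, hk⟩ := h2
    rw [hj, mul_assoc] at hk
    omega
  · obtain ⟨k, hk⟩ := (Nat.coprime_two_right.2 ho).dvd_of_dvd_mul_left h2
    rw [hk, pow_mul, hi, pow_orderOf_eq_one, one_pow] at h1
    exact neg_one_ne_one hr2 h1.symm

section forms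

variable (hF : Fintype.card F = q ^ 2)

/-- The involution `x ↦ x ^ q`. -/
noncomputable def conj : F →+* F := (Unitary.frob hF).toRingHom

theorem conj_apply (x : F) : conj hF x = x ^ q := rfl

theorem conj_conj (x : F) : conj hF (conj hF x) = x := Unitary.pow_q_q hF x

theorem conj_ne_id : conj hF ≠ RingHom.id F := fun h => by
  have hall : ∀ x : F, x ^ q = x := fun x => RingHom.congr_fun h x
  have h1 := Unitary.card_fixed hF
  rw [Nat.card_congr (Equiv.subtypeUnivEquiv hall), Nat.card_eq_fintype_card, hF] at h1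
  have := Unitary.two_le_q hF
  have h2 := Nat.mul_le_mul_left q this
  rw [pow_two] at h1
  omega

/-- The Hermitian form with orthonormal coordinates. -/
noncomputable def stdHerm (ι : Type w) [Fintype ι] : RForm F (ι → F) :=
  selfForm (conj hF) 1 (conj hF) (conj_conj hF) (fun _ => rfl) (fun _ => by simp) (conj_conj hF) 1
    one_ne_zero (by simp)

theorem stdHerm_apply (u v : Fin n → F) : (stdHerm hF (Fin n)).B u v = Cfsg.hermForm n F q u v := by
  show ∑ k, Algebra.trace F F (1 * u k * conj hF (v k)) = _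
  simp [Cfsg.hermForm, conj_apply]

theorem iso_stdHerm (ι : Type w) [Fintype ι] {a : ι → F} (ha : ∀ k, a k * a k ^ q = 1) :
    (stdHerm hF ι).Iso (mulEnd a) :=
  iso_selfForm _ _ _ _ _ _ _ _ _ _ ha

theorem exists_self_herm (hrp : r ≠ p) (hr2 : 2 < r) (i : ℕ) (hi : i = orderOf (q : ZMod r))
    (h4 : i % 4 = 2) (f e s : ℕ) (he : 1 ≤ e) (hst : s + 1 ≤ (r - 1) / (i / 2)) :
    ∃ (V : Type u) (_ : AddCommGroup V) (_ : Module F V) (_ : FiniteDimensional F V) (φ : RForm F V)
      (T : End F V), φ.σ = conj hF ∧ φ.ε = 1 ∧ φ.Iso T ∧ T ^ r = 1 ∧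
      finrank F V = f + (e + s) * (i / 2) ∧ finrank F ↥(fixSpace T) = f ∧
      ∀ U : Submodule F V, Inv T U → φ.TI U →
        2 * finrank F ↥(U ⊓ moveSpace r T) ≤ e * (i / 2) := by
  classical
  have hev : Even i := by rw [Nat.even_iff]; omega
  have hord : orderOf ((q ^ 2 : ℕ) : ZMod r) = i / 2 := by rw [orderOf_sq i hi, if_pos hev]
  have hroots := exists_roots (r := r) (F := F) hF hrp
  obtain ⟨b, hb⟩ : ∃ b, b = i / 2 := ⟨_, rfl⟩
  rw [hord] at hroots
  rw [← hb] at hroots hst hord ⊢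
  have hhalf : r ∣ q ^ b + 1 := hb ▸ half_dvd hr2 hi (by omega) hev
  obtain ⟨E, _, _, _, hE, a, har, ha1, hinj⟩ := hroots
  haveI : Module.Finite F E := Module.Finite.of_finite
  haveI : CharP E p := charP_of_injective_algebraMap (algebraMap F E).injective p
  obtain ⟨k, hk⟩ := exists_q_pow (p := p) hF
  have hqb : ∀ x : F, x ^ q ^ b = x ^ q := fun x => by
    obtain ⟨l, hl⟩ : ∃ l, b = 2 * l + 1 := ⟨b / 2, by omega⟩
    rw [hl, pow_succ, pow_mul q, ← hF, pow_mul, FiniteField.pow_card_pow]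
  rw [hk, ← pow_mul] at hhalf
  let τ := iterateFrobenius E p (k * b)
  have hτd : ∀ z : E, τ z = z ^ q ^ b := fun z => by
    rw [iterateFrobenius_def, hk, ← pow_mul]
  have hτ : ∀ x : F, τ (algebraMap F E x) = algebraMap F E (conj hF x) := fun x => by
    rw [hτd, ← map_pow, hqb, conj_apply]
  have htr : ∀ z : E, conj hF (Algebra.trace F E z) = Algebra.trace F E (τ z) := fun z => by
    rw [iterateFrobenius_def, trace_pow_char, pow_mul p, ← hk, hqb, conj_apply]
  have hττ : ∀ z : E, τ (τ z) = z := fun z => by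
    haveI : Fintype E := Fintype.ofFinite E
    rw [hτd, hτd, ← pow_mul, ← pow_add, ← two_mul, pow_mul, ← hF, ← hE,
      ← Module.card_eq_pow_finrank (K := F) (V := E), FiniteField.pow_card]
  have hτinv : ∀ i, a i * τ (a i) = 1 := fun i => by
    obtain ⟨l, hl⟩ := hhalf
    rw [iterateFrobenius_def, ← pow_succ', hl, pow_mul, har, one_pow]
  let i0 : Fin ((r - 1) / b) := ⟨0, by omega⟩
  let cl : Fin e ⊕ Fin s → Fin ((r - 1) / b) :=
    Sum.elim (fun _ => i0) fun x => ⟨(x : ℕ) + 1, by have := x.isLt; omega⟩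
  let A : Fin e ⊕ Fin s → E := fun x => a (cl x)
  let φ := prodForm (stdHerm hF (Fin f)) (selfForm (ι := Fin e ⊕ Fin s) (conj hF) 1 τ (conj_conj hF)
    hτ htr hττ 1 one_ne_zero (by simp)) rfl rfl
  let T := LinearMap.prodMap (mulEnd (F := F) (fun _ : Fin f => (1 : F))) (mulEnd (F := F) A)
  have hT : φ.Iso T := iso_prodForm (iso_stdHerm hF _ fun _ => by simp)
    (iso_selfForm _ _ _ _ _ _ _ _ _ _ fun x => hτinv (cl x))
  have hTr : T ^ r = 1 := by
    rw [prodMap_pow', mulEnd_pow, mulEnd_pow]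
    refine LinearMap.ext fun x => Prod.ext (funext fun i => ?_) (funext fun i => ?_)
    · simp [mulEnd_apply]
    · simp [mulEnd_apply, A, har]
  have hker : ∀ g : F[X], g ∣ cyclotomic r F →
      finrank F (LinearMap.ker (aeval T g)) = b * Nat.card {x // aeval (A x) g = 0} := fun g hg => by
    rw [aeval_prodMap, finrank_ker_prodMap, finrank_ker_fix_part g (eval_one_ne_zero hrp hg),
      zero_add, aeval_mulEnd, finrank_ker_mulEnd, hE]
  refine ⟨_, _, _, inferInstance, φ, T, rfl, rfl, hT, hTr, ?_, ?_, fun U hUi hUt => ?_⟩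
  · rw [Module.finrank_prod, Module.finrank_fintype_fun_eq_card, Module.finrank_pi_fintype,
      Finset.sum_const, Finset.card_univ, smul_eq_mul, Fintype.card_sum,
      Fintype.card_fin, Fintype.card_fin, Fintype.card_fin, hE]
  · rw [fixSpace, aeval_prodMap, finrank_ker_prodMap, finrank_fix_fix_part,
      finrank_fix_move_part fun x => ha1 (cl x), Fintype.card_fin, add_zero]
  · have hroot : aeval (a i0) (cyclotomic r F) = 0 := by
      have h0 : aeval (a i0) ((X - 1 : F[X]) * cyclotomic r F) = 0 := by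
        rw [X_sub_one_mul_cyclotomic, map_sub, map_pow, aeval_X, map_one, har, sub_self]
      rw [map_mul, mul_eq_zero, map_sub, aeval_X, map_one, sub_eq_zero] at h0
      exact h0.resolve_left (ha1 i0)
    have hgs := minpoly.irreducible (Algebra.IsIntegral.isIntegral (R := F) (a i0))
    obtain ⟨P, hP⟩ := minpoly.dvd F (a i0) hroot
    have hiff : ∀ (g : F[X]) x, Irreducible g → aeval (a x) g = 0 → Associated (minpoly F (a x)) g :=
      fun g x hg h0 => (minpoly.irreducible (Algebra.IsIntegral.isIntegral (a x))).associated_of_dvd hg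
        (minpoly.dvd F (a x) h0)
    have hsame : ∀ x y, Associated (minpoly F (a x)) (minpoly F (a y)) → x = y := fun x y h =>
      hinj (eq_of_monic_of_associated (minpoly.monic (Algebra.IsIntegral.isIntegral _))
        (minpoly.monic (Algebra.IsIntegral.isIntegral _)) h)
    have hb' := ti_move_le (q := q ^ 2) hF hrp hT hTr (s := q ^ b) ⟨k * b, by rw [hk, pow_mul]⟩
      (fun x => ((conj_apply hF x).trans (hqb x).symm)) (by rw [hk, ← pow_mul]; exact hhalf) hP
      (fun g hg hgP => by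
        rw [hker g (hgP.trans ⟨_, by rw [hP, mul_comm]⟩), hord]
        refine (Nat.mul_le_mul_left _ ?_).trans (mul_one _).le
        rw [Finite.card_le_one_iff_subsingleton]
        refine ⟨fun ⟨x, hx⟩ ⟨y, hy⟩ => Subtype.ext ?_⟩
        have hx' := hiff g _ hg hx
        have hxy := hsame _ _ (hx'.trans (hiff g _ hg hy).symm)
        have hne : cl x ≠ i0 := fun h0 => by
          rw [h0] at hx'
          have hsq : Squarefree (minpoly F (a i0) * P) :=
            hP ▸ (separable_pow_sub_one (F := F) hrp).squarefree.squarefree_of_dvd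
              ⟨X - 1, (cyclotomic_prime_mul_X_sub_one F r).symm⟩
          exact hgs.not_isUnit (hsq _ (mul_dvd_mul_left _ (hx'.dvd.trans hgP)))
        rcases x with x | x <;> rcases y with y | y <;> simp [cl, i0, Fin.ext_iff] at hxy hne ⊢
        omega) hUi hUt
    refine hb'.trans ?_
    rw [hker _ ⟨P, hP⟩, mul_comm]
    refine Nat.mul_le_mul_right _ ?_
    refine (Nat.card_le_card_of_injective
      (fun x : {x // aeval (A x) (minpoly F (a i0)) = 0} =>
        (Sum.elim id (fun _ => (⟨0, he⟩ : Fin e)) x.1 : Fin e)) ?_).trans (Nat.card_fin e).le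
    rintro ⟨x, hx⟩ ⟨y, hy⟩ hxy
    have hx' := hsame _ _ (hiff _ _ hgs hx)
    have hy' := hsame _ _ (hiff _ _ hgs hy)
    rcases x with x | x <;> rcases y with y | y <;>
      simp [cl, i0, Fin.ext_iff] at hxy hx' hy' ⊢
    omega

theorem exists_pair_herm (hrp : r ≠ p) (f N : ℕ) :
    ∃ (V : Type u) (_ : AddCommGroup V) (_ : Module F V) (_ : FiniteDimensional F V) (φ : RForm F V)
      (T : End F V), φ.σ = conj hF ∧ φ.ε = 1 ∧ φ.Iso T ∧ T ^ r = 1 ∧
      finrank F V = f + 2 * N * orderOf ((q ^ 2 : ℕ) : ZMod r) ∧ finrank F ↥(fixSpace T) = f := by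
  classical
  obtain ⟨E, _, _, _, hE, a, har, ha1, -⟩ := exists_roots (r := r) (F := F) hF hrp
  have hr2 := (Fact.out : r.Prime).two_le
  have hj0 := orderOf_pos_of_ne (r := r) (F := F) hF hrp
  have hne : ((q ^ 2 : ℕ) : ZMod r) ≠ 0 := fun h =>
    not_dvd_q (F := F) hF hrp ((ZMod.natCast_eq_zero_iff _ r).1 h)
  let i0 : Fin ((r - 1) / orderOf ((q ^ 2 : ℕ) : ZMod r)) := ⟨0,
    Nat.div_pos (Nat.le_of_dvd (by omega) (ZMod.orderOf_dvd_card_sub_one hne)) hj0⟩
  haveI : Module.Finite F E := Module.Finite.of_finite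
  haveI : CharP E p := charP_of_injective_algebraMap (algebraMap F E).injective p
  obtain ⟨k, hk⟩ := exists_q_pow (p := p) hF
  let τ := iterateFrobenius E p k
  have hτ : ∀ x : F, τ (algebraMap F E x) = algebraMap F E (conj hF x) := fun x => by
    rw [iterateFrobenius_def, ← map_pow, conj_apply, hk]
  obtain ⟨a', ha'⟩ := Finite.surjective_of_injective τ.injective (a i0)⁻¹
  have ha0 : a i0 ≠ 0 := fun h => by
    have := har i0
    rw [h, zero_pow (by omega)] at this
    exact zero_ne_one this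
  let A : Fin N ⊕ Fin N → E := Sum.elim (fun _ => a i0) fun _ => a'
  have hA : ∀ x, A x ^ r = 1 ∧ A x ≠ 1 := by
    rintro (x | x)
    · exact ⟨har i0, ha1 i0⟩
    · refine ⟨τ.injective ?_, fun h => ha1 i0 (inv_eq_one.1 ?_)⟩
      · rw [map_pow, map_one]
        show τ a' ^ r = 1
        rw [ha', inv_pow, har, _root_.inv_one]
      · rw [← ha', show a' = 1 from h, map_one]
  refine ⟨_, _, _, inferInstance, prodForm (stdHerm hF (Fin f))
    (pairForm (E := E) (ι := Fin N) (conj hF) 1 τ (conj_conj hF) hτ (by simp)) rfl rfl,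
    LinearMap.prodMap (mulEnd (F := F) (fun _ : Fin f => (1 : F))) (mulEnd (F := F) A),
    rfl, rfl, iso_prodForm (iso_stdHerm hF _ fun _ => by simp)
      (iso_pairForm _ _ _ _ _ _ fun _ => by simp [A, ha', ha0]), ?_, ?_, ?_⟩
  · rw [prodMap_pow', mulEnd_pow, mulEnd_pow]
    refine LinearMap.ext fun x => Prod.ext (funext fun i => ?_) (funext fun i => ?_)
    · simp [mulEnd_apply]
    · simp [mulEnd_apply, (hA i).1]
  · rw [Module.finrank_prod, Module.finrank_fintype_fun_eq_card, Module.finrank_pi_fintype,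
      Finset.sum_const, Finset.card_univ, smul_eq_mul, Fintype.card_sum,
      Fintype.card_fin, Fintype.card_fin, hE, two_mul]
  · rw [fixSpace, aeval_prodMap, finrank_ker_prodMap, finrank_fix_fix_part,
      finrank_fix_move_part fun x => (hA x).2, Fintype.card_fin, add_zero]

/-- An isometry of a Hermitian form as a matrix. -/
theorem exists_unitary {V : Type v} [AddCommGroup V] [Module F V] [FiniteDimensional F V]
    (φ : RForm F V) (hσ : φ.σ = conj hF) (hε : φ.ε = 1) (hdim : finrank F V = n) {T : End F V}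
    (hT : φ.Iso T) :
    ∃ (M : Matrix (Fin n) (Fin n) F) (e : V ≃ₗ[F] (Fin n → F)),
      Unitary.Preserves q M ∧ M.det = LinearMap.det T ∧
      (∀ u v, Cfsg.hermForm n F q (e u) (e v) = φ.B u v) ∧
      ∀ v, Matrix.toLin' M (e v) = e (T v) := by
  let B : V →ₛₗ[conj hF] V →ₗ[F] F := LinearMap.mk₂'ₛₗ (conj hF) (RingHom.id F)
    (fun u v => φ.B v u)
    (fun a b c => map_add _ _ _)
    (fun a b c => by
      rw [LinearMap.map_smulₛₗ, show φ.σ a = conj hF a by rw [hσ]])
    (fun a b c => by rw [map_add, LinearMap.add_apply])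
    (fun a b c => by rw [map_smul, LinearMap.smul_apply, RingHom.id_apply])
  have hsw : ∀ u v, φ.B v u = φ.B u v ^ q := fun u v => by
    rw [φ.flip, hε, one_mul, ← conj_apply hF]
    exact RingHom.congr_fun hσ _
  have hS : B.IsSymm := ⟨fun u v => (hsw v u).symm⟩
  have hB : B.Nondegenerate := ⟨fun v h => φ.nondeg' h, fun v h => φ.nondeg v h⟩
  obtain ⟨b, hb⟩ := H33.exists_orthonormal (conj_ne_id hF) (conj_conj hF) B hS hB
  let b' := b.reindex (finCongr hdim)
  have hb' : ∀ i j, φ.B (b' i) (b' j) = if i = j then 1 else 0 := fun i j => by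
    show B (b' j) (b' i) = _
    simp only [b', Module.Basis.reindex_apply, hb, Equiv.apply_eq_iff_eq]
    simp [eq_comm]
  have he : ∀ u v, Cfsg.hermForm n F q (b'.equivFun u) (b'.equivFun v) = φ.B u v := fun u v => by
    conv_rhs => rw [← b'.sum_equivFun u]
    rw [map_sum, LinearMap.sum_apply]
    refine Finset.sum_congr rfl fun i _ => ?_
    rw [map_smul, LinearMap.smul_apply]
    conv_rhs => rw [← b'.sum_equivFun v]
    rw [map_sum, Finset.sum_eq_single i (fun j _ hj => by
      rw [LinearMap.map_smulₛₗ, hb', if_neg hj.symm, smul_zero])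
      (fun h => absurd (Finset.mem_univ i) h), LinearMap.map_smulₛₗ, hb', if_pos rfl,
      show φ.σ (b'.equivFun v i) = conj hF (b'.equivFun v i) by rw [hσ]]
    simp [conj_apply]
  let L : End F (Fin n → F) := b'.equivFun.toLinearMap ∘ₗ T ∘ₗ b'.equivFun.symm.toLinearMap
  refine ⟨LinearMap.toMatrix' L, b'.equivFun, fun u v => ?_, ?_, he, fun v => ?_⟩
  · rw [LinearMap.toMatrix'_mulVec, LinearMap.toMatrix'_mulVec]
    show Cfsg.hermForm n F q (b'.equivFun (T _)) (b'.equivFun (T _)) = _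
    rw [he, hT, ← he]
    simp only [LinearEquiv.coe_coe, LinearEquiv.apply_symm_apply]
  · rw [LinearMap.det_toMatrix']
    exact LinearMap.det_conj T b'.equivFun
  · rw [Matrix.toLin'_toMatrix']
    simp [L]

end forms

end Cfsg.Agent.Linear.Elusive.Forms
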