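import Cfsg.Agent.Linear.Elusive.Forms.Unitary
import Cfsg.Agent.Linear.Elusive.Forms.HermNd
import Cfsg.Agent.Linear.Elusive.Forms.HermType
import Cfsg.Agent.Linear.Elusive.Forms.UnitNdCount
import Cfsg.Agent.Linear.Elusive.Unipotent

/-!
Non-degenerate subspaces fixed by elements of prime order of the unitary groups.
-/

set_option autoImplicit false
set_option linter.unusedSectionVars false

namespace Cfsg.Agent.Linear.Elusive.Forms

open Polynomial Module

universe u v

variable {F : Type u} [Field F] [Fintype F] {p q r : ℕ} [Fact p.Prime] [CharP F p] [Fact r.Prime]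
  {n m : ℕ}

/-- All elements of order `r` modulo scalars. -/
def AllNdFixU (F : Type u) [Field F] (q r n m : ℕ) : Prop :=
  ∀ x : Matrix.SpecialLinearGroup (Fin n) F, x ∈ Cfsg.SU n F q →
    (∃ z : F, ((x ^ r : Matrix.SpecialLinearGroup (Fin n) F) : Matrix (Fin n) (Fin n) F) = z • (1 : Matrix (Fin n) (Fin n) F)) →
    (∀ z : F, (x : Matrix (Fin n) (Fin n) F) ≠ z • (1 : Matrix (Fin n) (Fin n) F)) →
    ∃ W : Submodule F (Fin n → F), finrank F ↥W = m ∧ (∀ u ∈ W, u ≠ 0 → ∃ v ∈ W, Cfsg.hermForm n F q u v ≠ 0) ∧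
      W.map (Matrix.toLin' (x : Matrix (Fin n) (Fin n) F)) ≤ W

variable (hF : Fintype.card F = q ^ 2)
include hF

theorem char_not_dvd_succ : ¬ p ∣ q + 1 := fun h => by
  obtain ⟨e, he⟩ := exists_q_pow (p := p) hF
  have he0 : e ≠ 0 := fun h0 => by
    rw [h0, pow_zero] at he
    have := Unitary.two_le_q hF
    omega
  have h2 : p ∣ q := he ▸ dvd_pow_self p he0
  exact (Fact.out : p.Prime).not_dvd_one ((Nat.dvd_add_right h2).1 h)

theorem allNdFixU_of (hn : 1 ≤ n)
    (h : ∀ T : End F (Fin n → F), (stdHerm hF (Fin n)).Iso T → LinearMap.det T = 1 → ∀ z : F,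
      z ^ (q + 1) = 1 → T ^ r = z • (1 : End F (Fin n → F)) →
      ∃ W : Submodule F (Fin n → F), finrank F W = m ∧ (stdHerm hF (Fin n)).Nd W ∧ Inv T W) :
    AllNdFixU F q r n m := by
  rintro x hx ⟨z, hz⟩ -
  have hT := iso_of_preserves hF hx
  have hTr : Matrix.toLin' (x : Matrix (Fin n) (Fin n) F) ^ r = z • (1 : End F (Fin n → F)) := by
    rw [← Matrix.toLin'_pow, ← Matrix.SpecialLinearGroup.coe_pow, hz, map_smul, Matrix.toLin'_one]
    rfl
  obtain ⟨W, h1, h2, h3⟩ := h _ hT (by rw [LinearMap.det_toLin']; exact x.2) z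
    (scalar_norm hF hn hT hTr) hTr
  exact ⟨W, h1, (herm_nd_iff hF).2 h2, h3⟩

/-- A matrix without fixed non-degenerate `m`-spaces. -/
theorem not_allU_of_matrix {M : Matrix (Fin n) (Fin n) F} (hM : Unitary.Preserves q M)
    (hdet : M.det = 1) {z : F} (hpow : M ^ r = z • (1 : Matrix (Fin n) (Fin n) F))
    (hns : ∀ c : F, M ≠ c • (1 : Matrix (Fin n) (Fin n) F))
    (hno : ∀ U : Submodule F (Fin n → F), Inv (Matrix.toLin' M) U → (stdHerm hF (Fin n)).Nd U →
      finrank F U ≠ m) : ¬ AllNdFixU F q r n m := by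
  intro hall
  obtain ⟨W, h1, h2, h3⟩ := hall ⟨M, hdet⟩ hM ⟨z, (Matrix.SpecialLinearGroup.coe_pow _ _).trans hpow⟩ hns
  exact hno W h3 ((herm_nd_iff hF).1 h2) h1

/-- A model isometry without invariant non-degenerate `m`-spaces. -/
theorem not_allU_of_model {V : Type v} [AddCommGroup V] [Module F V] [FiniteDimensional F V]
    (φ : RForm F V) (hσ : φ.σ = conj hF) (hε : φ.ε = 1) (hdim : finrank F V = n) {T : End F V}
    (hT : φ.Iso T) (hdet : LinearMap.det T = 1) {z : F} (hTr : T ^ r = z • (1 : End F V))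
    (hns : ∀ c : F, T ≠ c • (1 : End F V))
    (hno : ∀ U : Submodule F V, Inv T U → φ.Nd U → finrank F U ≠ m) : ¬ AllNdFixU F q r n m := by
  obtain ⟨M, e, hM, hMd, he, hMe⟩ := exists_unitary hF φ hσ hε hdim hT
  have hpow : ∀ k v, (Matrix.toLin' M ^ k) (e v) = e ((T ^ k) v) := by
    intro k
    induction k with
    | zero => exact fun v => rfl
    | succ k ih => intro v; rw [pow_succ, pow_succ, Module.End.mul_apply, Module.End.mul_apply, hMe, ih]
  refine not_allU_of_matrix hF hM (hMd.trans hdet) (z := z) ?_ (fun c hc => hns c ?_) fun U hUi hUn hUm => ?_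
  · refine Matrix.toLin'.injective (LinearMap.ext fun w => ?_)
    obtain ⟨v, rfl⟩ := e.surjective w
    rw [Matrix.toLin'_pow, hpow, hTr, map_smul, Matrix.toLin'_one, LinearMap.smul_apply,
      LinearMap.smul_apply, LinearMap.id_apply, Module.End.one_apply, map_smul]
  · refine LinearMap.ext fun v => e.injective ?_
    rw [← hMe, hc, map_smul, Matrix.toLin'_one, LinearMap.smul_apply, LinearMap.smul_apply,
      LinearMap.id_apply, Module.End.one_apply, map_smul]
  · refine hno (U.map e.symm.toLinearMap) (inv_of_forall ?_) (RForm.nd_iff.2 ?_)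
      (by rw [LinearEquiv.finrank_map_eq, hUm])
    · rintro _ ⟨w, hw, rfl⟩
      refine ⟨Matrix.toLin' M w, hUi.mem hw, e.injective ?_⟩
      rw [← hMe, LinearEquiv.coe_coe, e.apply_symm_apply, e.apply_symm_apply]
    · rintro _ ⟨w, hw, rfl⟩ hw0
      obtain ⟨v, hv, hwv⟩ := RForm.nd_iff.1 hUn w hw fun h => hw0 (by rw [h, map_zero])
      refine ⟨e.symm v, ⟨v, hv, rfl⟩, ?_⟩
      rw [LinearEquiv.coe_coe, ← he, e.apply_symm_apply, e.apply_symm_apply, ← stdHerm_apply hF]
      exact hwv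

/-- A non-trivial model isometry of order `r`, prime to `q + 1`. -/
theorem not_allU_of_order (hn : 1 ≤ n) (hr : ¬ r ∣ q + 1) {V : Type v} [AddCommGroup V]
    [Module F V] [FiniteDimensional F V] (φ : RForm F V) (hσ : φ.σ = conj hF) (hε : φ.ε = 1)
    (hdim : finrank F V = n) {T : End F V} (hT : φ.Iso T) (hTr : T ^ r = 1) (hT1 : T ≠ 1)
    (hno : ∀ U : Submodule F V, Inv T U → φ.Nd U → finrank F U ≠ m) : ¬ AllNdFixU F q r n m := by
  obtain ⟨M, e, hM, hMd, -, -⟩ := exists_unitary hF φ hσ hε hdim hT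
  have hdet : LinearMap.det T = 1 := by
    refine eq_one_of_pow hF hr ?_ ?_
    · rw [← map_pow, hTr, map_one]
    · rw [← hMd, pow_succ']
      exact hM.det_norm hF
  refine not_allU_of_model hF φ hσ hε hdim hT hdet (z := 1) (by rw [hTr, one_smul]) (fun c hc => hT1 ?_) hno
  haveI : Nontrivial V := Module.nontrivial_of_finrank_pos (R := F) (by omega)
  obtain ⟨v, hv⟩ := exists_ne (0 : V)
  have hcr : c ^ r = 1 := smul_left_injective F hv (by
    have := LinearMap.congr_fun hTr v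
    rw [hc, _root_.smul_pow, one_pow] at this
    simpa using this)
  obtain ⟨w, hw⟩ : ∃ w, φ.B v w ≠ 0 := by
    by_contra h
    push Not at h
    exact hv (φ.nondeg v h)
  have hcn : c ^ (q + 1) = 1 := by
    have h1 := hT v w
    rw [hc, LinearMap.smul_apply, LinearMap.smul_apply, Module.End.one_apply, Module.End.one_apply,
      map_smul φ.B c v, LinearMap.smul_apply, LinearMap.map_smulₛₗ,
      show φ.σ c = c ^ q from RingHom.congr_fun hσ c, smul_smul, smul_eq_mul] at h1
    rw [pow_succ']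
    exact mul_right_cancel₀ hw (h1.trans (one_mul _).symm)
  rw [hc, eq_one_of_pow hF hr hcr hcn, one_smul]

theorem conj_ne {V : Type v} [AddCommGroup V] [Module F V] {φ : RForm F V} (hσ : φ.σ = conj hF) :
    φ.σ ≠ RingHom.id F := hσ ▸ conj_ne_id hF

/-! ### Unipotent elements -/

theorem nilpotent_sub_one {V : Type v} [AddCommGroup V] [Module F V] {T : End F V} (hT : T ^ p = 1) :
    (T - 1) ^ p = 0 := by
  rcases subsingleton_or_nontrivial V with hV | hV
  · exact LinearMap.ext fun v => Subsingleton.elim _ _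
  haveI : CharP (End F V) p := charP_of_injective_algebraMap (algebraMap F (End F V)).injective p
  rw [sub_pow_char_of_commute p (Commute.one_right T), hT, one_pow, sub_self]

theorem unitary_nd_unip (hn : 1 ≤ n)
    (hcond : ∀ μ : Multiset ℕ, (∀ a ∈ μ, 0 < a ∧ a ≤ p) → μ.sum = n →
      ∃ ν : Multiset ℕ, ν ≤ μ ∧ ν.sum = m) : AllNdFixU F q p n m := by
  refine allNdFixU_of hF hn fun T hT _ z hz hTp => ?_
  obtain ⟨e, he, he1⟩ : ∃ e : F, e ^ p = z ∧ e ^ (q + 1) = 1 := by
    obtain ⟨k, hk⟩ := exists_pow_eq_self_of_coprime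
      (((Fact.out : p.Prime).coprime_iff_not_dvd.2 (char_not_dvd_succ hF)).coprime_dvd_right
        (orderOf_dvd_of_pow_eq_one hz))
    exact ⟨z ^ k, by rw [← pow_mul, mul_comm, pow_mul, hk],
      by rw [← pow_mul, mul_comm, pow_mul, hz, one_pow]⟩
  have he0 : e ≠ 0 := fun h => by
    rw [h, zero_pow (Nat.succ_ne_zero q)] at he1
    exact zero_ne_one he1
  have hS : (stdHerm hF (Fin n)).Iso (e⁻¹ • T) := iso_smul hF hT (by rw [inv_pow, he1, _root_.inv_one])
  have hSp : (e⁻¹ • T) ^ p = 1 := by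
    rw [_root_.smul_pow, hTp, smul_smul, ← he, ← mul_pow, inv_mul_cancel₀ he0, one_pow, one_smul]
  have hN : (stdHerm hF (Fin n)).Iso (1 + (e⁻¹ • T - 1)) := by rwa [add_sub_cancel]
  obtain ⟨-, hsub⟩ := exists_unip_sub hN (nilpotent_sub_one hF hSp) (fun _ => 1) (fun _ => le_rfl)
    (fun A hAi a ha _ hAa hβ => herm_select (conj_ne hF rfl) hN A hAi a ha hAa hβ) ⊤ RForm.nd_top le_top
  obtain ⟨ν, hν, hνm⟩ := hcond (H99.blockParts (e⁻¹ • T - 1) ⊤ p) (fun a ha => H99.mem_blockParts _ _ ha)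
    (by rw [H99.sum_blockParts _ _ le_top p (nilpotent_sub_one hF hSp), finrank_top, Module.finrank_fin_fun])
  obtain ⟨W, -, hWn, hWi, hWd⟩ := hsub ν hν fun _ => one_dvd _
  refine ⟨W, hWd.trans hνm, hWn, (Inv.smul_iff (inv_ne_zero he0)).1 ?_⟩
  have := (Inv.one_add_iff.2 hWi : Inv (1 + (e⁻¹ • T - 1)) W)
  rwa [add_sub_cancel] at this

theorem unitary_nd_unip_nec (hn : 1 ≤ n) (hmn : m ≤ n) (hall : AllNdFixU F q p n m) (μ : Multiset ℕ)
    (hμ : ∀ a ∈ μ, 0 < a ∧ a ≤ p) (h2 : ∀ a ∈ μ, Odd a → (2 : F) ≠ 0) (hsum : μ.sum = n) :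
    ∃ ν : Multiset ℕ, ν ≤ μ ∧ ν.sum = m := by
  by_contra hno
  have hbig : ∃ f ∈ μ, 1 < f := by
    by_contra h
    push Not at h
    have hrep : μ = Multiset.replicate μ.card 1 :=
      Multiset.eq_replicate_card.2 fun a ha => by have := (hμ a ha).1; have := h a ha; omega
    have hcard : μ.card = n := by
      rw [hrep, Multiset.sum_replicate, smul_eq_mul, mul_one] at hsum
      exact hsum
    exact hno ⟨Multiset.replicate m 1,
      by rw [hrep, hcard, Multiset.replicate_le_replicate]; exact hmn, by simp⟩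
  obtain ⟨t, d, φ, T, hσ, hε, hT, hTp, hdim, hparts, hT1⟩ := exists_herm_type hF μ hμ h2
  refine not_allU_of_order hF hn (char_not_dvd_succ hF) φ hσ hε (hdim.trans hsum) hT hTp (hT1 hbig)
    (fun U hUi hUn hUd => ?_) hall
  have hUi' : U.map (T - 1) ≤ U :=
    Inv.one_add_iff.1 (by rw [add_sub_cancel]; exact hUi : Inv (1 + (T - 1)) U)
  have hN : φ.Iso (1 + (T - 1)) := by rwa [add_sub_cancel]
  exact hno ⟨_, hparts ▸ blockParts_le_top hN hUn hUi' p,
    by rw [H99.sum_blockParts _ _ hUi' p (nilpotent_sub_one hF hTp), hUd]⟩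

/-! ### Involutions -/

/-- The eigenspaces of an anti-involution. -/
theorem anti_pieces (h2 : (2 : F) ≠ 0) {V : Type v} [AddCommGroup V] [Module F V] [FiniteDimensional F V]
    {φ : RForm F V} {T : End F V} (hT : φ.Iso T) {t : F} (ht : t * φ.σ t = -1)
    (hT2 : T ^ 2 = (t * t) • (1 : End F V)) {A : Submodule F V} (hA : φ.Nd A) (hAi : Inv T A) :
    (finrank F A = finrank F ↥(A ⊓ LinearMap.ker (aeval T (X - Polynomial.C t))) +
        finrank F ↥(A ⊓ LinearMap.ker (aeval T (X - Polynomial.C (-t)))) ∧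
      finrank F ↥(A ⊓ LinearMap.ker (aeval T (X - Polynomial.C t))) =
        finrank F ↥(A ⊓ LinearMap.ker (aeval T (X - Polynomial.C (-t))))) ∧
    (A ≠ ⊥ → ∃ P ≤ A, φ.Nd P ∧ Inv T P ∧ finrank F P = 2) := by
  have ht0 : t ≠ 0 := fun h => by
    rw [h, zero_mul] at ht
    exact one_ne_zero (neg_eq_zero.1 ht.symm)
  have hne : t - -t ≠ 0 := by rw [sub_neg_eq_add, ← two_mul]; exact mul_ne_zero h2 ht0
  have hcop : IsCoprime (X - Polynomial.C t) (X - Polynomial.C (-t)) :=
    isCoprime_X_sub_C_of_isUnit_sub hne.isUnit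
  have hkill : aeval T ((X - Polynomial.C t) * (X - Polynomial.C (-t))) = 0 := by
    rw [show (X - Polynomial.C t) * (X - Polynomial.C (-t)) = X ^ 2 - Polynomial.C (t * t) by
      rw [map_neg, map_mul]; ring, map_sub, map_pow, aeval_X, aeval_C, hT2,
      Algebra.algebraMap_eq_smul_one, sub_self]
  have hev : ∀ (c : F) v, v ∈ LinearMap.ker (aeval T (X - Polynomial.C c)) → T v = c • v := fun c v hv => by
    simpa only [LinearMap.mem_ker, map_sub, aeval_X, aeval_C, LinearMap.sub_apply,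
      Module.algebraMap_end_apply, sub_eq_zero] using hv
  have hti : ∀ c : F, c * φ.σ c = -1 → φ.TI (LinearMap.ker (aeval T (X - Polynomial.C c))) := by
    intro c hc v hv u hu
    have h1 := hT u v
    rw [hev c v hv, hev c u hu, map_smul φ.B c u, LinearMap.smul_apply, LinearMap.map_smulₛₗ, smul_smul,
      hc, neg_one_smul] at h1
    exact (mul_eq_zero.1 (show (2 : F) * φ.B u v = 0 by linear_combination -h1)).resolve_left h2
  have hsum := split_coprime hcop hkill hAi
  have htn : -t * φ.σ (-t) = -1 := by rw [map_neg, neg_mul_neg, ht]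
  have hb1 := ((hti t ht).mono (inf_le_right : A ⊓ _ ≤ _)).two_mul_le hA inf_le_left
  have hb2 := ((hti _ htn).mono (inf_le_right : A ⊓ _ ≤ _)).two_mul_le hA inf_le_left
  refine ⟨⟨hsum, by omega⟩, fun hA0 => ?_⟩
  have hpos : 0 < finrank F A := Nat.pos_of_ne_zero fun h => hA0 (Submodule.finrank_eq_zero.1 h)
  obtain ⟨a, ha, ha0⟩ := (A ⊓ LinearMap.ker (aeval T (X - Polynomial.C t))).exists_mem_ne_zero_of_ne_bot
    fun h => by rw [h, finrank_bot] at hsum hb1; omega
  obtain ⟨y, hy, hay⟩ := RForm.nd_iff.1 hA a ha.1 ha0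
  rw [split_local hcop hAi fun v _ => by rw [hkill, LinearMap.zero_apply]] at hy
  obtain ⟨y1, hy1, b, hb, rfl⟩ := Submodule.mem_sup.1 hy
  rw [map_add, hti t ht hy1.2 a ha.2, zero_add] at hay
  obtain ⟨h1, h3⟩ := exists_plane (hti t ht ha.2 a ha.2) (hti _ htn hb.2 b hb.2) hay
  refine ⟨_, Submodule.span_le.2 (Set.pair_subset ha.1 hb.1), h1, ?_, h3⟩
  rw [Inv, Submodule.map_span, Submodule.span_le]
  rintro _ ⟨x, hx, rfl⟩
  rcases hx with rfl | rfl
  · rw [SetLike.mem_coe, hev t _ ha.2]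
    exact Submodule.smul_mem _ _ (Submodule.subset_span (by simp))
  · rw [SetLike.mem_coe, hev _ _ hb.2]
    exact Submodule.smul_mem _ _ (Submodule.subset_span (by simp))

theorem unitary_nd_two (hp2 : p ≠ 2) (hn : 1 ≤ n) (hmn : m ≤ n)
    (hcond : Odd n ∨ Even m ∨ (padicValNat 2 n ≤ padicValNat 2 (q + 1) ∧ q % 4 = 3)) :
    AllNdFixU F q 2 n m := by
  classical
  haveI : Fact (Nat.Prime 2) := ⟨Nat.prime_two⟩
  refine allNdFixU_of hF hn fun T hT hdet z hz hT2 => ?_
  have hodd := q_odd (p := p) hF hp2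
  have h2 : (2 : F) ≠ 0 := H72.OrthTypeFix.two_ne_zero' hp2
  have hd2 : 2 ∣ Fintype.card F - 1 := by
    rw [card_sub_one hF]; exact Dvd.dvd.mul_right (by omega) _
  obtain ⟨e, he⟩ : ∃ e : F, e ^ 2 = z := by
    refine exists_root_of_pow hd2 (fun h => by
      rw [h, zero_pow (Nat.succ_ne_zero q)] at hz; exact zero_ne_one hz) ?_
    obtain ⟨l, hl⟩ : 2 ∣ q - 1 := by omega
    rw [card_sub_one hF, hl, mul_left_comm, Nat.mul_div_cancel_left _ two_pos, pow_mul, hz, one_pow]
  have he0 : e ≠ 0 := fun h => by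
    rw [h, zero_pow two_ne_zero] at he
    rw [← he, zero_pow (Nat.succ_ne_zero q)] at hz
    exact zero_ne_one hz
  have hee : e ^ (q + 1) = 1 ∨ e ^ (q + 1) = -1 :=
    sq_eq_one_iff.1 (by rw [← pow_mul, mul_comm, pow_mul, he, hz])
  rcases hee with h1 | h1
  · set S := e⁻¹ • T
    have hS : (stdHerm hF (Fin n)).Iso S := iso_smul hF hT (by rw [inv_pow, h1, _root_.inv_one])
    have hS2 : S ^ 2 = 1 := by
      rw [_root_.smul_pow, hT2, smul_smul, ← he, ← mul_pow, inv_mul_cancel₀ he0, one_pow, one_smul]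
    obtain ⟨hA, hB⟩ := nd_fixSpace (r := 2) (Ne.symm hp2) hS hS2
    have hneg : ∀ v ∈ moveSpace 2 S, S v = (-1 : F) • v := fun v hv => by
      rw [moveSpace, LinearMap.mem_ker, cyclotomic_two, map_add, aeval_X, map_one,
        LinearMap.add_apply, Module.End.one_apply] at hv
      rw [neg_one_smul]
      exact eq_neg_of_add_eq_zero_left hv
    have hsum := split_finrank (r := 2) (Ne.symm hp2) hS2 (inv_top S)
    rw [top_inf_eq, top_inf_eq, finrank_top, Module.finrank_fin_fun] at hsum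
    obtain ⟨Uf, hUf, hUfn, -, hUfd⟩ := attain hS hA (inv_ker_aeval S _) 1
      (fun A' hle hn' _ hne => exists_scalar_line (conj_ne hF rfl) hn' hne
        (c := 1) fun v hv => by rw [one_smul]; exact mem_fixSpace.1 (hle hv))
      (min m (finrank F ↥(fixSpace S))) (by omega)
    obtain ⟨Um, hUm, hUmn, hUmi, hUmd⟩ := attain hS hB (inv_ker_aeval S _) 1
      (fun A' hle hn' _ hne => exists_scalar_line (conj_ne hF rfl) hn' hne fun v hv => hneg v (hle hv))
      (m - min m (finrank F ↥(fixSpace S))) (by omega)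
    obtain ⟨g1, g2, g3⟩ := exists_nd_space (r := 2) (Ne.symm hp2) hS hUf hUfn hUm hUmn hUmi
    exact ⟨_, by omega, g1, (Inv.smul_iff (inv_ne_zero he0)).1 g2⟩
  · have ht : e * (stdHerm hF (Fin n)).σ e = -1 := by
      show e * e ^ q = -1
      rw [← pow_succ', h1]
    have hT2' : T ^ 2 = (e * e) • (1 : End F (Fin n → F)) := by rw [← pow_two, he, hT2]
    obtain ⟨⟨hsum, heq⟩, -⟩ := anti_pieces hF h2 hT ht hT2' RForm.nd_top (inv_top T)
    rw [top_inf_eq, top_inf_eq] at hsum heq
    rw [finrank_top, Module.finrank_fin_fun] at hsum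
    have hm : Even m := by
      rcases hcond with h | h | ⟨hv, hq4⟩
      · exact absurd h (Nat.not_odd_iff_even.2 ⟨_, heq ▸ hsum⟩)
      · exact h
      exfalso
      set E1 := LinearMap.ker (aeval T (X - Polynomial.C e))
      set E2 := LinearMap.ker (aeval T (X - Polynomial.C (-e)))
      obtain ⟨h, hh⟩ : ∃ h, h = finrank F E1 := ⟨_, rfl⟩
      have hne : e - -e ≠ 0 := by rw [sub_neg_eq_add, ← two_mul]; exact mul_ne_zero h2 he0
      have hcop : IsCoprime (X - Polynomial.C e) (X - Polynomial.C (-e)) :=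
        isCoprime_X_sub_C_of_isUnit_sub hne.isUnit
      have hkill : aeval T ((X - Polynomial.C e) * (X - Polynomial.C (-e))) = 0 := by
        rw [show (X - Polynomial.C e) * (X - Polynomial.C (-e)) = X ^ 2 - Polynomial.C (e * e) by
          rw [map_neg, map_mul]; ring, map_sub, map_pow, aeval_X, aeval_C, hT2',
          Algebra.algebraMap_eq_smul_one, sub_self]
      have hsup : E1 ⊔ E2 = ⊤ := by
        have := split_local hcop (inv_top T) (kill_top hkill)
        rw [top_inf_eq, top_inf_eq] at this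
        exact this.symm
      have hdisj : Disjoint E1 E2 := disjoint_iff.2 (Submodule.finrank_eq_zero.1 (by
        have := Submodule.finrank_sup_add_finrank_inf_eq E1 E2
        rw [hsup, finrank_top, Module.finrank_fin_fun] at this
        omega))
      let Φ := Submodule.prodEquivOfIsCompl _ _ (IsCompl.of_eq (disjoint_iff.1 hdisj) hsup)
      have hev : ∀ (c : F) v, v ∈ LinearMap.ker (aeval T (X - Polynomial.C c)) → T v = c • v := fun c v hv => by
        simpa only [LinearMap.mem_ker, map_sub, aeval_X, aeval_C, LinearMap.sub_apply,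
          Module.algebraMap_end_apply, sub_eq_zero] using hv
      have hconj : T = Φ.toLinearMap ∘ₗ
          (LinearMap.prodMap (e • (LinearMap.id : End F ↥E1)) ((-e) • (LinearMap.id : End F ↥E2))) ∘ₗ
            Φ.symm.toLinearMap := by
        refine LinearMap.ext fun v => ?_
        obtain ⟨⟨a, b⟩, rfl⟩ := Φ.surjective v
        simp only [LinearMap.comp_apply, LinearEquiv.coe_coe, LinearEquiv.symm_apply_apply]
        show T ((a : Fin n → F) + b) = ((e • a : ↥E1) : Fin n → F) + ((-e) • b : ↥E2)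
        rw [map_add, hev e _ a.2, hev (-e) _ b.2, Submodule.coe_smul, Submodule.coe_smul]
      have hy : (-z) ^ h = 1 := by
        rw [← hdet, hconj, LinearMap.det_conj, LinearMap.det_prodMap, LinearMap.det_smul,
          LinearMap.det_smul, LinearMap.det_id, LinearMap.det_id, mul_one, mul_one, ← hh, ← heq,
          ← hh, ← mul_pow, mul_neg, ← pow_two, he]
      obtain ⟨u, a, ha, hha⟩ := Nat.exists_eq_pow_mul_and_not_dvd (show h ≠ 0 by omega) 2 (by norm_num)
      have hvu : u + 1 ≤ padicValNat 2 (q + 1) := by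
        refine le_trans ?_ hv
        rw [← padicValNat_dvd_iff_le (by omega)]
        exact ⟨a, by rw [hsum, ← heq, ← hh, hha]; ring⟩
      obtain ⟨g, hg⟩ : 2 ^ (u + 1) ∣ q + 1 := (pow_dvd_pow 2 hvu).trans pow_padicValNat_dvd
      obtain ⟨l, hl⟩ : 4 ∣ q + 1 := by omega
      have e1 : (-z) ^ ((2 * l) * a) = -1 := by
        rw [pow_mul, (even_two_mul l).neg_pow, ← he, ← pow_mul e 2 (2 * l),
          show 2 * (2 * l) = q + 1 by omega, h1, (Nat.odd_iff.2 (by omega) : Odd a).neg_one_pow]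
      have e2 : 2 * l = 2 ^ u * g := by
        have : 2 * (2 * l) = 2 * (2 ^ u * g) := by rw [← mul_assoc 2 (2 ^ u), ← pow_succ', ← hg, hl]; ring
        omega
      rw [e2, mul_right_comm, ← hha, pow_mul, hy, one_pow] at e1
      exact h2 (by linear_combination e1)
    obtain ⟨k, rfl⟩ := hm
    obtain ⟨W, -, hWn, hWi, hWd⟩ := attain hT RForm.nd_top (inv_top T) 2
      (fun A' _ hn' hi hne => (anti_pieces hF h2 hT ht hT2' hn' hi).2 hne) k
      (by rw [finrank_top, Module.finrank_fin_fun]; omega)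
    exact ⟨W, by omega, hWn, hWi⟩

theorem unitary_nd_two_witness (hp2 : p ≠ 2) (hne : Even n) (hn : 1 ≤ n) (hmo : Odd m)
    (hbad : ¬ (padicValNat 2 n ≤ padicValNat 2 (q + 1) ∧ q % 4 = 3)) : ¬ AllNdFixU F q 2 n m := by
  classical
  haveI : Fact (Nat.Prime 2) := ⟨Nat.prime_two⟩
  have hodd := q_odd (p := p) hF hp2
  have hq2 := Unitary.two_le_q hF
  have h2 : (2 : F) ≠ 0 := H72.OrthTypeFix.two_ne_zero' hp2
  obtain ⟨h, rfl⟩ := hne
  obtain ⟨t, ht0, htn, htd⟩ : ∃ t : F, t ≠ 0 ∧ t ^ (q + 1) = -1 ∧ (-(t * t)) ^ h = 1 := by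
    by_cases hq : q % 4 = 3
    · have hv : padicValNat 2 (q + 1) + 1 ≤ padicValNat 2 (h + h) := by
        have : ¬ padicValNat 2 (h + h) ≤ padicValNat 2 (q + 1) := fun hle => hbad ⟨hle, hq⟩
        omega
      set v := padicValNat 2 (q + 1)
      obtain ⟨c, hc⟩ : 2 ^ (v + 1) ∣ h + h := (pow_dvd_pow 2 hv).trans pow_padicValNat_dvd
      have hv1 : 1 ≤ v := one_le_padicValNat_of_dvd (by omega) (by omega)
      obtain ⟨t, ht0, hto⟩ := exists_orderOf_of_dvd (F := F) (d := 2 ^ (v + 1)) (by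
        rw [card_sub_one hF, pow_succ]
        exact mul_dvd_mul pow_padicValNat_dvd (by omega))
      refine ⟨t, ht0, ?_, ?_⟩
      · refine (sq_eq_one_iff.1 ?_).resolve_left fun h1 =>
          pow_succ_padicValNat_not_dvd (p := 2) (Nat.succ_ne_zero q) (hto ▸ orderOf_dvd_of_pow_eq_one h1)
        rw [← pow_mul, ← orderOf_dvd_iff_pow_eq_one, hto, pow_succ]
        exact mul_dvd_mul_right pow_padicValNat_dvd 2
      · have heven : Even h := by
          obtain ⟨w, hw⟩ : ∃ w, v = w + 1 := ⟨v - 1, by omega⟩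
          rw [hw, pow_succ, pow_succ] at hc
          exact ⟨2 ^ w * c, by linarith⟩
        rw [heven.neg_pow, ← pow_two, ← pow_mul, ← orderOf_dvd_iff_pow_eq_one, hto]
        exact ⟨c, by rw [two_mul]; exact hc⟩
    · obtain ⟨t, ht0, hto⟩ := exists_orderOf_of_dvd (F := F) (d := 4) (by
        rw [card_sub_one hF]; exact Dvd.dvd.mul_left (by omega) _)
      have h4 : t ^ 4 = 1 := by rw [← hto, pow_orderOf_eq_one]
      have ht2 : t ^ 2 = -1 := (sq_eq_one_iff.1 (by rw [← pow_mul]; exact h4)).resolve_left fun h1 => by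
        have := Nat.le_of_dvd two_pos (hto ▸ orderOf_dvd_of_pow_eq_one h1)
        omega
      refine ⟨t, ht0, ?_, ?_⟩
      · obtain ⟨l, hl⟩ : ∃ l, q + 1 = 4 * l + 2 := ⟨(q + 1) / 4, by omega⟩
        rw [hl, pow_add, pow_mul, h4, one_pow, one_mul, ht2]
      · rw [← pow_two, ht2, neg_neg, one_pow]
  let A : Fin h ⊕ Fin h → F := Sum.elim (fun _ => t) fun _ => -t
  let φ := pairForm (E := F) (ι := Fin h) (conj hF) 1 (conj hF) (conj_conj hF) (fun _ => rfl) (by simp)
  have hnorm : t * t ^ q = -1 := by rw [← pow_succ', htn]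
  have hT : φ.Iso (mulEnd (F := F) A) := iso_pairForm _ _ _ _ _ _ fun _ => by
    show t * conj hF (-t) = 1
    rw [map_neg, conj_apply, mul_neg, hnorm, neg_neg]
  have hT2 : mulEnd (F := F) A ^ 2 = (t * t) • (1 : End F (Fin h ⊕ Fin h → F)) := by
    rw [mulEnd_pow]
    refine LinearMap.ext fun x => funext fun i => ?_
    rcases i with i | i <;> simp [mulEnd_apply, A, pow_two]
  have hdet : LinearMap.det (mulEnd (F := F) A) = 1 := by
    have hdiag : Matrix.toLin' (Matrix.diagonal A) = mulEnd (F := F) A :=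
      LinearMap.ext fun x => funext fun k => by
        rw [Matrix.toLin'_apply, Matrix.mulVec_diagonal, mulEnd_apply]
    rw [← hdiag, LinearMap.det_toLin', Matrix.det_diagonal, Fintype.prod_sum_type]
    simp only [A, Sum.elim_inl, Sum.elim_inr, Finset.prod_const, Finset.card_univ, Fintype.card_fin]
    rw [← mul_pow, mul_neg, htd]
  refine not_allU_of_model (r := 2) hF φ rfl rfl (by simp) hT hdet hT2 (fun c hc => ?_) fun U hUi hUn hUd => ?_
  · have e1 := congrFun (LinearMap.congr_fun hc (fun _ => 1)) (Sum.inl ⟨0, by omega⟩)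
    have e2 := congrFun (LinearMap.congr_fun hc (fun _ => 1)) (Sum.inr ⟨0, by omega⟩)
    simp [mulEnd_apply, A] at e1 e2
    exact mul_ne_zero h2 ht0 (by linear_combination e1 - e2)
  · obtain ⟨⟨hs, he⟩, -⟩ := anti_pieces hF h2 hT (t := t) hnorm hT2 hUn hUi
    rw [← he, hUd] at hs
    exact Nat.not_even_iff_odd.2 hmo ⟨_, hs⟩

/-! ### Semisimple elements of odd order -/

/-- The pieces of the moved space. -/
theorem move_block (hrp : r ≠ p) (hr2 : 2 < r) {i b c : ℕ} (hi : i = orderOf (q : ZMod r))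
    (hb : b = if Even i then i / 2 else i)
    (hc : c = if i % 4 = 0 then i else if i % 4 = 2 then i / 2 else 2 * i)
    {V : Type v} [AddCommGroup V] [Module F V] [FiniteDimensional F V] {φ : RForm F V}
    (hσ : φ.σ = conj hF) {T : End F V} (hT : φ.Iso T) (hTr : T ^ r = 1)
    {A : Submodule F V} (hA : φ.Nd A) (hAi : Inv T A) (hAm : A ≤ moveSpace r T) (hne : A ≠ ⊥) :
    ∃ P ≤ A, φ.Nd P ∧ Inv T P ∧ finrank F P = c := by
  obtain ⟨k, hk⟩ := exists_q_pow (p := p) hF
  have hord : orderOf ((q ^ 2 : ℕ) : ZMod r) = b := by rw [orderOf_sq i hi, ← hb]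
  have hb0 : 0 < b := hord ▸ orderOf_pos_of_ne (r := r) (F := F) hF hrp
  have hi0 : 0 < i := by rw [hb] at hb0; split at hb0 <;> omega
  have hU : Uniform (cyclotomic r F) b := hord ▸ uniform_cyclotomic (r := r) (F := F) hF hrp
  by_cases h4 : i % 4 = 2
  · have hev : Even i := by rw [Nat.even_iff]; omega
    rw [if_pos hev] at hb
    obtain rfl : b = c := by rw [hb, hc, if_neg (by omega), if_pos h4]
    have hhalf : r ∣ q ^ b + 1 := hb ▸ half_dvd hr2 hi hi0 hev
    obtain ⟨l, hl⟩ := hhalf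
    exact exists_move_self (conj_ne hF hσ) hrp hT (s := q ^ b) ⟨k * b, by rw [hk, pow_mul]⟩
      (fun x => by
        obtain ⟨j, hj⟩ : ∃ j, b = 2 * j + 1 := ⟨b / 2, by omega⟩
        rw [show φ.σ x = x ^ q from RingHom.congr_fun hσ x, hj, pow_succ, pow_mul q, ← hF, pow_mul,
          FiniteField.pow_card_pow])
      (by rw [hl, pow_mul, hTr, one_pow]) hU hA hAi hAm hne
  · have hcb : c = 2 * b := by
      rw [hb, hc]
      by_cases h0 : i % 4 = 0
      · rw [if_pos h0, if_pos (by rw [Nat.even_iff]; omega)]; omega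
      · rw [if_neg h0, if_neg h4, if_neg (by rw [Nat.even_iff]; omega)]
    obtain ⟨P, hP⟩ := exists_move_pair hrp hT hTr hU (fun g hg hgd =>
      coprime_twist hrp φ.σ (q₀ := q) ⟨k, hk⟩ (fun x => RingHom.congr_fun hσ x)
        (fun l => by rw [hF]; exact twist_exp hr2 hi h4 l) hg hgd) hA hAi hAm hne
    exact ⟨P, hP.1, hP.2.1, hP.2.2.1, hP.2.2.2.trans hcb.symm⟩

theorem unitary_nd_order (hrp : r ≠ p) (hr2 : 2 < r) {i b c : ℕ} (hi : i = orderOf (q : ZMod r))
    (hb : b = if Even i then i / 2 else i)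
    (hc : c = if i % 4 = 0 then i else if i % 4 = 2 then i / 2 else 2 * i) (hc0 : 0 < c)
    (hmn : m ≤ n) (hk : m % c ≤ n % c) {T : End F (Fin n → F)} (hT : (stdHerm hF (Fin n)).Iso T)
    (hTr : T ^ r = 1) :
    ∃ W : Submodule F (Fin n → F), finrank F W = m ∧ (stdHerm hF (Fin n)).Nd W ∧ Inv T W := by
  obtain ⟨hfn, hmv⟩ := nd_fixSpace hrp hT hTr
  have hblock : ∀ A' ≤ moveSpace r T, (stdHerm hF (Fin n)).Nd A' → Inv T A' → A' ≠ ⊥ →
      ∃ P ≤ A', (stdHerm hF (Fin n)).Nd P ∧ Inv T P ∧ finrank F P = c :=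
    fun A' hle hn' hi' hne => move_block hF hrp hr2 hi hb hc rfl hT hTr hn' hi' hle hne
  obtain ⟨j, hj⟩ := dvd_of_blocks hT hmv (inv_ker_aeval T _) hc0 hblock
  have hsum := split_finrank hrp hTr (inv_top T)
  rw [top_inf_eq, top_inf_eq, finrank_top, Module.finrank_fin_fun, hj] at hsum
  have hfk : n % c ≤ finrank F ↥(fixSpace T) := by
    conv_lhs => rw [hsum, Nat.add_mul_mod_self_left]
    exact Nat.mod_le _ _
  have hsl : min j (m / c) * c ≤ m :=
    (Nat.mul_le_mul_right c (min_le_right _ _)).trans (Nat.div_mul_le_self _ c)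
  obtain ⟨Um, hUm, hUmn, hUmi, hUmd⟩ := attain hT hmv (inv_ker_aeval T _) c hblock
    (min j (m / c)) (by rw [hj, mul_comm c j]; exact Nat.mul_le_mul_right c (min_le_left _ _))
  have hroom : m - min j (m / c) * c ≤ finrank F ↥(fixSpace T) := by
    rcases le_total j (m / c) with h | h
    · rw [min_eq_left h, mul_comm]
      omega
    · rw [min_eq_right h]
      have := Nat.div_add_mod' m c
      omega
  obtain ⟨Uf, hUf, hUfn, -, hUfd⟩ := attain hT hfn (inv_ker_aeval T _) 1
    (fun A' hle hn' _ hne => exists_scalar_line (conj_ne hF rfl) hn' hne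
      (c := 1) fun v hv => by rw [one_smul]; exact mem_fixSpace.1 (hle hv))
    (m - min j (m / c) * c) (by omega)
  obtain ⟨h1, h3, h4⟩ := exists_nd_space hrp hT hUf hUfn hUm hUmn hUmi
  exact ⟨_, by omega, h1, h3⟩

/-- Multiples of `r`, when the scalar is not an `r`-th power. -/
theorem unitary_nd_irreducible (hrm : r ∣ m) (hmn : m ≤ n) {T : End F (Fin n → F)}
    (hT : (stdHerm hF (Fin n)).Iso T) {z : F} (hTr : T ^ r = z • (1 : End F (Fin n → F)))
    (hnr : ∀ e : F, e ^ r ≠ z) :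
    ∃ W : Submodule F (Fin n → F), finrank F W = m ∧ (stdHerm hF (Fin n)).Nd W ∧ Inv T W := by
  have hirr : Irreducible (X ^ r - Polynomial.C z) :=
    X_pow_sub_C_irreducible_of_prime (Fact.out : r.Prime) hnr
  have hkill : aeval T (X ^ r - Polynomial.C z) = 0 := by
    rw [map_sub, map_pow, aeval_X, aeval_C, hTr, Algebra.algebraMap_eq_smul_one, sub_self]
  obtain ⟨k, rfl⟩ := hrm
  obtain ⟨W, -, hWn, hWi, hWd⟩ := attain hT RForm.nd_top (inv_top T) r (fun A' _ hn' hi hne => by
    obtain ⟨P, h1, h2, h3, h4⟩ := exists_cyc_piece (conj_ne hF rfl) hT hirr hn' hi hne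
      fun v _ => by rw [hkill, LinearMap.zero_apply]
    exact ⟨P, h1, h2, h3, h4.trans natDegree_X_pow_sub_C⟩) k
    (by rw [finrank_top, Module.finrank_fin_fun, mul_comm]; exact hmn)
  exact ⟨W, by rw [hWd, mul_comm], hWn, hWi⟩

/-- Elements of odd prime order other than `p`. -/
theorem unitary_nd_odd (hrp : r ≠ p) (hr2 : 2 < r) (hn : 1 ≤ n) (hm : 1 ≤ m) (hmn : m ≤ n)
    {i b c : ℕ} (hi : i = orderOf (q : ZMod r)) (hb : b = if Even i then i / 2 else i)
    (hc : c = if i % 4 = 0 then i else if i % 4 = 2 then i / 2 else 2 * i)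
    (hrΩ : r ∣ Nat.card {W : Submodule F (Fin n → F) // finrank F ↥W = m ∧
      (∀ u ∈ W, u ≠ 0 → ∃ v ∈ W, Cfsg.hermForm n F q u v ≠ 0)}) :
    AllNdFixU F q r n m ↔
      ((i ≠ 2 ∧ c ≤ m ∧ m % c ≤ n % c) ∨ (i = 2 ∧ (r ∣ m ∨ padicValNat r n ≤ padicValNat r (q + 1)))) := by
  have hord : orderOf ((q ^ 2 : ℕ) : ZMod r) = b := by rw [orderOf_sq i hi, ← hb]
  have hb0 : 0 < b := hord ▸ orderOf_pos_of_ne (r := r) (F := F) hF hrp
  have hi0 : 0 < i := by rw [hb] at hb0; split at hb0 <;> omega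
  have hc0 : 0 < c := by rw [hc]; split_ifs <;> omega
  have hiq : i = 2 ↔ r ∣ q + 1 := by
    constructor
    · intro h2
      have := half_dvd hr2 hi hi0 (h2 ▸ even_two)
      rwa [h2, show 2 / 2 = 1 from rfl, pow_one] at this
    · intro hd
      have h : (q : ZMod r) = -1 := by
        have := (ZMod.natCast_eq_zero_iff (q + 1) r).2 hd
        push_cast at this
        linear_combination this
      rw [hi, h]
      exact orderOf_eq_prime (by ring) (neg_one_ne_one hr2)
  constructor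
  · intro hall
    by_cases hi2 : i = 2
    · refine Or.inr ⟨hi2, ?_⟩
      by_contra hno
      push Not at hno
      obtain ⟨M, z, hM, hdet, hpow, hns, hdvd⟩ := bad_element hF hrp hr2 (hiq.1 hi2) hn hno.2
      exact not_allU_of_matrix hF hM hdet hpow hns (fun U hUi _ hUm => hno.1 (by rw [← hUm]; exact hdvd U hUi)) hall
    refine Or.inl ⟨hi2, ?_⟩
    by_contra hno
    obtain ⟨s, hs1, hs2, hs3⟩ := unitary_nd_count hF hrp hmn hrΩ
    obtain ⟨l, hl⟩ := dvd_of_neg_pow hr2 hi hc hs3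
    have hcn : c ≤ n := by
      have := Nat.le_of_dvd (by omega) (Dvd.intro l hl.symm)
      omega
    have hn1 : 1 ≤ n / c := Nat.div_pos hcn hc0
    have hdm := Nat.div_add_mod n c
    have hk : n % c < m % c := by
      by_cases hcm : c ≤ m
      · exact not_le.1 fun h => hno ⟨hcm, h⟩
      · have hl' : l ≤ n / c := by rw [Nat.le_div_iff_mul_le hc0, mul_comm]; omega
        have := Nat.mul_le_mul_left c hl'
        rw [Nat.mod_eq_of_lt (show m < c by omega)]
        omega
    have hfinal : ∀ (V : Type u) [AddCommGroup V] [Module F V] [FiniteDimensional F V] (φ : RForm F V)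
        (T : End F V), φ.σ = conj hF → φ.ε = 1 → φ.Iso T → T ^ r = 1 → finrank F V = n →
        finrank F ↥(fixSpace T) = n % c → False := by
      intro V _ _ _ φ T hσ hε hT hTr hdim hfix
      refine not_allU_of_order hF hn (fun h => hi2 (hiq.2 h)) φ hσ hε hdim hT hTr ?_
        (fun U hUi hUn hUm => ?_) hall
      · intro h1
        have htop : fixSpace T = ⊤ := eq_top_iff.2 fun v _ => by rw [mem_fixSpace, h1, Module.End.one_apply]
        rw [htop, finrank_top, hdim] at hfix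
        have := Nat.mod_lt n hc0
        omega
      · obtain ⟨hnf, hnm⟩ := nd_parts hrp hT hTr hUn hUi
        obtain ⟨a, ha⟩ := dvd_of_blocks hT hnm (hUi.inf (inv_ker_aeval T _)) hc0
          fun A' hle hn' hi' hne => move_block hF hrp hr2 hi hb hc hσ hT hTr hn' hi'
            (hle.trans inf_le_right) hne
        have hsp := split_finrank hrp hTr hUi
        rw [ha, hUm] at hsp
        have hle : finrank F ↥(U ⊓ fixSpace T) ≤ finrank F ↥(fixSpace T) := Submodule.finrank_mono inf_le_right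
        rw [hsp, Nat.add_mul_mod_self_left] at hk
        have := Nat.mod_le (finrank F ↥(U ⊓ fixSpace T)) c
        omega
    by_cases h4 : i % 4 = 2
    · have hcb : c = i / 2 := by rw [hc, if_neg (by omega), if_pos h4]
      have hbi : b = i / 2 := by rw [hb, if_pos (by rw [Nat.even_iff]; omega)]
      obtain ⟨V, _, _, _, φ, T, hσ, hε, hT, hTr, hdim, hfix, -⟩ :=
        exists_self_herm hF hrp hr2 i hi h4 (n % c) (n / c) 0 hn1 (by
          rw [← hbi, ← hord]
          have hne : ((q ^ 2 : ℕ) : ZMod r) ≠ 0 := fun h =>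
            not_dvd_q (F := F) hF hrp ((ZMod.natCast_eq_zero_iff _ r).1 h)
          exact Nat.div_pos (Nat.le_of_dvd (by omega) (ZMod.orderOf_dvd_card_sub_one hne))
            (by rw [hord]; exact hb0))
      rw [add_zero, ← hcb, mul_comm (n / c)] at hdim
      exact hfinal V φ T hσ hε hT hTr (by omega) hfix
    · have hcb : c = 2 * b := by
        rw [hb, hc]
        by_cases h0 : i % 4 = 0
        · rw [if_pos h0, if_pos (by rw [Nat.even_iff]; omega)]; omega
        · rw [if_neg h0, if_neg h4, if_neg (by rw [Nat.even_iff]; omega)]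
      obtain ⟨V, _, _, _, φ, T, hσ, hε, hT, hTr, hdim, hfix⟩ :=
        exists_pair_herm hF hrp (r := r) (n % c) (n / c)
      rw [hord, mul_right_comm, ← hcb] at hdim
      exact hfinal V φ T hσ hε hT hTr (by omega) hfix
  · intro hcond
    refine allNdFixU_of hF hn fun T hT hdet z hz hTr => ?_
    by_cases hroot : ¬ r ∣ q + 1 ∨ ∃ e : F, e ^ r = z
    · obtain ⟨e, he, he1⟩ := exists_root_norm hF hr2 hz hroot
      have he0 : e ≠ 0 := fun h => by rw [h, zero_pow (Nat.succ_ne_zero q)] at he1; exact zero_ne_one he1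
      have hTe : (e⁻¹ • T) ^ r = 1 := by
        rw [_root_.smul_pow, hTr, smul_smul, ← he, ← mul_pow, inv_mul_cancel₀ he0, one_pow, one_smul]
      have hk : m % c ≤ n % c := by
        rcases hcond with ⟨-, -, h⟩ | ⟨h, -⟩
        · exact h
        · have hc1 : c = 1 := by rw [hc, h]; rfl
          rw [hc1, Nat.mod_one, Nat.mod_one]
      obtain ⟨W, h1, h2, h3⟩ := unitary_nd_order hF hrp hr2 hi hb hc hc0 hmn hk
        (iso_smul hF hT (by rw [inv_pow, he1, _root_.inv_one])) hTe
      exact ⟨W, h1, h2, (Inv.smul_iff (inv_ne_zero he0)).1 h3⟩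
    · push Not at hroot
      obtain ⟨-, hcond⟩ := hcond.resolve_left fun h => h.1 (hiq.2 hroot.1)
      refine unitary_nd_irreducible hF (hcond.resolve_right fun hv => ?_) hmn hT hTr hroot.2
      have hirr : Irreducible (X ^ r - Polynomial.C z) :=
        X_pow_sub_C_irreducible_of_prime (Fact.out : r.Prime) hroot.2
      have hkill : aeval T (X ^ r - Polynomial.C z) = 0 := by
        rw [map_sub, map_pow, aeval_X, aeval_C, hTr, Algebra.algebraMap_eq_smul_one, sub_self]
      obtain ⟨k, hk, hkdet⟩ := det_of_irreducible hirr (monic_X_pow_sub_C z (Fact.out : r.Prime).ne_zero) hkill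
      rw [natDegree_X_pow_sub_C, Module.finrank_fin_fun] at hk
      rw [hdet, natDegree_X_pow_sub_C, coeff_sub, coeff_X_pow, coeff_C_zero,
        if_neg (Fact.out : r.Prime).ne_zero.symm, zero_sub,
        ((Fact.out : r.Prime).odd_of_ne_two (by omega)).neg_one_pow, neg_mul_neg, one_mul] at hkdet
      have hk0 : 0 < k := by rcases Nat.eq_zero_or_pos k with rfl | h <;> omega
      obtain ⟨e, he⟩ := root_or_bad hF hroot.1 hz hkdet.symm hk0 (hk ▸ hv)
      exact hroot.2 e he

/-- The criterion. -/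
theorem unitary_nd_iff (hn : 3 ≤ n) (hm : 1 ≤ m) (hmn : 2 * m < n)
    (hrΩ : r ∣ Nat.card {W : Submodule F (Fin n → F) // finrank F ↥W = m ∧
      (∀ u ∈ W, u ≠ 0 → ∃ v ∈ W, Cfsg.hermForm n F q u v ≠ 0)})
    (i b c : ℕ) (hi : i = orderOf (q : ZMod r)) (hb : b = if Even i then i / 2 else i)
    (hc : c = if i % 4 = 0 then i else if i % 4 = 2 then i / 2 else 2 * i) :
    AllNdFixU F q r n m ↔
    ((r = p ∧ 2 < p ∧ (∀ μ : Multiset ℕ, (∀ a ∈ μ, 0 < a ∧ a ≤ p) → μ.sum = n → ∃ ν : Multiset ℕ, ν ≤ μ ∧ ν.sum = m)) ∨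
     (r = p ∧ p = 2 ∧ (Odd n ∨ Even m)) ∨
     (r = 2 ∧ p ≠ 2 ∧ (Odd n ∨ Even m ∨ (padicValNat 2 n ≤ padicValNat 2 (q + 1) ∧ q % 4 = 3))) ∨
     (r ≠ p ∧ 2 < r ∧ ((i ≠ 2 ∧ c ≤ m ∧ m % c ≤ n % c) ∨ (i = 2 ∧ (r ∣ m ∨ padicValNat r n ≤ padicValNat r (q + 1)))))) := by
  have hn1 : 1 ≤ n := by omega
  have hr2 := (Fact.out : r.Prime).two_le
  rcases eq_or_ne r p with rfl | hrp
  · rcases eq_or_ne r 2 with rfl | h2
    · constructor
      · intro hall
        refine Or.inr (Or.inl ⟨rfl, rfl, ?_⟩)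
        by_contra hno
        rw [Nat.odd_iff, Nat.even_iff] at hno
        obtain ⟨ν, hν, hsum⟩ := unitary_nd_unip_nec hF hn1 (by omega) hall (Multiset.replicate (n / 2) 2)
          (fun a ha => by rw [Multiset.eq_of_mem_replicate ha]; omega)
          (fun a ha ho => absurd ho (by rw [Multiset.eq_of_mem_replicate ha]; decide))
          (by rw [Multiset.sum_replicate, smul_eq_mul]; omega)
        obtain ⟨k, -, rfl⟩ := Multiset.le_replicate_iff.1 hν
        rw [Multiset.sum_replicate, smul_eq_mul] at hsum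
        omega
      · rintro (⟨-, h, -⟩ | ⟨-, -, h⟩ | ⟨-, h, -⟩ | ⟨h, -⟩)
        · omega
        · exact unitary_nd_unip hF hn1 ((two_parts_iff n m hmn).2 h)
        · exact absurd rfl h
        · exact absurd rfl h
    · constructor
      · exact fun hall => Or.inl ⟨rfl, by omega, fun μ hμ hsum => unitary_nd_unip_nec hF hn1 (by omega)
          hall μ hμ (fun _ _ _ => H72.OrthTypeFix.two_ne_zero' h2) hsum⟩
      · rintro (⟨-, -, h⟩ | ⟨-, h, -⟩ | ⟨h, -⟩ | ⟨h, -⟩)
        · exact unitary_nd_unip hF hn1 h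
        · exact absurd h h2
        · exact absurd h h2
        · exact absurd rfl h
  rcases eq_or_ne r 2 with rfl | h2
  · have hp2 : p ≠ 2 := Ne.symm hrp
    constructor
    · intro hall
      refine Or.inr (Or.inr (Or.inl ⟨rfl, hp2, ?_⟩))
      by_contra hno
      simp only [not_or, Nat.not_odd_iff_even, Nat.not_even_iff_odd] at hno
      exact unitary_nd_two_witness hF hp2 hno.1 hn1 hno.2.1 hno.2.2 hall
    · rintro (⟨h, -⟩ | ⟨h, -⟩ | ⟨-, -, h⟩ | ⟨-, h, -⟩)
      · exact absurd h hrp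
      · exact absurd h hrp
      · exact unitary_nd_two hF hp2 hn1 (by omega) h
      · omega
  · rw [unitary_nd_odd hF hrp (by omega) hn1 hm (by omega) hi hb hc hrΩ]
    constructor
    · exact fun h => Or.inr (Or.inr (Or.inr ⟨hrp, by omega, h⟩))
    · rintro (⟨h, -⟩ | ⟨h, -⟩ | ⟨h, -⟩ | ⟨-, -, h⟩)
      · exact absurd h hrp
      · exact absurd h hrp
      · exact absurd h h2
      · exact h

end Cfsg.Agent.Linear.Elusive.Forms
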