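import Cfsg.Agent.Linear.Elusive.Forms.UnitaryTools
import Cfsg.Agent.Linear.Elusive.Criterion

/-!
Fixed totally isotropic subspaces of elements of odd prime order in the unitary groups.
-/

set_option autoImplicit false
set_option linter.unusedSectionVars false

namespace Cfsg.Agent.Linear.Elusive.Forms

open Polynomial Module

universe u

variable {F : Type u} [Field F] [Fintype F] {p q r : ℕ} [Fact p.Prime] [CharP F p] [Fact r.Prime]
  {n m : ℕ} (hF : Fintype.card F = q ^ 2)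
include hF

/-- Elements of order `r`. -/
theorem unitary_order (hrp : r ≠ p) (hr2 : 2 < r) (hmn : 2 * m ≤ n) (i b c : ℕ)
    (hi : i = orderOf (q : ZMod r)) (hb : b = if Even i then i / 2 else i)
    (hc : c = if i % 4 = 0 then i else if i % 4 = 2 then i / 2 else 2 * i)
    (hl : 2 * (m % b) ≤ n % c)
    (hcond : i % 4 ≠ 2 ∨ (r - 1) / b + 2 * (m / b) ≤ n / b)
    {T : End F (Fin n → F)} (hT : (stdHerm hF (Fin n)).Iso T) (hTr : T ^ r = 1) :
    ∃ W : Submodule F (Fin n → F),
      finrank F W = m ∧ (stdHerm hF (Fin n)).TI W ∧ Inv T W := by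
  obtain ⟨k, hk⟩ := exists_q_pow (p := p) hF
  have hord : orderOf ((q ^ 2 : ℕ) : ZMod r) = b := by rw [orderOf_sq i hi, ← hb]
  have hb0 : 0 < b := hord ▸ orderOf_pos_of_ne (r := r) (F := F) hF hrp
  have hi0 : 0 < i := by rw [hb] at hb0; split at hb0 <;> omega
  have hne : ((q ^ 2 : ℕ) : ZMod r) ≠ 0 := fun h =>
    not_dvd_q (F := F) hF hrp ((ZMod.natCast_eq_zero_iff _ r).1 h)
  obtain ⟨t, ht⟩ := ZMod.orderOf_dvd_card_sub_one hne
  rw [hord] at ht
  rw [ht, Nat.mul_div_cancel_left _ hb0] at hcond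
  have hU := uniform_cyclotomic (r := r) (F := F) hF hrp
  obtain ⟨K, hK1, hK2⟩ := dims_total (r := r) (F := F) hF hrp hTr
  rw [hord] at hU hK1 hK2
  rw [Module.finrank_fin_fun] at hK1
  obtain ⟨Wf, hWf, hft, hfd⟩ := exists_ti_herm (φ := stdHerm hF (Fin n)) (q₀ := q) ⟨k, hk⟩
    (by rw [hF, pow_two]) (fun x => rfl) (nd_fixSpace hrp hT hTr).1
  have hdm := Nat.div_add_mod n b
  have hdm' := Nat.div_add_mod m b
  rw [mul_comm K b] at hK1 hK2
  by_cases h4 : i % 4 = 2
  · obtain rfl : b = c := by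
      rw [hb, hc, if_pos (by rw [Nat.even_iff]; omega), if_neg (by omega), if_pos h4]
    have hbi : b = i / 2 := by rw [hb, if_pos (by rw [Nat.even_iff]; omega)]
    have hhalf : r ∣ q ^ b + 1 := hbi ▸ half_dvd hr2 hi hi0 (by rw [Nat.even_iff]; omega)
    obtain ⟨Wm, hWm, hmi, hmt, hmd'⟩ := exists_ti_move_self hrp hT hTr (s := q ^ b)
      ⟨k * b, by rw [hk, pow_mul]⟩
      (fun x => by
        obtain ⟨l, hl⟩ : ∃ l, b = 2 * l + 1 := ⟨b / 2, by omega⟩
        show x ^ q = _
        rw [hl, pow_succ, pow_mul q, ← hF, pow_mul, FiniteField.pow_card_pow])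
      hhalf (fun g hg hgd => by
        rw [hU.2 g hg hgd, hF, ← pow_mul, ← pow_add, two_mul])
    obtain ⟨w, hw⟩ : b ∣ finrank F Wm :=
      dvd_finrank hU hmi (fun v hv => LinearMap.mem_ker.1 (hWm hv))
    rw [hK2, hw, ht] at hmd'
    have hwm : finrank F Wm = w * b := by rw [hw, mul_comm]
    have hfk : n % b ≤ finrank F ↥(fixSpace T) := by
      rw [show n % b = (finrank F ↥(fixSpace T) + b * K) % b from congrArg (· % b) hK1,
        Nat.add_mul_mod_self_left]
      exact Nat.mod_le _ _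
    rcases Nat.lt_or_ge w (m / b) with hlt | hge
    · have h2 : b * (t + 2 * (m / b)) ≤ b * (n / b) :=
        Nat.mul_le_mul_left b (hcond.resolve_left (by omega))
      have e2 : b * (t + 2 * (m / b)) = b * t + 2 * (b * (m / b)) := by ring
      have h3 : b * w ≤ b * (m / b) := Nat.mul_le_mul_left b hlt.le
      obtain ⟨W, hWd, hWt, hWi⟩ := exists_ti_space hrp hT hU hWf hft hWm hmi hmt (b := w)
        (a := m - b * w) (by omega) (le_of_eq hwm.symm)
      exact ⟨W, by rw [hWd, mul_comm w b]; omega, hWt, hWi⟩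
    · obtain ⟨W, hWd, hWt, hWi⟩ := exists_ti_space hrp hT hU hWf hft hWm hmi hmt (b := m / b)
        (a := m % b) (by omega) (by rw [hwm]; exact Nat.mul_le_mul_right b hge)
      exact ⟨W, by rw [hWd, mul_comm (m / b) b]; omega, hWt, hWi⟩
  · have hcb : c = 2 * b := by
      rw [hb, hc]
      by_cases h0 : i % 4 = 0
      · rw [if_pos h0, if_pos (by rw [Nat.even_iff]; omega)]; omega
      · rw [if_neg h0, if_neg h4, if_neg (by rw [Nat.even_iff]; omega)]
    rw [hcb] at hl
    have hcop : ∀ g : F[X], Irreducible g → g ∣ cyclotomic r F →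
        IsCoprime g ((g.map (stdHerm hF (Fin n)).σ).comp (X ^ (r - 1))) := fun g hg hgd =>
      coprime_twist hrp (stdHerm hF (Fin n)).σ (q₀ := q) ⟨k, hk⟩ (fun x => rfl)
        (fun l => by rw [hF]; exact twist_exp hr2 hi h4 l) hg hgd
    obtain ⟨Wm, hWm, hmi, hmt, hmd'⟩ := exists_ti_move hrp hT hTr hcop
    obtain ⟨w, hw⟩ : b ∣ finrank F Wm :=
      dvd_finrank hU hmi (fun v hv => LinearMap.mem_ker.1 (hWm hv))
    have hwm : finrank F Wm = w * b := by rw [hw, mul_comm]
    rw [hK2, hw] at hmd'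
    have hfk : n % (2 * b) ≤ finrank F ↥(fixSpace T) := by
      rw [show n % (2 * b) = (finrank F ↥(fixSpace T) + b * K) % (2 * b) from
        congrArg (· % (2 * b)) hK1, ← hmd', ← mul_assoc, Nat.add_mul_mod_self_left]
      exact Nat.mod_le _ _
    rcases Nat.lt_or_ge w (m / b) with hlt | hge
    · have h3 : b * w ≤ b * (m / b) := Nat.mul_le_mul_left b hlt.le
      obtain ⟨W, hWd, hWt, hWi⟩ := exists_ti_space hrp hT hU hWf hft hWm hmi hmt (b := w)
        (a := m - b * w) (by omega) (le_of_eq hwm.symm)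
      exact ⟨W, by rw [hWd, mul_comm w b]; omega, hWt, hWi⟩
    · obtain ⟨W, hWd, hWt, hWi⟩ := exists_ti_space hrp hT hU hWf hft hWm hmi hmt (b := m / b)
        (a := m % b) (by omega) (by rw [hwm]; exact Nat.mul_le_mul_right b hge)
      exact ⟨W, by rw [hWd, mul_comm (m / b) b]; omega, hWt, hWi⟩

/-- The scalar is an `r`-th power, or `r` divides the order with multiplicity above that in `q + 1`. -/
theorem root_or_bad (hrq : r ∣ q + 1) {z : F} (hz : z ^ (q + 1) = 1) {k : ℕ} (hk : z ^ k = 1)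
    (hk0 : 0 < k) (hv : padicValNat r (r * k) ≤ padicValNat r (q + 1)) : ∃ e : F, e ^ r = z := by
  have hq0 := Unitary.q_pos hF
  have hd : r ∣ Fintype.card F - 1 := hrq.trans (succ_dvd hF)
  obtain ⟨c, hc⟩ := Nat.gcd_dvd_right k (q + 1)
  have hrc : r ∣ c := by
    by_contra hnd
    have h1 : r ^ padicValNat r (q + 1) ∣ Nat.gcd k (q + 1) * c := hc ▸ pow_padicValNat_dvd
    have h2 : r ^ padicValNat r (q + 1) ∣ k :=
      (((Fact.out : r.Prime).coprime_iff_not_dvd.2 hnd).pow_left _ |>.dvd_of_dvd_mul_right h1).trans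
        (Nat.gcd_dvd_left _ _)
    have h3 : r ^ (padicValNat r (q + 1) + 1) ∣ r * k := by
      rw [pow_succ']; exact mul_dvd_mul_left r h2
    have h4 := (padicValNat_dvd_iff_le (Nat.mul_ne_zero (Fact.out : r.Prime).ne_zero hk0.ne')).1 h3
    omega
  obtain ⟨c', rfl⟩ := hrc
  refine exists_root_of_pow hd (fun h => by
    rw [h, zero_pow (Nat.succ_ne_zero q)] at hz; exact zero_ne_one hz) ?_
  have hg : z ^ Nat.gcd k (q + 1) = 1 := pow_gcd_eq_one.2 ⟨hk, hz⟩
  rw [card_sub_one hF, hc, show Nat.gcd k (q + 1) * (r * c') * (q - 1) =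
    r * (Nat.gcd k (q + 1) * (c' * (q - 1))) by ring, Nat.mul_div_cancel_left _ (Fact.out : r.Prime).pos,
    pow_mul, hg, one_pow]

/-- Elements whose power is a scalar which is not an `r`-th power. -/
theorem unitary_irreducible (hrp : r ≠ p) (hr2 : 2 < r) (hrq : r ∣ q + 1) (hmn : 2 * m ≤ n)
    (hcond : r ∣ m ∨ padicValNat r n ≤ padicValNat r (q + 1)) (hn : 1 ≤ n)
    {T : End F (Fin n → F)} (hT : (stdHerm hF (Fin n)).Iso T) (hdet : LinearMap.det T = 1) {z : F}
    (hz : z ^ (q + 1) = 1) (hTr : T ^ r = z • (1 : End F (Fin n → F))) (hnr : ∀ e : F, e ^ r ≠ z) :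
    ∃ W : Submodule F (Fin n → F),
      finrank F W = m ∧ (stdHerm hF (Fin n)).TI W ∧ Inv T W := by
  obtain ⟨a, ha⟩ := exists_q_pow (p := p) hF
  have hirr : Irreducible (X ^ r - Polynomial.C z) :=
    X_pow_sub_C_irreducible_of_prime (Fact.out : r.Prime) hnr
  have hm' : (X ^ r - Polynomial.C z).Monic := monic_X_pow_sub_C z (Fact.out : r.Prime).ne_zero
  have hkill : aeval T (X ^ r - Polynomial.C z) = 0 := by
    rw [map_sub, map_pow, aeval_X, aeval_C, hTr, Algebra.algebraMap_eq_smul_one, sub_self]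
  have hdeg : (X ^ r - Polynomial.C z).natDegree = r := natDegree_X_pow_sub_C
  obtain ⟨k, hk, hkdet⟩ := det_of_irreducible hirr hm' hkill
  rw [hdeg, Module.finrank_fin_fun] at hk
  rw [hdet, hdeg, coeff_sub, coeff_X_pow, coeff_C_zero, if_neg (Fact.out : r.Prime).ne_zero.symm,
    zero_sub, ((Fact.out : r.Prime).odd_of_ne_two (by omega)).neg_one_pow, neg_mul_neg, one_mul] at hkdet
  have hk0 : 0 < k := by rcases Nat.eq_zero_or_pos k with rfl | h <;> omega
  have hrm : r ∣ m := hcond.resolve_right fun hv => by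
    obtain ⟨e, he⟩ := root_or_bad hF hrq hz hkdet.symm hk0 (hk ▸ hv)
    exact hnr e he
  obtain ⟨m', rfl⟩ := hrm
  have hsum : r * (q + 1) ∣ q ^ r + 1 := by
    have hodd : Odd r := (Fact.out : r.Prime).odd_of_ne_two (by omega)
    have h1 : ((∑ l ∈ Finset.range r, (-(q : ℤ)) ^ l)) * ((q : ℤ) + 1) = (q : ℤ) ^ r + 1 := by
      have := geom_sum_mul (-(q : ℤ)) r
      rw [hodd.neg_pow] at this
      linear_combination -this
    have h2 : (r : ℤ) ∣ ∑ l ∈ Finset.range r, (-(q : ℤ)) ^ l := by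
      rw [← ZMod.intCast_zmod_eq_zero_iff_dvd]
      push_cast
      have hq1 : -(q : ZMod r) = 1 := by
        have : ((q + 1 : ℕ) : ZMod r) = 0 := (ZMod.natCast_eq_zero_iff _ r).2 hrq
        push_cast at this
        linear_combination -this
      simp [hq1]
    rw [← Int.natCast_dvd_natCast]
    push_cast
    rw [← h1]
    exact mul_dvd_mul_right h2 _
  obtain ⟨l, hl⟩ := hsum
  have hTs : T ^ (q ^ r + 1) = 1 := by
    rw [hl, mul_assoc, pow_mul, hTr, _root_.smul_pow, one_pow, pow_mul, hz, one_pow, one_smul]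
  obtain ⟨W, C, -, hWi, hWt, -, hCi, hC, -, hdim, hno⟩ :=
    exists_maxTI hT hirr.squarefree hkill (inv_top T) RForm.nd_top
  have hb := finrank_le_natDegree hT (s := q ^ r) ⟨a * r, by rw [ha, pow_mul]⟩
    (fun x => by
      obtain ⟨l, hl⟩ : ∃ l, r = 2 * l + 1 := (Fact.out : r.Prime).odd_of_ne_two (by omega)
      show x ^ q = _
      rw [hl, pow_succ, pow_mul q, ← hF, pow_mul, FiniteField.pow_card_pow])
    hTs hirr (by rw [hdeg, hF, ← pow_mul, ← pow_add, two_mul]) hCi hC
    (fun v _ => by rw [hkill, LinearMap.zero_apply]) hno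
  have hu := uniform_of_irreducible hirr
  rw [hdeg] at hu hb
  obtain ⟨w, hw⟩ := dvd_finrank hu hWi (fun v _ => by rw [hkill, LinearMap.zero_apply])
  obtain ⟨c, hc⟩ := dvd_finrank hu hCi (fun v _ => by rw [hkill, LinearMap.zero_apply])
  rw [finrank_top, Module.finrank_fin_fun, hw, hc, hk] at hdim
  rw [hc] at hb
  have hc1 : c ≤ 1 := Nat.le_of_mul_le_mul_left (hb.trans (mul_one r).ge) (Fact.out : r.Prime).pos
  have hdim' : 2 * w + c = k :=
    Nat.eq_of_mul_eq_mul_left (Fact.out : r.Prime).pos (by rw [← hdim]; ring)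
  have h2m : 2 * m' ≤ k := Nat.le_of_mul_le_mul_left
    (show r * (2 * m') ≤ r * k by rw [← hk]; linarith) (Fact.out : r.Prime).pos
  have hle : m' * r ≤ finrank F W := by
    rw [hw, mul_comm r w]; exact Nat.mul_le_mul_right r (by omega)
  obtain ⟨U, hU, hUi, hUd⟩ := exists_inv_finrank hu hWi
    (fun v _ => by rw [hkill, LinearMap.zero_apply]) m' hle
  exact ⟨U, by rw [hUd, mul_comm], hWt.mono hU, hUi⟩

/-- Elements of odd prime order. -/
theorem unitary_odd (hrp : r ≠ p) (hr2 : 2 < r) (hn : 1 ≤ n) (hmn : 2 * m ≤ n) (i b c : ℕ)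
    (hi : i = orderOf (q : ZMod r)) (hb : b = if Even i then i / 2 else i)
    (hc : c = if i % 4 = 0 then i else if i % 4 = 2 then i / 2 else 2 * i)
    (hl : 2 * (m % b) ≤ n % c)
    (hcond : i % 4 ≠ 2 ∨ (i % 4 = 2 ∧ (r - 1) / b + 2 * (m / b) ≤ n / b ∧
      (2 < i ∨ (i = 2 ∧ (r ∣ m ∨ padicValNat r n ≤ padicValNat r (q + 1))))))
    {T : End F (Fin n → F)} (hT : (stdHerm hF (Fin n)).Iso T) (hdet : LinearMap.det T = 1) {z : F}
    (hTr : T ^ r = z • (1 : End F (Fin n → F))) :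
    ∃ W : Submodule F (Fin n → F),
      finrank F W = m ∧ (stdHerm hF (Fin n)).TI W ∧ Inv T W := by
  have hz := scalar_norm hF hn hT hTr
  by_cases hroot : ¬ r ∣ q + 1 ∨ ∃ e : F, e ^ r = z
  · obtain ⟨e, he, he1⟩ := exists_root_norm hF hr2 hz hroot
    have he0 : e ≠ 0 := fun h => by rw [h, zero_pow (Nat.succ_ne_zero q)] at he1; exact zero_ne_one he1
    have hTe : (e⁻¹ • T) ^ r = 1 := by
      rw [_root_.smul_pow, hTr, smul_smul, ← he, ← mul_pow, inv_mul_cancel₀ he0, one_pow, one_smul]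
    obtain ⟨W, h1, h2, h3⟩ := unitary_order hF hrp hr2 hmn i b c hi hb hc hl
      (hcond.imp_right fun h => h.2.1) (iso_smul hF hT (by rw [inv_pow, he1, _root_.inv_one])) hTe
    exact ⟨W, h1, h2, (Inv.smul_iff (inv_ne_zero he0)).1 h3⟩
  · push Not at hroot
    have hi2 : i = 2 := by
      have h : (q : ZMod r) = -1 := by
        have := (ZMod.natCast_eq_zero_iff (q + 1) r).2 hroot.1
        push_cast at this
        linear_combination this
      rw [hi, h]
      exact orderOf_eq_prime (by ring) (neg_one_ne_one hr2)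
    rcases hcond with h | ⟨-, -, h | ⟨-, h⟩⟩
    · omega
    · omega
    · exact unitary_irreducible hF hrp hr2 hroot.1 hmn h hn hT hdet hz hTr hroot.2

end Cfsg.Agent.Linear.Elusive.Forms
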