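import Cfsg.Agent.Linear.Elusive.Forms.UnitaryModels

/-!
Elements and matrices for the unitary groups.
-/

set_option autoImplicit false
set_option linter.unusedSectionVars false

namespace Cfsg.Agent.Linear.Elusive.Forms

open Polynomial Module

universe u

variable {F : Type u} [Field F] [Fintype F] {p q r : ℕ} [Fact p.Prime] [CharP F p] [Fact r.Prime]
  {n m : ℕ}

theorem exists_orderOf_eq (hd : r ∣ Fintype.card F - 1) : ∃ x : F, x ≠ 0 ∧ x ^ r = 1 ∧ x ≠ 1 := by
  obtain ⟨x, hx⟩ := exists_prime_orderOf_dvd_card' (G := Fˣ) r (by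
    rwa [Nat.card_units, Nat.card_eq_fintype_card])
  refine ⟨x, x.ne_zero, ?_, fun h => ?_⟩
  · rw [← Units.val_pow_eq_pow_val, ← hx, pow_orderOf_eq_one, Units.val_one]
  · rw [Units.val_eq_one.1 h, orderOf_one] at hx
    exact (Fact.out : r.Prime).one_lt.ne hx

theorem exists_orderOf_of_dvd {d : ℕ} (hd : d ∣ Fintype.card F - 1) :
    ∃ x : F, x ≠ 0 ∧ orderOf x = d := by
  obtain ⟨g, hg⟩ := IsCyclic.exists_ofOrder_eq_natCard (α := Fˣ)
  rw [Nat.card_units, Nat.card_eq_fintype_card] at hg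
  obtain ⟨k, hk⟩ := hd
  have hpos : 0 < d * k := by rw [← hk]; have := Fintype.one_lt_card (α := F); omega
  refine ⟨((g ^ k : Fˣ) : F), Units.ne_zero _, ?_⟩
  rw [orderOf_units, orderOf_pow_of_dvd (by rintro rfl; simp at hpos) (by rw [hg, hk]; exact dvd_mul_left _ _),
    hg, hk, Nat.mul_div_cancel _ (Nat.pos_of_ne_zero (by rintro rfl; simp at hpos))]

theorem exists_root_of_pow (hd : r ∣ Fintype.card F - 1) {z : F} (hz0 : z ≠ 0)
    (hz : z ^ ((Fintype.card F - 1) / r) = 1) : ∃ e : F, e ^ r = z := by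
  obtain ⟨g, hg⟩ := IsCyclic.exists_generator (α := Fˣ)
  obtain ⟨j, hj⟩ := mem_powers_iff_mem_zpowers.2 (hg (Units.mk0 z hz0))
  simp only at hj
  obtain ⟨k, hk⟩ := hd
  have hord : orderOf g = r * k := by
    rw [orderOf_eq_card_of_forall_mem_zpowers hg, Nat.card_units, Nat.card_eq_fintype_card, hk]
  have h1 : g ^ (j * k) = 1 := by
    rw [pow_mul, hj]
    refine Units.ext ?_
    rw [Units.val_pow_eq_pow_val, Units.val_mk0, Units.val_one]
    rwa [hk, Nat.mul_div_cancel_left _ (Fact.out : r.Prime).pos] at hz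
  have hdvd := orderOf_dvd_of_pow_eq_one h1
  rw [hord] at hdvd
  have hk0 : 0 < k := by
    rcases Nat.eq_zero_or_pos k with rfl | h
    · have := Fintype.one_lt_card (α := F); rw [mul_zero] at hk; omega
    · exact h
  obtain ⟨l, rfl⟩ := Nat.dvd_of_mul_dvd_mul_right hk0 hdvd
  refine ⟨((g ^ l : Fˣ) : F), ?_⟩
  rw [← Units.val_pow_eq_pow_val, ← pow_mul, mul_comm, hj, Units.val_mk0]

section unitary

variable (hF : Fintype.card F = q ^ 2)
include hF

theorem card_sub_one : Fintype.card F - 1 = (q + 1) * (q - 1) := by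
  rw [hF, ← Nat.sq_sub_sq, one_pow]

theorem succ_dvd : q + 1 ∣ Fintype.card F - 1 := ⟨q - 1, card_sub_one hF⟩

theorem not_dvd_pred (hr2 : 2 < r) (hd : r ∣ q + 1) : ¬ r ∣ q - 1 := fun h => by
  have := Nat.dvd_sub hd h
  rw [show q + 1 - (q - 1) = 2 by have := Unitary.q_pos hF; omega] at this
  have := Nat.le_of_dvd two_pos this
  omega

/-- A scalar of norm one that is an `r`-th power is one of a scalar of norm one. -/
theorem exists_root_norm (hr2 : 2 < r) {z : F} (hz : z ^ (q + 1) = 1)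
    (h : ¬ r ∣ q + 1 ∨ ∃ e : F, e ^ r = z) : ∃ e : F, e ^ r = z ∧ e ^ (q + 1) = 1 := by
  by_cases hd : r ∣ q + 1
  · obtain ⟨e, he⟩ := h.resolve_left (not_not_intro hd)
    refine ⟨e, he, ?_⟩
    have he0 : e ≠ 0 := fun h0 => by
      rw [h0, zero_pow (by omega)] at he
      rw [← he, zero_pow (Nat.succ_ne_zero q)] at hz
      exact zero_ne_one hz
    have h1 : (e ^ (q + 1)) ^ r = 1 := by rw [← pow_mul, mul_comm, pow_mul, he, hz]
    have h2 : (e ^ (q + 1)) ^ (q - 1) = 1 := by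
      rw [← pow_mul, ← card_sub_one hF, FiniteField.pow_card_sub_one_eq_one e he0]
    have h3 := pow_gcd_eq_one.2 ⟨h1, h2⟩
    rwa [((Fact.out : r.Prime).coprime_iff_not_dvd.2 (not_dvd_pred hF hr2 hd)).gcd_eq_one, pow_one] at h3
  · have hcop : r.Coprime (orderOf z) := ((Fact.out : r.Prime).coprime_iff_not_dvd.2 hd).coprime_dvd_right
      (orderOf_dvd_of_pow_eq_one hz)
    obtain ⟨k, hk⟩ := exists_pow_eq_self_of_coprime hcop
    refine ⟨z ^ k, by rw [← pow_mul, mul_comm, pow_mul, hk], ?_⟩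
    rw [← pow_mul, mul_comm, pow_mul, hz, one_pow]

theorem eq_one_of_pow {x : F} (h : ¬ r ∣ q + 1) (hr : x ^ r = 1) (hn : x ^ (q + 1) = 1) : x = 1 := by
  have h3 := pow_gcd_eq_one.2 ⟨hr, hn⟩
  rwa [((Fact.out : r.Prime).coprime_iff_not_dvd.2 h).gcd_eq_one, pow_one] at h3

theorem stdHerm_smul (a b : F) (u v : Fin n → F) :
    (stdHerm hF (Fin n)).B (a • u) (b • v) = a * b ^ q * (stdHerm hF (Fin n)).B u v := by
  rw [stdHerm_apply, stdHerm_apply, Unitary.herm_smul_left, Unitary.herm_smul_right, mul_assoc]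

theorem iso_of_preserves {M : Matrix (Fin n) (Fin n) F} (hM : Unitary.Preserves q M) :
    (stdHerm hF (Fin n)).Iso (Matrix.toLin' M) := fun u v => by
  rw [stdHerm_apply, stdHerm_apply, Matrix.toLin'_apply, Matrix.toLin'_apply]
  exact hM u v

/-- A scalar power of an isometry has norm one. -/
theorem scalar_norm (hn : 1 ≤ n) {T : End F (Fin n → F)} (hT : (stdHerm hF (Fin n)).Iso T) {z : F}
    (hz : T ^ r = z • (1 : End F (Fin n → F))) : z ^ (q + 1) = 1 := by
  haveI : Nonempty (Fin n) := ⟨⟨0, hn⟩⟩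
  obtain ⟨v, hv⟩ := exists_ne (0 : Fin n → F)
  obtain ⟨w, hw⟩ : ∃ w, (stdHerm hF (Fin n)).B v w ≠ 0 := by
    by_contra h
    push Not at h
    exact hv ((stdHerm hF (Fin n)).nondeg v h)
  have h1 := hT.pow r v w
  rw [hz] at h1
  have h2 : z ^ (q + 1) * (stdHerm hF (Fin n)).B v w = 1 * (stdHerm hF (Fin n)).B v w := by
    rw [one_mul, pow_succ']
    conv_rhs => rw [← h1]
    show _ = (stdHerm hF (Fin n)).B (z • v) (z • w)
    rw [stdHerm_smul]
  exact mul_right_cancel₀ hw h2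

/-- Scaling by a norm one root. -/
theorem iso_smul {T : End F (Fin n → F)} (hT : (stdHerm hF (Fin n)).Iso T) {e : F}
    (he : e ^ (q + 1) = 1) : (stdHerm hF (Fin n)).Iso (e • T) := fun u v => by
  rw [LinearMap.smul_apply, LinearMap.smul_apply, stdHerm_smul, hT u v, ← pow_succ', he, one_mul]

/-- The conditions on a fixed totally isotropic space. -/
theorem witness_iff {M : Matrix (Fin n) (Fin n) F} (W : Submodule F (Fin n → F)) :
    ((stdHerm hF (Fin n)).TI W ∧ Inv (Matrix.toLin' M) W) ↔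
      ((∀ u ∈ W, ∀ v ∈ W, Cfsg.hermForm n F q u v = 0) ∧ W.map (Matrix.toLin' M) ≤ W) :=
  ⟨fun h => ⟨fun u hu v hv => by rw [← stdHerm_apply hF]; exact h.1 hv u hu, h.2⟩,
    fun h => ⟨fun v hv u hu => by rw [stdHerm_apply]; exact h.1 u hu v hv, h.2⟩⟩

/-- A matrix without fixed totally isotropic `m`-spaces. -/
theorem not_all_of_matrix {M : Matrix (Fin n) (Fin n) F} (hM : Unitary.Preserves q M)
    (hdet : M.det = 1) {z : F} (hpow : M ^ r = z • (1 : Matrix (Fin n) (Fin n) F))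
    (hns : ∀ c : F, M ≠ c • (1 : Matrix (Fin n) (Fin n) F))
    (hno : ∀ U : Submodule F (Fin n → F), Inv (Matrix.toLin' M) U → (stdHerm hF (Fin n)).TI U →
      finrank F U ≠ m) :
    ¬ ∀ x : Matrix.SpecialLinearGroup (Fin n) F, x ∈ Cfsg.SU n F q →
      (∃ z : F, ((x ^ r : Matrix.SpecialLinearGroup (Fin n) F) : Matrix (Fin n) (Fin n) F) = z • (1 : Matrix (Fin n) (Fin n) F)) →
      (∀ z : F, (x : Matrix (Fin n) (Fin n) F) ≠ z • (1 : Matrix (Fin n) (Fin n) F)) →
      ∃ W : Submodule F (Fin n → F), finrank F ↥W = m ∧ (∀ u ∈ W, ∀ v ∈ W, Cfsg.hermForm n F q u v = 0) ∧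
        W.map (Matrix.toLin' (x : Matrix (Fin n) (Fin n) F)) ≤ W := by
  intro hall
  obtain ⟨W, h1, h2, h3⟩ := hall ⟨M, hdet⟩ hM ⟨z, (Matrix.SpecialLinearGroup.coe_pow _ _).trans hpow⟩ hns
  obtain ⟨h4, h5⟩ := (witness_iff hF W).2 ⟨h2, h3⟩
  exact hno W h5 h4 h1

/-- A model isometry of order `r`, prime to `q + 1`. -/
theorem not_all_of_model_herm (hn : 1 ≤ n) (hr : ¬ r ∣ q + 1) {V : Type u} [AddCommGroup V]
    [Module F V] [FiniteDimensional F V] (φ : RForm F V) (hσ : φ.σ = conj hF) (hε : φ.ε = 1)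
    (hdim : finrank F V = n) {T : End F V} (hT : φ.Iso T) (hTr : T ^ r = 1) (hT1 : T ≠ 1)
    (hno : ∀ U : Submodule F V, Inv T U → φ.TI U → finrank F U ≠ m) :
    ¬ ∀ x : Matrix.SpecialLinearGroup (Fin n) F, x ∈ Cfsg.SU n F q →
      (∃ z : F, ((x ^ r : Matrix.SpecialLinearGroup (Fin n) F) : Matrix (Fin n) (Fin n) F) = z • (1 : Matrix (Fin n) (Fin n) F)) →
      (∀ z : F, (x : Matrix (Fin n) (Fin n) F) ≠ z • (1 : Matrix (Fin n) (Fin n) F)) →
      ∃ W : Submodule F (Fin n → F), finrank F ↥W = m ∧ (∀ u ∈ W, ∀ v ∈ W, Cfsg.hermForm n F q u v = 0) ∧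
        W.map (Matrix.toLin' (x : Matrix (Fin n) (Fin n) F)) ≤ W := by
  obtain ⟨M, e, hM, hMd, he, hMe⟩ := exists_unitary hF φ hσ hε hdim hT
  have hpow : ∀ k v, (Matrix.toLin' M ^ k) (e v) = e ((T ^ k) v) := by
    intro k
    induction k with
    | zero => exact fun v => rfl
    | succ k ih => intro v; rw [pow_succ, pow_succ, Module.End.mul_apply, Module.End.mul_apply, hMe, ih]
  have hdet : M.det = 1 := by
    refine eq_one_of_pow hF hr ?_ ?_
    · rw [hMd, ← map_pow, hTr, map_one]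
    · rw [pow_succ']
      exact hM.det_norm hF
  refine not_all_of_matrix hF hM hdet (z := 1) ?_ (fun c hc => hT1 ?_) fun U hUi hUt => ?_
  · refine Matrix.toLin'.injective (LinearMap.ext fun w => ?_)
    obtain ⟨v, rfl⟩ := e.surjective w
    rw [Matrix.toLin'_pow, hpow, hTr, one_smul, Matrix.toLin'_one]
    rfl
  · have hTc : ∀ v, T v = c • v := fun v => e.injective (by
      rw [← hMe, hc, map_smul, Matrix.toLin'_one, LinearMap.smul_apply, LinearMap.id_apply, map_smul])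
    have hTk : T = c • (1 : End F V) := LinearMap.ext fun v => by rw [hTc]; rfl
    haveI : Nontrivial V := Module.nontrivial_of_finrank_pos (R := F) (by omega)
    obtain ⟨v, hv⟩ := exists_ne (0 : V)
    have hcr : c ^ r = 1 := smul_left_injective F hv (by
      have := LinearMap.congr_fun hTr v
      rw [hTk, _root_.smul_pow, one_pow] at this
      simpa using this)
    have hz : Matrix.toLin' M ^ 1 = c • (1 : End F (Fin n → F)) := by
      rw [pow_one, hc, map_smul, Matrix.toLin'_one]; rfl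
    obtain ⟨w, hw⟩ : ∃ w, φ.B v w ≠ 0 := by
      by_contra h
      push Not at h
      exact hv (φ.nondeg v h)
    have hcn : c ^ (q + 1) = 1 := by
      have h1 := hT v w
      rw [hTc, hTc, map_smul φ.B c v, LinearMap.smul_apply, LinearMap.map_smulₛₗ,
        show φ.σ c = c ^ q from RingHom.congr_fun hσ c, smul_smul, smul_eq_mul] at h1
      rw [pow_succ']
      exact mul_right_cancel₀ hw (h1.trans (one_mul _).symm)
    rw [hTk, eq_one_of_pow hF hr hcr hcn, one_smul]
  · have h := hno (U.map e.symm.toLinearMap) ?_ ?_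
    · rwa [LinearEquiv.finrank_map_eq e.symm U] at h
    · rintro _ ⟨_, ⟨w, hw, rfl⟩, rfl⟩
      refine ⟨_, hUi ⟨w, hw, rfl⟩, ?_⟩
      apply e.injective
      rw [LinearEquiv.coe_coe, e.apply_symm_apply, ← hMe, e.apply_symm_apply]
    · rintro _ ⟨w, hw, rfl⟩ _ ⟨v, hv, rfl⟩
      rw [LinearEquiv.coe_coe, ← he, e.apply_symm_apply, e.apply_symm_apply, ← stdHerm_apply hF]
      exact hUt hw v hv

omit hF

theorem toLin_diagonal (a : Fin n → F) : Matrix.toLin' (Matrix.diagonal a) = mulEnd (F := F) a :=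
  LinearMap.ext fun x => funext fun k => by
    rw [Matrix.toLin'_apply, Matrix.mulVec_diagonal, mulEnd_apply]

include hF

theorem preserves_diagonal (a : Fin n → F) (ha : ∀ k, a k ^ (q + 1) = 1) :
    Unitary.Preserves q (Matrix.diagonal a) := fun u v => by
  simp only [Cfsg.hermForm, Matrix.mulVec_diagonal]
  refine Finset.sum_congr rfl fun k _ => ?_
  rw [mul_pow, mul_mul_mul_comm, ← pow_succ', ha, one_mul]

/-- Totally isotropic invariant spaces of a diagonal element with distinct nontrivial entries. -/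
theorem diag_bound (hrp : r ≠ p) (hrq : r ∣ q + 1) {a : Fin n → F} (ha : ∀ k, a k ^ r = 1)
    (hinj : ∀ k l, a k ≠ 1 → a k = a l → k = l) {U : Submodule F (Fin n → F)}
    (hUi : Inv (mulEnd (F := F) a) U) (hUt : (stdHerm hF (Fin n)).TI U) :
    2 * finrank F U ≤ Nat.card {k // a k = 1} := by
  classical
  obtain ⟨j, hj⟩ : ∃ j, j = orderOf ((q ^ 2 : ℕ) : ZMod r) := ⟨_, rfl⟩
  have hd : r ∣ Fintype.card F - 1 := hrq.trans (succ_dvd hF)
  have hj1 : j = 1 := by rw [hj, orderOf_eq_one_iff hF, ← hF]; exact hd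
  obtain ⟨k, hk⟩ := exists_q_pow (p := p) hF
  obtain ⟨l, hl⟩ := hrq
  have hnorm : ∀ i, a i * a i ^ q = 1 := fun i => by rw [← pow_succ', hl, pow_mul, ha, one_pow]
  have hT := iso_stdHerm hF (Fin n) hnorm
  have hTr : mulEnd (F := F) a ^ r = 1 := by
    rw [mulEnd_pow]
    exact LinearMap.ext fun x => funext fun i => by simp [mulEnd_apply, ha]
  obtain ⟨ζ, hζ0, hζr, hζ1⟩ := exists_orderOf_eq (F := F) hd
  obtain ⟨P, hP⟩ : X - Polynomial.C ζ ∣ cyclotomic r F := by
    rw [dvd_iff_isRoot]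
    have h0 : ((X - 1 : F[X]) * cyclotomic r F).eval ζ = 0 := by
      rw [X_sub_one_mul_cyclotomic, eval_sub, eval_pow, eval_X, eval_one, hζr, sub_self]
    rw [eval_mul, mul_eq_zero, eval_sub, eval_X, eval_one, sub_eq_zero] at h0
    exact h0.resolve_left hζ1
  have hker : ∀ g : F[X], Irreducible g → g ∣ cyclotomic r F →
      finrank F (LinearMap.ker (aeval (mulEnd (F := F) a) g)) ≤ 1 := by
    intro g hg hgd
    rw [aeval_mulEnd, finrank_ker_mulEnd, Module.finrank_self, one_mul,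
      Finite.card_le_one_iff_subsingleton]
    refine ⟨fun ⟨x, hx⟩ ⟨y, hy⟩ => Subtype.ext ?_⟩
    have hdeg : g.natDegree = 1 := by
      rw [(uniform_cyclotomic (r := r) hF hrp).2 g hg hgd, ← hj, hj1]
    obtain ⟨c, hc0, d, hcd⟩ := natDegree_eq_one.1 hdeg
    have hne : ∀ z : F, aeval z g = 0 → z ≠ 1 := fun z hz h => eval_one_ne_zero hrp hgd (by
      subst h; simpa using hz)
    refine hinj x y (hne _ hx) ?_
    rw [← hcd, map_add, map_mul, aeval_C, aeval_C, aeval_X] at hx hy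
    exact mul_left_cancel₀ hc0 (by simpa using hx.trans hy.symm)
  obtain ⟨a', b', hab, ha', hb', -⟩ := ti_parts hF hrp hT hTr hUi hUt
  rw [← hj, hj1, mul_one] at hab hb'
  have hb := ti_move_le hF hrp hT hTr (s := q) ⟨k, hk⟩ (fun c => rfl) ⟨l, hl⟩ hP (fun g hg hgP => by
    rw [← hj, hj1]
    exact hker g hg (hgP.trans ⟨_, by rw [hP, mul_comm]⟩)) hUi hUt
  have hgs := hker _ (irreducible_X_sub_C ζ) ⟨P, hP⟩
  rw [hb'] at hb
  have hfix : finrank F ↥(fixSpace (mulEnd (F := F) a)) = Nat.card {k // a k = 1} := by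
    rw [fixSpace, aeval_mulEnd, finrank_ker_mulEnd, Module.finrank_self, one_mul]
    exact Nat.card_congr (Equiv.subtypeEquivRight fun i => by simp [sub_eq_zero])
  omega

end unitary

end Cfsg.Agent.Linear.Elusive.Forms
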